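import Cfsg.Agent.Fi22Cent.GoodPair

/-!
An inner involution outside the radical with abelian centraliser in the radical lies in the second class of the
natural case.
-/

set_option autoImplicit false
set_option maxRecDepth 100000
set_option maxHeartbeats 1000000
set_option linter.style.haveILetI false
set_option linter.unusedSectionVars false

open scoped Matrix

namespace CfsgLib.Fi22Cent

open CfsgLib CfsgLib.U62Cent Subgroup
open CfsgLib.FiLarge (F4 om)
open CfsgLib.Unitary (suMat suMat_mul suMat_one su_ext)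

universe v

/-- A linear isometry fixing the line of the standard involution belongs to the unitary group. -/
theorem lin_mem {f : V4 → V4} (hadd : ∀ v w, f (v + w) = f v + f w) (hl : ∀ (c : F4) v, f (c • v) = c • f v)
    (h4' : ∀ u v, h4 (f u) (f v) = h4 u v) (hfix : ∀ v, LS v → f v = v) : ∃ u : U4, ∀ v, f v = suMat u *ᵥ v := by
  have self : ∀ c : F4, c + c = 0 := by decide +kernel
  have img : ∀ v, LS (f v + v) := fun v => by
    refine s_perp _ ?_ ?_
    · have h := h4' v p0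
      rw [hfix p0 (by decide +kernel)] at h
      rw [h4_add_left, h]; exact self _
    · have h := h4' v p1
      rw [hfix p1 (by decide +kernel)] at h
      rw [h4_add_left, h]; exact self _
  have dec : ∀ x : V4, LS x → x = x 0 • p0 + x 2 • p1 := fun x hx => by
    funext i
    fin_cases i <;> simp [p0, p1, hx.1, hx.2]
  set w1 : V4 := ![1, 0, 0, 0] with hw1
  set w2 : V4 := ![0, 0, 1, 0] with hw2
  have e1 : f w1 = w1 + ((f w1 + w1) 0 • p0 + (f w1 + w1) 2 • p1) := by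
    rw [← dec _ (img _), add_comm (f w1), ← add_assoc, v4_self, zero_add]
  have e2 : f w2 = w2 + ((f w2 + w2) 0 • p0 + (f w2 + w2) 2 • p1) := by
    rw [← dec _ (img _), add_comm (f w2), ← add_assoc, v4_self, zero_add]
  have key : ∀ a β γ c : F4,
      h4 ((![1, 0, 0, 0] : V4) + (a • p0 + β • p1)) ((![1, 0, 0, 0] : V4) + (a • p0 + β • p1)) = 1 →
      h4 ((![0, 0, 1, 0] : V4) + (γ • p0 + c • p1)) ((![0, 0, 1, 0] : V4) + (γ • p0 + c • p1)) = 1 →
      h4 ((![1, 0, 0, 0] : V4) + (a • p0 + β • p1)) ((![0, 0, 1, 0] : V4) + (γ • p0 + c • p1)) = 0 →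
      (a = 0 ∨ a = 1) ∧ (c = 0 ∨ c = 1) ∧ γ = β * β := by decide +kernel
  obtain ⟨ha, hc, hg⟩ := key _ _ _ _ (by rw [← hw1, ← e1, h4']; decide +kernel)
    (by rw [← hw2, ← e2, h4']; decide +kernel) (by rw [← hw1, ← hw2, ← e1, ← e2, h4']; decide +kernel)
  set a := (f w1 + w1) 0
  set β := (f w1 + w1) 2
  set γ := (f w2 + w2) 0
  set c := (f w2 + w2) 2
  have form : ∀ v, f v =
      v + ((v 0 + v 1) * a + (v 2 + v 3) * (β * β)) • p0 + ((v 0 + v 1) * β + (v 2 + v 3) * c) • p1 := fun v => by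
    have hsplit : v = (v 0 + v 1) • w1 + (v 2 + v 3) • w2 + (![v 1, v 1, v 3, v 3] : V4) := by
      have t : ∀ x y : F4, x = x + y + y := fun x y => by rw [add_assoc, self y, add_zero]
      funext i
      fin_cases i <;> simp [hw1, hw2] <;> exact t _ _
    conv_lhs => rw [hsplit]
    rw [hadd, hadd, hl, hl, e1, e2, hfix _ (show LS (![v 1, v 1, v 3, v 3] : V4) from ⟨by simp, by simp⟩), hg]
    conv_rhs => arg 1; arg 1; rw [hsplit]
    simp only [smul_add, smul_smul, add_smul]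
    abel
  -- the off-diagonal part
  obtain ⟨m, hm⟩ : ∃ m : U4, ∀ v : V4,
      suMat m *ᵥ v = v + ((v 2 + v 3) * (β * β)) • p0 + ((v 0 + v 1) * β) • p1 := by
    by_cases hβ : β = 0
    · exact ⟨1, fun v => by rw [su_one_apply, hβ]; simp⟩
    · refine ⟨s0 * tvp (qv β), fun v => ?_⟩
      rw [su_mul_apply, tvp_apply (qv_pt β), s0_apply]
      have k : ∀ (v : V4) (β : F4), β ≠ 0 → (![(v + h4 v (qv β) • qv β) 1, (v + h4 v (qv β) • qv β) 0,
          (v + h4 v (qv β) • qv β) 3, (v + h4 v (qv β) • qv β) 2] : V4) =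
          v + ((v 2 + v 3) * (β * β)) • p0 + ((v 0 + v 1) * β) • p1 := by decide +kernel
      exact k v β hβ
  let t0 : U4 := if a = 0 then 1 else tvp p0
  let t1 : U4 := if c = 0 then 1 else tvp p1
  refine ⟨t0 * (t1 * m), fun v => ?_⟩
  have q0 : ∀ v, suMat t0 *ᵥ v = v + ((v 0 + v 1) * a) • p0 := fun v => by
    have k : ∀ v : V4, h4 v p0 = v 0 + v 1 := by decide +kernel
    rcases ha with e | e <;> simp only [t0, e]
    · simp [su_one_apply]
    · rw [if_neg one_ne_zero, tvp_apply p0_pt, k, mul_one]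
  have q1 : ∀ v, suMat t1 *ᵥ v = v + ((v 2 + v 3) * c) • p1 := fun v => by
    have k : ∀ v : V4, h4 v p1 = v 2 + v 3 := by decide +kernel
    rcases hc with e | e <;> simp only [t1, e]
    · simp [su_one_apply]
    · rw [if_neg one_ne_zero, tvp_apply p1_pt.1, k, mul_one]
  have s01 : ∀ (w : V4) (x : F4), (w + x • p0) 0 + (w + x • p0) 1 = w 0 + w 1 := fun w x => by
    simp [p0, show w 0 + x + (w 1 + x) = w 0 + w 1 + (x + x) by abel, self]
  have s11 : ∀ (w : V4) (x : F4), (w + x • p1) 0 + (w + x • p1) 1 = w 0 + w 1 := fun w x => by simp [p1]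
  have s02 : ∀ (w : V4) (x : F4), (w + x • p0) 2 + (w + x • p0) 3 = w 2 + w 3 := fun w x => by simp [p0]
  have s12 : ∀ (w : V4) (x : F4), (w + x • p1) 2 + (w + x • p1) 3 = w 2 + w 3 := fun w x => by
    simp [p1, show w 2 + x + (w 3 + x) = w 2 + w 3 + (x + x) by abel, self]
  rw [su_mul_apply, su_mul_apply, hm, q1, q0, form]
  simp only [s01, s11, s02, s12, add_smul]
  abel

variable {G : Type*} [Group G] [Finite G] {V : Type v} [AddCommGroup V] [Module (ZMod 2) V]
  {z a : G} {R : Rep V}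

namespace St

/-- The elements of the radical centralised by `m` commute with each other. -/
def Ab (D : St z a R) (m : G) : Prop := ∀ i ∈ D.J, ∀ j ∈ D.J, Commute i m → Commute j m → Commute i j

variable (D : St z a R)

include D

/-- The moved-at-most-by-centre part of a shift. -/
theorem inF_move {m : G} (hm : m ∈ D.H0) {d : U4} (hd : d * D.ph m = D.ph m * d) {v : V}
    (hv : R.r (D.ph m) v = v) : D.InF m (R.r d v + v) := by
  obtain ⟨h, hh, rfl⟩ := D.ph_surj d
  exact D.inF_shift hm hh hd (by rw [D.act_H0 hm]; exact hv)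

/-- Two orthogonal hyperbolic pairs moved at most by the centre. -/
theorem ab_false {m : G} (hab : D.Ab m) {u0 u1 u2 u3 : V} (f0 : D.InF m u0) (f1 : D.InF m u1) (f2 : D.InF m u2)
    (f3 : D.InF m u3) (hmz : Commute m z) (h01 : R.B u0 u1 = 1) (h23 : R.B u2 u3 = 1) (h02 : R.B u0 u2 = 0)
    (h03 : R.B u0 u3 = 0) (h12 : R.B u1 u2 = 0) (h13 : R.B u1 u3 = 0) : False := by
  have iso : ∀ {v w : V}, D.InS m v → D.InS m w → R.B v w = 0 := fun {v w} hv hw => by
    obtain ⟨i, hi, rfl, hix⟩ := hv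
    obtain ⟨j, hj, rfl, hjx⟩ := hw
    exact (D.comm_iff hi hj).1 (hab i hi j hj hix hjx)
  have one : ∀ {u w : V}, D.InF m u → D.InF m w → R.B u w = 1 →
      ∃ k n, D.InS m k ∧ D.InF m n ∧ ¬ D.InS m n ∧ R.B k n = 1 ∧ (k = u ∨ k = w ∨ k = u + w) ∧ (n = u ∨ n = w) := by
    intro u w hu hw huw
    have ne : ∀ {p q : V}, D.InS m p → D.InS m q → R.B p q = 1 → False := fun hp hq e =>
      zero_ne_one ((iso hp hq).symm.trans e)
    by_cases a : D.InS m u
    · exact ⟨u, w, a, hw, fun q => ne a q huw, huw, Or.inl rfl, Or.inr rfl⟩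
    by_cases b : D.InS m w
    · exact ⟨w, u, b, hu, a, by rwa [R.B_comm], Or.inr (Or.inl rfl), Or.inl rfl⟩
    exact ⟨u + w, u, D.inS_of_two hu hw a b, hu, a, by rw [R.B_add_left, R.B_smul_self, zero_add, R.B_comm]; exact huw,
      Or.inr (Or.inr rfl), Or.inl rfl⟩
  obtain ⟨k, n, hk, fn, nn, hkn, ek, en⟩ := one f0 f1 h01
  obtain ⟨k', n', -, fn', nn', -, -, en'⟩ := one f2 f3 h23
  have h0 : R.B k n' = 0 := by
    rcases ek with rfl | rfl | rfl <;> rcases en' with rfl | rfl <;>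
      simp only [R.B_add_left, h02, h03, h12, h13, add_zero]
  have := iso hk (D.inS_of_two fn fn' nn nn')
  rw [R.B_add_right, hkn, h0, add_zero] at this
  exact one_ne_zero this

/-- Normalisation keeps the hypothesis. -/
theorem ab_conj {m h : G} (hh : h ∈ D.H0) (hab : D.Ab m) : D.Ab (h * m * h⁻¹) := by
  intro i hi j hj hix hjx
  have hhz := D.H0_comm h hh
  have key : ∀ {w : G}, w ∈ D.J → Commute w (h * m * h⁻¹) → h⁻¹ * w * h ∈ D.J ∧ Commute (h⁻¹ * w * h) m :=
    fun {w} hw hc => by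
    refine ⟨by simpa using D.J_norm h⁻¹ hhz.inv_left w hw, ?_⟩
    simpa [MulAut.conj_apply, mul_assoc] using hc.map (MulAut.conj h⁻¹).toMonoidHom
  have := (hab _ (key hi hix).1 _ (key hj hjx).1 (key hi hix).2 (key hj hjx).2).map (MulAut.conj h).toMonoidHom
  simpa [MulAut.conj_apply, mul_assoc] using this

/-- The reducible case has none. -/
theorem ab_tri (hT : R.IsTri) {m : G} (hm : m ∈ D.H0) (hm2 : m * m = 1) (hmJ : m ∉ D.J) (hab : D.Ab m) : False := by
  have hu2 : D.ph m * D.ph m = 1 := by rw [← D.ph_mul _ hm _ hm, hm2, D.ph_one]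
  have hu1 : D.ph m ≠ 1 := fun e => hmJ ((D.ph_J m hm).1 e)
  obtain ⟨x0, hx0, x00, -, x1, hx1, x10, x11⟩ := Rep.X0_vectors (R := R) hT
  have h01 : R.B x0 x1 = 1 := ((by decide : ∀ b : ZMod 2, b = 0 ∨ b = 1) _).resolve_left
    (Rep.X0_pair hT hx0 hx1 x00 x10 (Ne.symm x11))
  obtain ⟨b, hb, b0⟩ := Submodule.exists_mem_ne_zero_of_ne_bot
    (show R.X 4 ≠ ⊥ from fun e => by have := (Rep.tri_card4 hT).1; rw [e] at this; simp at this)
  have hb1 := R.rot_mem hb
  have hb2 := R.rot_mem hb1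
  have h3 : R.rot 4 b + b = R.rot 4 (R.rot 4 b) :=
    eq_of_sum_zero (by rw [add_comm (R.rot 4 b)]; exact R.orb_sum hb)
  have hb0' : R.rot 4 b ≠ 0 := fun e => b0 (by
    have hs := R.orb_sum hb; rwa [e, map_zero, add_zero, add_zero] at hs)
  have hb2' : R.rot 4 (R.rot 4 b) ≠ 0 := fun e => hb0' (by
    have hs := R.orb_sum hb1; rwa [e, map_zero, add_zero, add_zero] at hs)
  have hB : R.B (R.rot 4 b) (R.rot 4 (R.rot 4 b)) = 1 := by
    have hne : R.rot 4 b + R.rot 4 (R.rot 4 b) ≠ 0 := fun e => by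
      have := R.orb_sum hb; rw [add_assoc, e, add_zero] at this; exact b0 this
    have h := R.q_block (Rep.tri_card4 hT).1 (add_mem hb1 hb2) hne
    rw [R.q_add, R.q_block (Rep.tri_card4 hT).1 hb1 hb0', R.q_block (Rep.tri_card4 hT).1 hb2 hb2'] at h
    exact (by decide : ∀ c : ZMod 2, 1 + 1 + c = 1 → c = 1) _ h
  -- normalise
  have main : ∀ m : G, m ∈ D.H0 → D.Ab m → (∀ v ∈ R.X 4, R.r (D.ph m) v = v) →
      ∀ d : U4, d * D.ph m = D.ph m * d → ∀ l : LT, (∀ v, R.r d v = R.act l v) → pair4 (chs 4) l = 2 → False := by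
    intro m hm hab hfix d hd l hl hp
    have em : ∀ {v : V}, v ∈ R.X 4 → R.r d v + v = R.rot 4 (R.rot 4 v) + v := fun hv => by
      rw [hl, R.act_X_two hv hp]
    have g2 : R.r d b + b = R.rot 4 b := by
      rw [em hb, ← h3, add_assoc, two_self, add_zero]
    have g3 : R.r d (R.rot 4 b) + R.rot 4 b = R.rot 4 (R.rot 4 b) := by
      rw [em hb1]
      have e3 : R.rot 4 (R.rot 4 (R.rot 4 b)) = b := by
        rw [← h3, map_add, ← h3, add_comm (R.rot 4 b) b, add_assoc, two_self, add_zero]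
      rw [e3, add_comm b, h3]
    refine D.ab_false hab (D.inF_fixed hm fun u => Rep.tri_fix hT u x0 hx0)
      (D.inF_fixed hm fun u => Rep.tri_fix hT u x1 hx1)
      (u2 := R.rot 4 b) (g2 ▸ D.inF_move hm hd (hfix b hb)) (u3 := R.rot 4 (R.rot 4 b))
      (g3 ▸ D.inF_move hm hd (hfix _ hb1)) (D.H0_comm m hm) h01 hB
      (R.blk_orth0 hx0 hb1) (R.blk_orth0 hx0 hb2) (R.blk_orth0 hx1 hb1) (R.blk_orth0 hx1 hb2)
  have norm : ∀ c e : U4, c * D.ph m * c⁻¹ = e →
      ∃ m' ∈ D.H0, D.Ab m' ∧ D.ph m' = e := fun c e hc => by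
    obtain ⟨h, hh, rfl⟩ := D.ph_surj c
    refine ⟨_, mul_mem (mul_mem hh hm) (inv_mem hh), D.ab_conj hh hab, ?_⟩
    rw [D.ph_mul _ (mul_mem hh hm) _ (inv_mem hh), D.ph_mul _ hh _ hm, D.ph_inv hh, hc]
  rcases invol_cases hu2 hu1 with ⟨p, hp, e⟩ | ⟨c, hc⟩
  · obtain ⟨c, hc⟩ := to_p0 hp
    obtain ⟨m', hm', hab', e'⟩ := norm c (tvp p0) (by rw [e, tvp_conj hp, hc])
    exact main m' hm' hab' (fun v hv => by rw [e']; exact t_fix4 hT hv) d1 (by rw [e', d1_tau]) D1
      (fun v => rfl) (by decide +kernel)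
  · obtain ⟨m', hm', hab', e'⟩ := norm c s0 hc
    exact main m' hm' hab' (fun v hv => by rw [e']; exact s_fix4 hT hv) d3 (by rw [e', d3_s0]) M3
      (fun v => rfl) pair_M3.1

end St

namespace St

variable {z a : G} (D : St z a R4)

include D

/-- In the natural case it is conjugate to the standard one of the second class. -/
theorem ab_nat {m : G} (hm : m ∈ D.H0) (hm2 : m * m = 1) (hmJ : m ∉ D.J) (hab : D.Ab m) :
    ∃ h ∈ D.H0, D.ph (h * m * h⁻¹) = s0 := by
  have hu2 : D.ph m * D.ph m = 1 := by rw [← D.ph_mul _ hm _ hm, hm2, D.ph_one]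
  have hu1 : D.ph m ≠ 1 := fun e => hmJ ((D.ph_J m hm).1 e)
  have norm : ∀ c e : U4, c * D.ph m * c⁻¹ = e → ∃ h ∈ D.H0, D.ph (h * m * h⁻¹) = e := fun c e hc => by
    obtain ⟨h, hh, rfl⟩ := D.ph_surj c
    exact ⟨h, hh, by rw [D.ph_mul _ (mul_mem hh hm) _ (inv_mem hh), D.ph_mul _ hh _ hm, D.ph_inv hh, hc]⟩
  rcases invol_cases hu2 hu1 with ⟨p, hp, e⟩ | ⟨c, hc⟩
  · exfalso
    obtain ⟨c, hc⟩ := to_p0 hp
    obtain ⟨h, hh, e'⟩ := norm c (tvp p0) (by rw [e, tvp_conj hp, hc])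
    have hm' : h * m * h⁻¹ ∈ D.H0 := mul_mem (mul_mem hh hm) (inv_mem hh)
    have hd : d3 * tvp p0 = tvp p0 * d3 := by
      have h := tvp_conj p0_pt d3
      rw [d3_pts.1, tvp_smul p0_pt (by decide +kernel)] at h
      exact mul_inv_eq_iff_eq_mul.1 h
    have hF : ∀ v : V4, h4 v p0 = 0 → D.InF (h * m * h⁻¹) (suMat d3 *ᵥ v + v) := fun v hv =>
      D.inF_move hm' (by rw [e', hd]) (by rw [e', R4_r, tvp_apply p0_pt, hv, zero_smul, add_zero])
    have f : ∀ w : V4, w 0 = 0 → w 1 = 0 → D.InF (h * m * h⁻¹) w := fun w w0 w1 => by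
      have h2 := hF ![0, 0, (om * om) * w 2, (om * om) * w 3] (by revert w; decide +kernel)
      have e : suMat d3 *ᵥ (![0, 0, (om * om) * w 2, (om * om) * w 3] : V4) +
          ![0, 0, (om * om) * w 2, (om * om) * w 3] = w := by
        rw [d3_apply]; clear h2; revert w; decide +kernel
      rwa [e] at h2
    refine D.ab_false (D.ab_conj hh hab) (u0 := ![0, 0, 1, 0]) (u1 := ![0, 0, om, 0]) (u2 := ![0, 0, 0, 1])
      (u3 := ![0, 0, 0, om]) (f _ rfl rfl) (f _ rfl rfl) (f _ rfl rfl) (f _ rfl rfl) (D.H0_comm _ hm') ?_ ?_ ?_ ?_ ?_ ?_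
    all_goals (rw [R4_B]; decide +kernel)
  · exact norm c s0 hc

end St

end CfsgLib.Fi22Cent
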