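import Cfsg.Agent.Fi22Cent.BuildRad

/-!
The coordinates of the centraliser.
-/

set_option autoImplicit false
set_option maxRecDepth 100000
set_option maxHeartbeats 1000000
set_option linter.style.haveILetI false
set_option linter.unusedSectionVars false
set_option linter.unusedVariables false

namespace CfsgLib.Fi22Cent

open CfsgLib CfsgLib.U62Cent Subgroup
open CfsgLib.Fi23Cent (conj_psp_inj cent_inn inn_le_normal)
open scoped commutatorElement

universe u

/-- The radical from the hypotheses. -/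
theorem exists_rad {G : Type u} [Group G] [Finite G] (z : G) (hz : orderOf z = 2)
    (A E : Subgroup ↥(centralizer ({z} : Set G)))
    (hAE : Cfsg.IsInternalDirectProduct A E (Cfsg.pCore 2 ↥(centralizer ({z} : Set G)))) (hA : Nat.card ↥A = 2)
    (hE : Cfsg.IsExtraspecial 2 ↥E) (hEc : Nat.card ↥E = 2 ^ 9)
    (zc : ↥(centralizer ({z} : Set G))) (hzc : (zc : G) = z)
    (hJ' : ⁅Cfsg.pCore 2 ↥(centralizer ({z} : Set G)), Cfsg.pCore 2 ↥(centralizer ({z} : Set G))⁆ = zpowers zc)
    (hCJ : centralizer ((Cfsg.pCore 2 ↥(centralizer ({z} : Set G))) : Set ↥(centralizer ({z} : Set G))) ≤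
      Cfsg.pCore 2 ↥(centralizer ({z} : Set G))) :
    ∃ (P : Rad z) (a : G), a ∈ P.Z ∧ a ≠ 1 ∧ a ≠ z ∧ (∀ w ∈ P.Z, w = 1 ∨ w = z ∨ w = a ∨ w = a * z) ∧
      P.J = (Cfsg.pCore 2 ↥(centralizer ({z} : Set G))).map (centralizer ({z} : Set G)).subtype := by
  classical
  haveI : Fact (Nat.Prime 2) := ⟨Nat.prime_two⟩
  set J0 := Cfsg.pCore 2 ↥(centralizer ({z} : Set G)) with hJ0
  haveI hJn : J0.Normal := Solvable.pCore_normal 2
  obtain ⟨hAle, hEle, hAEc, hAEi, hAEs⟩ := hAE
  obtain ⟨a0, ha0⟩ : ∃ a : A, a ≠ 1 := by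
    haveI : Nontrivial A := Finite.one_lt_card_iff_nontrivial.1 (by rw [hA]; norm_num)
    exact exists_ne 1
  set a : ↥(centralizer ({z} : Set G)) := (a0 : ↥(centralizer ({z} : Set G))) with ha
  have ha1 : a ≠ 1 := fun h => ha0 (Subtype.ext h)
  have hAall : ∀ x ∈ A, x = 1 ∨ x = a := by
    intro x hx
    by_contra hn
    push Not at hn
    let f : Fin 3 → A := ![1, a0, ⟨x, hx⟩]
    have hf : Function.Injective f := by
      intro i j e
      have e' : ((f i : A) : ↥(centralizer ({z} : Set G))) = f j := congrArg Subtype.val e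
      fin_cases i <;> fin_cases j <;> simp [f, ← ha, ha1, ha1.symm, hn.1, hn.2, hn.1.symm, hn.2.symm] at e' ⊢
    have := Nat.card_le_card_of_injective f hf
    rw [hA, Nat.card_fin] at this
    omega
  have ha2 : a * a = 1 := by
    rcases hAall _ (mul_mem a0.2 a0.2) with h | h
    · exact h
    · exact absurd (mul_eq_left.1 h) ha1
  have haE : a ∉ E := fun h => ha1 (mem_bot.1 (hAEi ▸ (⟨a0.2, h⟩ : a ∈ A ⊓ E)))
  let M : Subgroup ↥(centralizer ({z} : Set G)) :=
    { carrier := {x | ∃ b ∈ E, ∃ v ∈ A, x = b * v}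
      one_mem' := ⟨1, one_mem _, 1, one_mem _, by simp⟩
      mul_mem' := by
        rintro x y ⟨b, hb, v, hv, rfl⟩ ⟨b', hb', v', hv', rfl⟩
        refine ⟨b * b', mul_mem hb hb', v * v', mul_mem hv hv', ?_⟩
        calc b * v * (b' * v') = b * (v * b') * v' := by group
          _ = b * (b' * v) * v' := by rw [hAEc v hv b' hb']
          _ = _ := by group
      inv_mem' := by
        rintro x ⟨b, hb, v, hv, rfl⟩
        exact ⟨b⁻¹, inv_mem hb, v⁻¹, inv_mem hv, by
          rw [_root_.mul_inv_rev, hAEc v⁻¹ (inv_mem hv) b⁻¹ (inv_mem hb)]⟩ }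
  have hdec : ∀ j ∈ J0, ∃ b ∈ E, j = b ∨ j = b * a := by
    intro j hj
    rw [← hAEs] at hj
    obtain ⟨b, hb, v, hv, rfl⟩ := (sup_le (fun x hx => ⟨1, one_mem _, x, hx, by simp⟩)
      (fun x hx => ⟨x, hx, 1, one_mem _, by simp⟩) : A ⊔ E ≤ M) hj
    refine ⟨b, hb, ?_⟩
    rcases hAall v hv with rfl | rfl
    · exact Or.inl (mul_one b)
    · exact Or.inr rfl
  have hac : ∀ j ∈ J0, Commute j a := fun j hj => by
    obtain ⟨b, hb, rfl | rfl⟩ := hdec j hj
    · exact (hAEc a a0.2 _ hb).symm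
    · exact (show Commute b a from (hAEc a a0.2 b hb).symm).mul_left (Commute.refl a)
  have hcen : ∀ x : ↥(centralizer ({z} : Set G)), Commute x zc := fun x => Subtype.ext (by
    show (x : G) * zc = zc * x
    rw [hzc]
    exact mem_centralizer_singleton_iff.1 x.2)
  obtain ⟨W8, _, _, ⟨D⟩⟩ := Geo.ExtraOut.exists_data hE
  set zE : ↥(centralizer ({z} : Set G)) := ((D.z : E) : ↥(centralizer ({z} : Set G)))
  have hzc1 : zc ≠ 1 := fun h => by
    have h1 : z = 1 := by rw [← hzc, h]; rfl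
    rw [h1, orderOf_one] at hz; omega
  have hcomm : ∀ p ∈ J0, ∀ q ∈ J0, ⁅p, q⁆ = 1 ∨ ⁅p, q⁆ = zE := by
    intro p hp q hq
    obtain ⟨b, hb, hp'⟩ := hdec p hp
    obtain ⟨b', hb', hq'⟩ := hdec q hq
    have e : ⁅p, q⁆ = ⁅b, b'⁆ := by
      have h1 : Commute b a := hac b (hEle hb)
      have h2 : Commute b' a := hac b' (hEle hb')
      rcases hp' with rfl | rfl <;> rcases hq' with rfl | rfl
      · rfl
      · rw [commutatorElement_def, commutatorElement_def]
        calc p * (b' * a) * p⁻¹ * (b' * a)⁻¹ = p * b' * (a * p⁻¹) * a⁻¹ * b'⁻¹ := by group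
          _ = _ := by rw [h1.inv_left.eq.symm]; group
      · rw [commutatorElement_def, commutatorElement_def]
        calc b * a * q * (b * a)⁻¹ * q⁻¹ = b * (a * q) * a⁻¹ * b⁻¹ * q⁻¹ := by group
          _ = _ := by rw [h2.eq.symm]; group
      · rw [commutatorElement_def, commutatorElement_def]
        calc b * a * (b' * a) * (b * a)⁻¹ * (b' * a)⁻¹ = b * (a * b') * (b⁻¹ * a⁻¹) * b'⁻¹ := by group
          _ = b * (b' * a) * (a⁻¹ * b⁻¹) * b'⁻¹ := by rw [h2.eq, (h1.inv_left.inv_right).eq]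
          _ = _ := by group
    rw [e]
    rcases D.center_cases (D.comm_mem ⟨b, hb⟩ ⟨b', hb'⟩) with h | h
    · exact Or.inl (congrArg Subtype.val h)
    · exact Or.inr (congrArg Subtype.val h)
  have hzE : zc = zE := by
    have h1 : zc ∈ ⁅J0, J0⁆ := by rw [hJ']; exact mem_zpowers zc
    have h2 : ⁅J0, J0⁆ ≤ zpowers zE := commutator_le.2 fun p hp q hq => by
      rcases hcomm p hp q hq with h | h <;> rw [h]
      exacts [one_mem _, mem_zpowers _]
    obtain ⟨i, hi⟩ := mem_zpowers_iff.1 (h2 h1)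
    have hz2 : zE ^ (2 : ℤ) = 1 := by rw [zpow_two]; exact congrArg Subtype.val D.z_mul_z
    rcases Int.even_or_odd' i with ⟨k, rfl | rfl⟩
    · rw [zpow_mul, hz2, one_zpow] at hi
      exact absurd hi.symm hzc1
    · rw [zpow_add, zpow_mul, hz2, one_zpow, one_mul, zpow_one] at hi
      exact hi.symm
  have hzEm : zc ∈ E := hzE ▸ (D.z : E).2
  have hza : a ≠ zc := fun h => haE (h ▸ hzEm)
  have hzc2 : zc * zc = 1 := hzE ▸ congrArg Subtype.val D.z_mul_z
  set ι := (centralizer ({z} : Set G)).subtype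
  have hι : Function.Injective ι := (centralizer ({z} : Set G)).subtype_injective
  let Z0 : Subgroup ↥(centralizer ({z} : Set G)) :=
    { carrier := {w | w = 1 ∨ w = zc ∨ w = a ∨ w = a * zc}
      one_mem' := Or.inl rfl
      mul_mem' := by
        have h1 : zc * a = a * zc := (hcen a).eq.symm
        have h2 : a * zc * zc = a := by rw [mul_assoc, hzc2, mul_one]
        have h3 : a * (a * zc) = zc := by rw [← mul_assoc, ha2, one_mul]
        have h4 : zc * (a * zc) = a := by rw [← mul_assoc, h1, h2]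
        have h5 : a * zc * a = zc := by rw [mul_assoc, h1, h3]
        have h6 : a * zc * (a * zc) = 1 := by rw [← mul_assoc, h5, hzc2]
        rintro x y (rfl | rfl | rfl | rfl) (rfl | rfl | rfl | rfl) <;>
          simp [hzc2, ha2, h1, h2, h3, h4, h5, h6]
      inv_mem' := by
        have i1 : zc⁻¹ = zc := inv_eq_of_mul_eq_one_right hzc2
        have i2 : a⁻¹ = a := inv_eq_of_mul_eq_one_right ha2
        rintro x (rfl | rfl | rfl | rfl) <;> simp [i1, i2, (hcen a).eq] }
  have hZJ : Z0 ≤ J0 := by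
    rintro x (rfl | rfl | rfl | rfl)
    exacts [one_mem _, hEle hzEm, hAle a0.2, mul_mem (hAle a0.2) (hEle hzEm)]
  refine ⟨{
    z_sq := by rw [← pow_two, ← hz, pow_orderOf_eq_one]
    z_ne := fun h => by rw [h, orderOf_one] at hz; omega
    J := J0.map ι
    J_comm := by rintro _ ⟨j, -, rfl⟩; exact mem_centralizer_singleton_iff.1 j.2
    z_mem := ⟨zc, hEle hzEm, hzc⟩
    J_norm := by
      rintro h hh _ ⟨j, hj, rfl⟩
      exact ⟨⟨h, mem_centralizer_singleton_iff.2 hh.eq⟩ * j * ⟨h, mem_centralizer_singleton_iff.2 hh.eq⟩⁻¹,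
        hJn.conj_mem j hj _, rfl⟩
    Z := Z0.map ι
    Z_le := map_mono hZJ
    Z_sq := by
      rintro _ ⟨w, hw, rfl⟩
      have : w * w = 1 := by
        rcases hw with rfl | rfl | rfl | rfl
        · exact one_mul 1
        · exact hzc2
        · exact ha2
        · rw [mul_assoc, ← mul_assoc zc a, ← (hcen a).eq, mul_assoc a zc zc, hzc2, mul_one, ha2]
      rw [← map_mul, this, map_one]
    Z_cen := by
      rintro _ ⟨j, hj, rfl⟩ _ ⟨w, hw, rfl⟩
      refine (show Commute j w from ?_).map ι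
      rcases hw with rfl | rfl | rfl | rfl
      exacts [Commute.one_right j, hcen j, hac j hj, (hac j hj).mul_right (hcen j)]
    cen_Z := by
      rintro _ ⟨x, hx, rfl⟩ hall
      refine mem_map_of_mem ι ?_
      have hall' : ∀ j ∈ J0, Commute x j := fun j hj => Subtype.ext (hall _ (mem_map_of_mem ι hj))
      obtain ⟨b, hb, hx'⟩ := hdec x hx
      have hbc : (⟨b, hb⟩ : E) ∈ Subgroup.center E := mem_center_iff.2 fun q => Subtype.ext (by
        have h1 := hall' q (hEle q.2)
        rcases hx' with rfl | rfl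
        · exact h1.eq.symm
        · have h2 := h1.mul_left (hac q (hEle q.2)).symm
          rw [mul_assoc, ha2, mul_one] at h2
          exact h2.eq.symm)
      rcases D.center_cases hbc with h | h <;> have hb' := congrArg Subtype.val h <;> rcases hx' with rfl | rfl
      · exact Or.inl hb'
      · exact Or.inr (Or.inr (Or.inl (by rw [show b = 1 from hb', one_mul])))
      · exact Or.inr (Or.inl (hb'.trans hzE.symm))
      · exact Or.inr (Or.inr (Or.inr (by
          rw [show b = zc from hb'.trans hzE.symm, ← (hcen a).eq])))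
    E := E.map ι
    E_le := map_mono hEle
    E_extra := LargeExtra.isExtraspecial_equiv (E.equivMapOfInjective ι hι) hE
    E_card := by rw [Subgroup.card_map_of_injective hι, hEc]
    E_Z := by
      rintro _ ⟨x, hx, rfl⟩ ⟨y, hy, e1⟩
      have : y = x := hι e1
      subst this
      rcases hy with rfl | rfl | rfl | rfl
      · left; rfl
      · right; exact hzc
      · exact absurd hx haE
      · refine absurd ?_ haE
        have := mul_mem hx hzEm
        rwa [mul_assoc, hzc2, mul_one] at this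
    J_EZ := by
      rintro _ ⟨j, hj, rfl⟩
      obtain ⟨b, hb, rfl | rfl⟩ := hdec j hj
      · exact ⟨_, mem_map_of_mem ι hb, 1, one_mem _, (mul_one _).symm⟩
      · exact ⟨_, mem_map_of_mem ι hb, _, mem_map_of_mem ι (show a ∈ Z0 from Or.inr (Or.inr (Or.inl rfl))),
          map_mul ι b a⟩
    self := fun h hh hall => mem_map_of_mem ι (x := ⟨h, mem_centralizer_singleton_iff.2 hh.eq⟩)
      (hCJ (mem_centralizer_iff.2 fun j hj => Subtype.ext (hall _ (mem_map_of_mem ι hj)).eq.symm)) },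
    (a : G), mem_map_of_mem ι (show a ∈ Z0 from Or.inr (Or.inr (Or.inl rfl))),
    fun h => ha1 (Subtype.ext h), fun h => hza (Subtype.ext (h.trans hzc.symm)), ?_, rfl⟩
  rintro _ ⟨w, hw, rfl⟩
  rcases hw with rfl | rfl | rfl | rfl
  · exact Or.inl rfl
  · exact Or.inr (Or.inl hzc)
  · exact Or.inr (Or.inr (Or.inl rfl))
  · exact Or.inr (Or.inr (Or.inr (by rw [map_mul]; exact congrArg _ hzc)))

/-- The coordinates from the hypotheses. -/
theorem exists_st {G : Type u} [Group G] [Finite G] (z : G) (hz : orderOf z = 2)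
    {F : Type*} [Field F] [Fintype F] (hF : Fintype.card F = 3)
    (A E : Subgroup ↥(centralizer ({z} : Set G)))
    (hAE : Cfsg.IsInternalDirectProduct A E (Cfsg.pCore 2 ↥(centralizer ({z} : Set G)))) (hA : Nat.card ↥A = 2)
    (hE : Cfsg.IsExtraspecial 2 ↥E) (hEc : Nat.card ↥E = 2 ^ 9)
    (zc : ↥(centralizer ({z} : Set G))) (hzc : (zc : G) = z)
    (hJ' : ⁅Cfsg.pCore 2 ↥(centralizer ({z} : Set G)), Cfsg.pCore 2 ↥(centralizer ({z} : Set G))⁆ = zpowers zc)
    (hCJ : centralizer ((Cfsg.pCore 2 ↥(centralizer ({z} : Set G))) : Set ↥(centralizer ({z} : Set G))) ≤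
      Cfsg.pCore 2 ↥(centralizer ({z} : Set G)))
    [hJn : (Cfsg.pCore 2 ↥(centralizer ({z} : Set G))).Normal]
    (e : (↥(centralizer ({z} : Set G)) ⧸ Cfsg.pCore 2 ↥(centralizer ({z} : Set G))) ≃* MulAut (Cfsg.PSp 2 F)) :
    ∃ (a : G) (V : Type u) (_ : AddCommGroup V) (_ : Module (ZMod 2) V) (R : Rep V) (D : St z a R),
      D.J = (Cfsg.pCore 2 ↥(centralizer ({z} : Set G))).map (centralizer ({z} : Set G)).subtype ∧
      (∀ x : ↥(centralizer ({z} : Set G)), (x : G) ∈ D.H0 ↔ e (QuotientGroup.mk x) ∈ Cfsg.Inn (Cfsg.PSp 2 F)) ∧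
      ∃ E' : Subgroup G, Cfsg.IsExtraspecial 2 E' ∧ Nat.card E' = 2 ^ 9 ∧ E' ≤ D.J ∧ a ∉ E' ∧ z ∈ E' ∧
        ∀ j ∈ D.J, j ∈ E' ∨ j * a ∈ E' := by
  classical
  obtain ⟨P, a, haZ, ha1, haz, hZc, hPJ⟩ := exists_rad z hz A E hAE hA hE hEc zc hzc hJ' hCJ
  obtain ⟨V, _, _, ⟨D⟩⟩ := Geo.ExtraOut.exists_data P.E_extra
  obtain ⟨φ⟩ := nonempty_psp_iso hF
  haveI := psp_simple hF
  have hi := conj_psp_inj hF
  obtain ⟨hfin, hV⟩ := D.card_V (n := 4) (by rw [P.E_card])
  set J0 := Cfsg.pCore 2 ↥(centralizer ({z} : Set G))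
  have hcz : ∀ x : centralizer ({z} : Set G), Commute (x : G) z := fun x => mem_centralizer_singleton_iff.1 x.2
  let θ : ↥(centralizer ({z} : Set G)) →* MulAut (Cfsg.PSp 2 F) := e.toMonoidHom.comp (QuotientGroup.mk' J0)
  have hθs : Function.Surjective θ := e.surjective.comp (QuotientGroup.mk'_surjective _)
  have hθk : ∀ x : ↥(centralizer ({z} : Set G)), θ x = 1 ↔ (x : G) ∈ P.J := fun x => by
    rw [show θ x = e (QuotientGroup.mk' J0 x) from rfl, EmbeddingLike.map_eq_one_iff]
    refine (QuotientGroup.eq_one_iff x).trans ?_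
    rw [hPJ]
    exact ⟨mem_map_of_mem _, fun ⟨y, hy, e'⟩ => (show y = x from Subtype.ext e') ▸ hy⟩
  set I0 : Subgroup ↥(centralizer ({z} : Set G)) := (Cfsg.Inn (Cfsg.PSp 2 F)).comap θ
  have hmove : ∀ x : ↥(centralizer ({z} : Set G)), (x : G) * a * (x : G)⁻¹ = a ∨
      (x : G) * a * (x : G)⁻¹ = a * z := by
    intro x
    rcases hZc _ (P.Z_norm (hcz x) haZ) with r | r | r | r
    · exact absurd (conj_eq_one_iff.1 r) ha1
    · refine absurd ?_ haz
      calc a = (x : G)⁻¹ * ((x : G) * a * (x : G)⁻¹) * x := by group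
        _ = (x : G)⁻¹ * (z * x) := by rw [r, mul_assoc]
        _ = z := by rw [← (hcz x).eq]; group
    · exact Or.inl r
    · exact Or.inr r
  -- the inner part fixes the centre of the radical
  have hI0 : ∀ x ∈ I0, Commute (x : G) a := by
    let T : Subgroup ↥(centralizer ({z} : Set G)) := (centralizer ({a} : Set G)).subgroupOf _
    haveI : T.Normal := ⟨fun x hx g => by
      have hxa : Commute (x : G) a := mem_centralizer_singleton_iff.1 hx
      refine mem_centralizer_singleton_iff.2 (mul_inv_eq_iff_eq_mul.1 ?_)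
      show (g : G) * x * (g : G)⁻¹ * a * ((g : G) * x * (g : G)⁻¹)⁻¹ = a
      have hga : (g : G)⁻¹ * a * (g : G)⁻¹⁻¹ = a ∨ (g : G)⁻¹ * a * (g : G)⁻¹⁻¹ = a * z := hmove g⁻¹
      rw [inv_inv] at hga
      rw [show (g : G) * x * (g : G)⁻¹ * a * ((g : G) * x * (g : G)⁻¹)⁻¹ =
        (g : G) * ((x : G) * ((g : G)⁻¹ * a * g) * (x : G)⁻¹) * (g : G)⁻¹ by group]
      rcases hga with r | r <;> rw [r]
      · rw [hxa.eq, mul_inv_cancel_right]
        conv_rhs => rw [show a = (g : G) * ((g : G)⁻¹ * a * g) * (g : G)⁻¹ by group, r]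
      · rw [(hxa.mul_right (hcz x)).eq, mul_inv_cancel_right]
        conv_rhs => rw [show a = (g : G) * ((g : G)⁻¹ * a * g) * (g : G)⁻¹ by group, r]⟩
    haveI : (T.map θ).Normal := Subgroup.Normal.map inferInstance _ hθs
    have hne : T.map θ ≠ ⊥ := by
      intro hbot
      choose s hs using hθs
      let f : MulAut (Cfsg.PSp 2 F) → Bool := fun x => decide ((s x : G) * a * (s x : G)⁻¹ = a)
      have hf : Function.Injective f := by
        intro x y exy
        have he : (s x : G) * a * (s x : G)⁻¹ = (s y : G) * a * (s y : G)⁻¹ := by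
          have hd : ((s x : G) * a * (s x : G)⁻¹ = a) ↔ ((s y : G) * a * (s y : G)⁻¹ = a) := by
            simpa [f] using exy
          rcases hmove (s x) with r | r <;> rcases hmove (s y) with r' | r'
          · rw [r, r']
          · exact absurd ((hd.1 r).symm.trans r') (fun h => P.z_ne (mul_eq_left.1 h.symm))
          · exact absurd ((hd.2 r').symm.trans r) (fun h => P.z_ne (mul_eq_left.1 h.symm))
          · rw [r, r']
        have hd : (s y)⁻¹ * s x ∈ T := mem_centralizer_singleton_iff.2 (mul_inv_eq_iff_eq_mul.1 (by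
          show ((s y : G)⁻¹ * s x) * a * ((s y : G)⁻¹ * s x)⁻¹ = a
          rw [show (s y : G)⁻¹ * s x * a * ((s y : G)⁻¹ * s x)⁻¹ = (s y : G)⁻¹ * ((s x : G) * a * (s x : G)⁻¹) * s y
            by group, he]
          group))
        have h1 : θ ((s y)⁻¹ * s x) = 1 := mem_bot.1 (hbot ▸ mem_map_of_mem θ hd)
        rw [map_mul, map_inv, hs, hs] at h1
        exact (eq_of_inv_mul_eq_one h1).symm
      have h := Nat.card_le_card_of_injective f hf
      rw [(Fi23Cent.card_mulAut_psp hF).1, Nat.card_eq_fintype_card (α := Bool), Fintype.card_bool] at h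
      omega
    intro x hx
    obtain ⟨p, hp⟩ := hx
    obtain ⟨t, ht, et⟩ := inn_le_normal hi _ hne p
    have h1 : ((t⁻¹ * x : centralizer ({z} : Set G)) : G) ∈ P.J :=
      (hθk _).1 (by rw [map_mul, map_inv, et, hp, inv_mul_cancel])
    have h2 := (show Commute (t : G) a from mem_centralizer_singleton_iff.1 ht).mul_left (P.Z_cen _ h1 a haZ)
    push_cast at h2
    rwa [mul_inv_cancel_left] at h2
  have hIZ : ∀ x ∈ I0, ∀ w ∈ P.Z, Commute (x : G) w := by
    intro x hx w hw
    rcases hZc w hw with rfl | rfl | rfl | rfl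
    exacts [Commute.one_right _, hcz x, hI0 x hx, (hI0 x hx).mul_right (hcz x)]
  have hfaith : ∀ g, Commute g z → P.act D g = 1 → g ∈ P.J := by
    intro g hg hact
    let Kk : Subgroup ↥(centralizer ({z} : Set G)) :=
      { carrier := {x | P.act D x = 1}
        one_mem' := P.act_one D
        mul_mem' := fun {p q} h1 h2 => show P.act D ((p : G) * q) = 1 by
          rw [P.act_mul D (hcz p) (hcz q), (h1 : P.act D p = 1), (h2 : P.act D q = 1), one_mul]
        inv_mem' := fun {p} h1 => show P.act D (p : G)⁻¹ = 1 by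
          rw [P.act_inv D (hcz p), (h1 : P.act D p = 1), inv_one] }
    haveI : Kk.Normal := ⟨fun x hx q => show P.act D ((q : G) * x * (q : G)⁻¹) = 1 by
      rw [P.act_mul D ((hcz q).mul_left (hcz x)) (hcz q).inv_left, P.act_mul D (hcz q) (hcz x),
        (hx : P.act D x = 1), mul_one, P.act_inv D (hcz q), mul_inv_cancel]⟩
    haveI : (Kk.map θ).Normal := Subgroup.Normal.map inferInstance _ hθs
    have hbot : Kk.map θ = ⊥ := by
      by_contra hne
      have hab : ∀ p q : Cfsg.PSp 2 F, p * q = q * p := by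
        intro p q
        obtain ⟨x, hx, ex⟩ := inn_le_normal hi _ hne p
        obtain ⟨y, hy, ey⟩ := inn_le_normal hi _ hne q
        have h1 := P.inner_comm_J D (hcz x) (hcz y) (hIZ x ⟨p, ex.symm⟩) (hIZ y ⟨q, ey.symm⟩) hx hy
        have h2 : θ ((y * x)⁻¹ * (x * y)) = 1 := (hθk _).2 h1
        rw [map_mul, map_inv, inv_mul_eq_one, map_mul, map_mul, ex, ey, ← map_mul, ← map_mul] at h2
        exact (hi h2).symm
      have hc : Subgroup.center U4 = ⊤ := eq_top_iff.2 fun u _ => mem_center_iff.2 fun w =>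
        φ.injective (by rw [map_mul, map_mul, hab])
      rw [center_SU4] at hc
      have h1 := card_SU4
      rw [← Nat.card_congr (Subgroup.topEquiv (G := U4)).toEquiv, ← hc, Subgroup.card_bot] at h1
      omega
    exact (hθk ⟨g, mem_centralizer_singleton_iff.2 hg.eq⟩).1
      (mem_bot.1 (hbot ▸ mem_map_of_mem θ (show (⟨g, _⟩ : centralizer ({z} : Set G)) ∈ Kk from hact)))
  -- the image in the unitary group
  choose s hs using fun u : U4 => hθs (MulAut.conj (φ u))
  have hsI : ∀ u, s u ∈ I0 := fun u => ⟨φ u, (hs u).symm⟩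
  have huniq : ∀ x : ↥(centralizer ({z} : Set G)), ∀ u, θ x = MulAut.conj (φ u) → P.act D x = P.act D (s u) := by
    intro x u hx
    have h1 : ((s u)⁻¹ * x : centralizer ({z} : Set G)).1 ∈ P.J :=
      (hθk _).1 (by rw [map_mul, map_inv, hs, hx, inv_mul_cancel])
    have h2 := P.act_mul D (hcz (s u)) (hcz ((s u)⁻¹ * x))
    rw [P.act_of_J D h1, mul_one] at h2
    rw [← h2]
    congr 1
    simp
  let r : U4 →* (V ≃ₗ[ZMod 2] V) :=
    { toFun := fun u => P.act D (s u)
      map_one' := (huniq 1 1 (by simp)).symm.trans (P.act_one D)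
      map_mul' := fun u v => by
        refine (huniq (s u * s v) (u * v) ?_).symm.trans ?_
        · rw [map_mul, hs, hs, map_mul, map_mul]
        · exact P.act_mul D (hcz (s u)) (hcz (s v)) }
  let R : Rep V :=
    { r := r
      inj := (injective_iff_map_eq_one _).2 fun u hu => by
        have h1 : θ (s u) = 1 := (hθk _).2 (hfaith _ (hcz (s u)) hu)
        rw [hs, ← map_one (MulAut.conj : Cfsg.PSp 2 F →* MulAut (Cfsg.PSp 2 F))] at h1
        exact φ.injective ((hi h1).trans (map_one φ).symm)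
      card := by rw [hV]; norm_num
      q := D.form
      inv := fun g v => P.act_q D (hcz (s g)) v
      nondeg := fun v hv => D.nondeg.1 v hv }
  let ph : G → U4 := fun g => if h : ∃ hg : g ∈ centralizer ({z} : Set G), ∃ u, θ ⟨g, hg⟩ = MulAut.conj (φ u)
    then h.choose_spec.choose else 1
  have hph : ∀ x : ↥(centralizer ({z} : Set G)), x ∈ I0 → θ x = MulAut.conj (φ (ph x)) := by
    intro x hx
    obtain ⟨p, hp⟩ := hx
    have h : ∃ hg : (x : G) ∈ centralizer ({z} : Set G), ∃ u, θ ⟨x, hg⟩ = MulAut.conj (φ u) :=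
      ⟨x.2, φ.symm p, by rw [φ.apply_symm_apply]; exact hp.symm⟩
    show _ = MulAut.conj (φ (dite _ _ _))
    rw [dif_pos h]
    exact h.choose_spec.choose_spec
  have hmem : ∀ g, g ∈ I0.map (centralizer ({z} : Set G)).subtype →
      ∃ hg : g ∈ centralizer ({z} : Set G), (⟨g, hg⟩ : centralizer ({z} : Set G)) ∈ I0 := by
    rintro _ ⟨x, hx, rfl⟩
    exact ⟨x.2, hx⟩
  have hφi : Function.Injective fun u => MulAut.conj (φ u) := hi.comp φ.injective
  have hinn2 := inn_index_two hF
  have hzE : z ∈ P.E := by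
    have h := D.z.2
    rwa [P.Dz_eq D] at h
  refine ⟨a, V, _, _, R, {
    z_sq := P.z_sq
    z_ne := P.z_ne
    a_sq := P.Z_sq a haZ
    a_ne := ha1
    a_ne_z := haz
    J := P.J
    J_comm := P.J_comm
    z_mem := P.z_mem
    a_mem := P.Z_le haZ
    J_comm_a := fun j hj => P.Z_cen j hj a haZ
    J_norm := P.J_norm
    H0 := I0.map (centralizer ({z} : Set G)).subtype
    H0_comm := by rintro _ ⟨x, -, rfl⟩; exact hcz x
    H0_comm_a := by rintro _ ⟨x, hx, rfl⟩; exact hI0 x hx
    J_le := fun j hj => ⟨⟨j, mem_centralizer_singleton_iff.2 (P.J_comm j hj).eq⟩,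
      ⟨1, by rw [map_one]; exact ((hθk _).2 hj).symm⟩, rfl⟩
    H0_two := fun g h hg hh ng nh => by
      refine ⟨⟨g, mem_centralizer_singleton_iff.2 hg.eq⟩ * ⟨h, mem_centralizer_singleton_iff.2 hh.eq⟩, ?_, rfl⟩
      refine mem_comap.2 ?_
      rw [map_mul]
      exact (Subgroup.mul_mem_iff_of_index_two hinn2).2 (iff_of_false
        (fun hm => ng (mem_map_of_mem _ (x := (⟨g, mem_centralizer_singleton_iff.2 hg.eq⟩ :
          centralizer ({z} : Set G))) (K := I0) hm))
        (fun hm => nh (mem_map_of_mem _ (x := (⟨h, mem_centralizer_singleton_iff.2 hh.eq⟩ :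
          centralizer ({z} : Set G))) (K := I0) hm)))
    exists_out := by
      by_contra hno
      push Not at hno
      have htop : Cfsg.Inn (Cfsg.PSp 2 F) = ⊤ := eq_top_iff.2 fun α _ => by
        obtain ⟨x, rfl⟩ := hθs α
        obtain ⟨y, hy, hxy⟩ := hno x (hcz x)
        exact (show y = x from Subtype.ext hxy) ▸ hy
      rw [htop, Subgroup.index_top] at hinn2
      omega
    ph := ph
    ph_mul := fun g hg h hh => by
      obtain ⟨hg', hg''⟩ := hmem g hg
      obtain ⟨hh', hh''⟩ := hmem h hh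
      refine hφi ?_
      have e1 := hph _ (mul_mem hg'' hh'')
      rw [map_mul θ, hph _ hg'', hph _ hh''] at e1
      show MulAut.conj (φ (ph (g * h))) = MulAut.conj (φ (ph g * ph h))
      rw [map_mul φ, map_mul]
      exact e1.symm
    ph_J := fun g hg => by
      obtain ⟨hg', hg''⟩ := hmem g hg
      rw [← hθk ⟨g, hg'⟩, hph _ hg'']
      exact ⟨fun h => by rw [show ph g = 1 from h, map_one, map_one],
        fun h => hφi (h.trans (by simp))⟩
    ph_surj := fun u => ⟨s u, mem_map_of_mem _ (hsI u), hφi ((hph _ (hsI u)).symm.trans (hs u))⟩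
    pr := P.pr D
    pr_mul := fun i hi' j hj => P.pr_mul D hi' hj
    pr_zero := fun j hj => by
      rw [P.pr_zero D hj]
      refine ⟨hZc j, fun h => ?_⟩
      rcases h with rfl | rfl | rfl | rfl
      exacts [one_mem _, P.z_Z, haZ, mul_mem haZ P.z_Z]
    pr_surj := P.pr_surj D
    sq := fun j hj => P.sq_eq D hj
    comm := fun i hi' j hj => P.comm_eq D hi' hj
    pr_act := fun g hg j hj => by
      obtain ⟨hg', hg''⟩ := hmem g hg
      rw [← P.act_pr D (mem_centralizer_singleton_iff.1 hg') hj]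
      show _ = P.act D (s (ph g)) (P.pr D j)
      rw [show P.act D g = P.act D (s (ph g)) from huniq ⟨g, hg'⟩ _ (hph _ hg'')]
    act_faithful := fun g hg h => hfaith g hg (LinearEquiv.ext fun v => by
      obtain ⟨j, hj, rfl⟩ := P.pr_surj D v
      rw [P.act_pr D hg hj, h j hj]
      rfl) }, hPJ, fun x => ⟨?_, fun h => mem_map_of_mem _ (show x ∈ I0 from h)⟩,
    P.E, P.E_extra, P.E_card, P.E_le, fun h => (P.E_Z a h haZ).elim ha1 haz,
    hzE, fun j hj => ?_⟩
  swap
  · have ha2 : a * a = 1 := P.Z_sq a haZ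
    obtain ⟨b, hb, w, hw, rfl⟩ := P.J_EZ j hj
    rcases hZc w hw with rfl | rfl | rfl | rfl
    · exact Or.inl (by rwa [mul_one])
    · exact Or.inl (mul_mem hb hzE)
    · exact Or.inr (by rwa [mul_assoc, ha2, mul_one])
    · refine Or.inr ?_
      rw [show b * (a * z) * a = b * a * (z * a) by group, (P.J_comm a (P.Z_le haZ)).eq.symm,
        show b * a * (a * z) = b * (a * a) * z by group, ha2, mul_one]
      exact mul_mem hb hzE
  rintro ⟨y, hy, hxy⟩
  exact (show y = x from Subtype.ext hxy) ▸ hy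

end CfsgLib.Fi22Cent
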