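import Cfsg.Agent.Fi22Cent.Setting
import Cfsg.Agent.Fi23Cent.BuildBasic
import Cfsg.Prelude.Def_TwoFusion

/-!
The radical and the coordinates from the hypotheses on the centraliser.
-/

set_option autoImplicit false
set_option maxRecDepth 100000
set_option maxHeartbeats 1000000
set_option linter.style.haveILetI false
set_option linter.unusedSectionVars false
set_option linter.unusedVariables false

namespace CfsgLib.Fi22Cent

open CfsgLib CfsgLib.U62Cent Subgroup
open CfsgLib.Fi23Cent (conj_mul_conj conj_psp_inj cent_inn inn_le_normal)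
open scoped commutatorElement

/-- The radical of the centraliser. -/
structure Rad {G : Type*} [Group G] (z : G) where
  z_sq : z * z = 1
  z_ne : z ≠ 1
  J : Subgroup G
  J_comm : ∀ j ∈ J, Commute j z
  z_mem : z ∈ J
  J_norm : ∀ h, Commute h z → ∀ j ∈ J, h * j * h⁻¹ ∈ J
  Z : Subgroup G
  Z_le : Z ≤ J
  Z_sq : ∀ w ∈ Z, w * w = 1
  Z_cen : ∀ j ∈ J, ∀ w ∈ Z, Commute j w
  cen_Z : ∀ x ∈ J, (∀ j ∈ J, Commute x j) → x ∈ Z
  E : Subgroup G
  E_le : E ≤ J
  E_extra : Cfsg.IsExtraspecial 2 E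
  E_card : Nat.card E = 2 ^ 9
  E_Z : ∀ x ∈ E, x ∈ Z → x = 1 ∨ x = z
  J_EZ : ∀ j ∈ J, ∃ a ∈ E, ∃ w ∈ Z, j = a * w
  self : ∀ h, Commute h z → (∀ j ∈ J, Commute h j) → h ∈ J

namespace Rad

variable {G : Type*} [Group G] [Finite G] {z : G} (P : Rad z)

theorem Z_comm {v w : G} (hv : v ∈ P.Z) (hw : w ∈ P.Z) : Commute v w := P.Z_cen v (P.Z_le hv) w hw

theorem z_Z : z ∈ P.Z := P.cen_Z z P.z_mem fun j hj => (P.J_comm j hj).symm

theorem Z_norm {h w : G} (hh : Commute h z) (hw : w ∈ P.Z) : h * w * h⁻¹ ∈ P.Z := by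
  refine P.cen_Z _ (P.J_norm h hh w (P.Z_le hw)) fun j hj => ?_
  have h1 := P.J_norm h⁻¹ hh.inv_left j hj
  rw [inv_inv] at h1
  have h2 := Fi23Cent.commute_conj_iff (g := h).2 (P.Z_cen _ h1 w hw).symm
  rwa [show h * (h⁻¹ * j * h) * h⁻¹ = j by group] at h2

variable {V : Type*} [AddCommGroup V] [Module (ZMod 2) V] (D : Geo.ExtraOut.Data P.E V)

include P D

theorem Dz_eq : ((D.z : P.E) : G) = z := by
  refine (P.E_Z _ D.z.2 (P.cen_Z _ (P.E_le D.z.2) fun j hj => ?_)).resolve_left fun h => D.z_ne (Subtype.ext h)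
  obtain ⟨a, ha, w, hw, rfl⟩ := P.J_EZ j hj
  exact (show Commute ((D.z : P.E) : G) a from (congrArg Subtype.val (mem_center_iff.1 D.z_mem ⟨a, ha⟩)).symm).mul_right
    (P.Z_cen _ (P.E_le D.z.2) w hw)

theorem proj_eq_iff {a b : P.E} (h : (a : G)⁻¹ * b ∈ P.Z) : D.proj a = D.proj b := by
  have h1 : a⁻¹ * b ∈ Subgroup.center P.E := by
    rcases P.E_Z _ (mul_mem (inv_mem a.2) b.2) h with e | e
    · rw [show a⁻¹ * b = 1 from Subtype.ext e]; exact one_mem _
    · rw [show a⁻¹ * b = D.z from Subtype.ext (e.trans (P.Dz_eq D).symm)]; exact D.z_mem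
  have h2 := (D.proj_eq_zero _).2 h1
  rw [D.proj_mul, D.proj_inv, neg_add_eq_zero] at h2
  exact h2

theorem split (x : G) (hx : x ∈ P.J) : ∃ a : P.E, (a : G)⁻¹ * x ∈ P.Z := by
  obtain ⟨a, ha, w, hw, rfl⟩ := P.J_EZ x hx
  exact ⟨⟨a, ha⟩, by rwa [inv_mul_cancel_left]⟩

open Classical in
/-- The projection to the radical modulo its centre. -/
noncomputable def pr (x : G) : V := if h : x ∈ P.J then D.proj (P.split D x h).choose else 0

theorem pr_eq {x : G} {a : P.E} (h : (a : G)⁻¹ * x ∈ P.Z) : P.pr D x = D.proj a := by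
  have hx : x ∈ P.J := by
    have := mul_mem (P.E_le a.2) (P.Z_le h)
    rwa [mul_inv_cancel_left] at this
  rw [pr, dif_pos hx]
  refine P.proj_eq_iff D ?_
  have := mul_mem (P.split D x hx).choose_spec (inv_mem h)
  rwa [show ((P.split D x hx).choose : G)⁻¹ * x * ((a : G)⁻¹ * x)⁻¹ = ((P.split D x hx).choose : G)⁻¹ * a by group]
    at this

theorem pr_E (a : P.E) : P.pr D a = D.proj a := P.pr_eq D (by rw [inv_mul_cancel]; exact one_mem _)

theorem pr_mul {x y : G} (hx : x ∈ P.J) (hy : y ∈ P.J) : P.pr D (x * y) = P.pr D x + P.pr D y := by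
  obtain ⟨a, ha⟩ := P.split D x hx
  obtain ⟨b, hb⟩ := P.split D y hy
  rw [P.pr_eq D ha, P.pr_eq D hb, ← D.proj_mul]
  refine P.pr_eq D ?_
  have e := (P.Z_cen _ (inv_mem (P.E_le b.2)) _ ha).eq
  push_cast
  rw [show ((a : G) * b)⁻¹ * (x * y) = (b : G)⁻¹ * ((a : G)⁻¹ * x) * y by group, e, mul_assoc]
  exact mul_mem ha hb

theorem pr_one : P.pr D 1 = 0 := by rw [P.pr_eq D (a := 1) (by simp), D.proj_one]

theorem pr_inv {x : G} (hx : x ∈ P.J) : P.pr D x⁻¹ = P.pr D x := by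
  have h := P.pr_mul D (inv_mem hx) hx
  rw [inv_mul_cancel, P.pr_one D] at h
  exact eq_of_sum_zero h.symm

theorem pr_zero {x : G} (hx : x ∈ P.J) : P.pr D x = 0 ↔ x ∈ P.Z := by
  obtain ⟨a, ha⟩ := P.split D x hx
  rw [P.pr_eq D ha, D.proj_eq_zero]
  constructor
  · intro h
    have h1 : (a : G) ∈ P.Z := by
      rcases D.center_cases h with e | e <;> rw [e]
      · exact one_mem _
      · rw [P.Dz_eq D]; exact P.z_Z
    have := mul_mem h1 ha
    rwa [mul_inv_cancel_left] at this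
  · intro h
    have h1 : (a : G) ∈ P.Z := by
      have := mul_mem h (inv_mem ha)
      rwa [show x * ((a : G)⁻¹ * x)⁻¹ = a by group] at this
    rcases P.E_Z _ a.2 h1 with e | e
    · rw [show a = 1 from Subtype.ext e]; exact one_mem _
    · rw [show a = D.z from Subtype.ext (e.trans (P.Dz_eq D).symm)]; exact D.z_mem

theorem pr_surj (v : V) : ∃ x ∈ P.J, P.pr D x = v := by
  obtain ⟨a, rfl⟩ := D.proj_surj v
  exact ⟨a, P.E_le a.2, P.pr_E D a⟩

theorem bit_cases (a : P.E) (ha : a ∈ Subgroup.center P.E) :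
    (a : G) = if Geo.ExtraOut.bit a = 0 then 1 else z := by
  rcases D.center_cases ha with e | e <;> rw [e]
  · rw [Geo.ExtraOut.bit_one, if_pos rfl]; rfl
  · rw [D.bit_z, if_neg one_ne_zero, P.Dz_eq D]

theorem sq_eq {x : G} (hx : x ∈ P.J) : x * x = if D.form (P.pr D x) = 0 then 1 else z := by
  obtain ⟨a, ha⟩ := P.split D x hx
  have h1 : x * x = ((a ^ 2 : P.E) : G) := by
    generalize hw : (a : G)⁻¹ * x = w at ha
    have e : x = a * w := by rw [← hw, mul_inv_cancel_left]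
    rw [e, show (a : G) * w * (a * w) = a * (w * a) * w by group, (P.Z_cen _ (P.E_le a.2) w ha).eq.symm,
      show (a : G) * (a * w) * w = a * a * (w * w) by group, P.Z_sq w ha, mul_one, ← pow_two]
    rfl
  rw [h1, P.pr_eq D ha, D.form_proj]
  exact P.bit_cases D _ (D.sq_mem a)

theorem comm_eq {x y : G} (hx : x ∈ P.J) (hy : y ∈ P.J) :
    x * y = if QuadraticMap.polar D.form (P.pr D x) (P.pr D y) = 0 then y * x else y * x * z := by
  obtain ⟨a, ha⟩ := P.split D x hx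
  obtain ⟨b, hb⟩ := P.split D y hy
  rw [P.pr_eq D ha, P.pr_eq D hb, D.polar_form]
  generalize hv : (a : G)⁻¹ * x = v at ha
  generalize hw : (b : G)⁻¹ * y = w at hb
  have e : x = a * v := by rw [← hv, mul_inv_cancel_left]
  have e' : y = b * w := by rw [← hw, mul_inv_cancel_left]
  have e1 := P.Z_cen _ (P.E_le b.2) v ha
  have e2 := P.Z_cen _ (P.E_le a.2) w hb
  have e3 := P.Z_comm ha hb
  have hab : x * y = ((⁅a, b⁆ : P.E) : G) * (y * x) := by
    rw [e, e', commutatorElement_def]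
    push_cast
    calc (a : G) * v * (b * w) = a * (v * b) * w := by group
      _ = a * b * (v * w) := by rw [e1.eq.symm]; group
      _ = a * b * (a : G)⁻¹ * (a * w) * v := by rw [e3.eq]; group
      _ = a * b * (a : G)⁻¹ * (w * a) * v := by rw [e2.eq]
      _ = _ := by group
  have hz : Commute z (y * x) := (P.J_comm _ (mul_mem hy hx)).symm
  rw [hab, P.bit_cases D _ (D.comm_mem a b)]
  split_ifs
  · rw [one_mul]
  · exact hz.eq

theorem pr_conj_congr {h x y : G} (hh : Commute h z) (hx : x ∈ P.J) (hy : y ∈ P.J) (e : P.pr D x = P.pr D y) :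
    P.pr D (h * x * h⁻¹) = P.pr D (h * y * h⁻¹) := by
  have h1 : x⁻¹ * y ∈ P.Z := (P.pr_zero D (mul_mem (inv_mem hx) hy)).1 (by
    rw [P.pr_mul D (inv_mem hx) hy, P.pr_inv D hx, e, two_self])
  have h2 := P.Z_norm hh h1
  rw [show h * y * h⁻¹ = h * x * h⁻¹ * (h * (x⁻¹ * y) * h⁻¹) by group,
    P.pr_mul D (P.J_norm h hh x hx) (P.Z_le h2), (P.pr_zero D (P.Z_le h2)).2 h2, add_zero]

/-- The map induced on the radical modulo its centre. -/
noncomputable def lin {h : G} (hh : Commute h z) : V →ₗ[ZMod 2] V :=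
  (AddMonoidHom.mk' (fun v => P.pr D (h * (D.sec v : G) * h⁻¹)) fun u v => by
    rw [← P.pr_mul D (P.J_norm h hh _ (P.E_le (D.sec u).2)) (P.J_norm h hh _ (P.E_le (D.sec v).2)),
      conj_mul_conj]
    refine P.pr_conj_congr D hh (P.E_le (D.sec (u + v)).2) (mul_mem (P.E_le (D.sec u).2) (P.E_le (D.sec v).2)) ?_
    rw [P.pr_mul D (P.E_le (D.sec u).2) (P.E_le (D.sec v).2), P.pr_E, P.pr_E, P.pr_E, D.proj_sec, D.proj_sec,
      D.proj_sec]).toZModLinearMap 2

theorem lin_pr {h x : G} (hh : Commute h z) (hx : x ∈ P.J) : P.lin D hh (P.pr D x) = P.pr D (h * x * h⁻¹) := by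
  show P.pr D (h * (D.sec (P.pr D x) : G) * h⁻¹) = _
  exact P.pr_conj_congr D hh (P.E_le (D.sec _).2) hx (by rw [P.pr_E, D.proj_sec])

open Classical in
/-- The action of the centraliser. -/
noncomputable def act (h : G) : V ≃ₗ[ZMod 2] V :=
  if hh : Commute h z then
    LinearEquiv.ofLinearMap (P.lin D hh) (P.lin D hh.inv_left)
      (LinearMap.ext fun v => by
        obtain ⟨x, hx, rfl⟩ := P.pr_surj D v
        show P.lin D hh (P.lin D hh.inv_left (P.pr D x)) = P.pr D x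
        rw [P.lin_pr D hh.inv_left hx, P.lin_pr D hh (P.J_norm _ hh.inv_left x hx)]
        congr 1
        group)
      (LinearMap.ext fun v => by
        obtain ⟨x, hx, rfl⟩ := P.pr_surj D v
        show P.lin D hh.inv_left (P.lin D hh (P.pr D x)) = P.pr D x
        rw [P.lin_pr D hh hx, P.lin_pr D hh.inv_left (P.J_norm _ hh x hx)]
        congr 1
        group)
  else 1

theorem act_pr {h x : G} (hh : Commute h z) (hx : x ∈ P.J) : P.act D h (P.pr D x) = P.pr D (h * x * h⁻¹) := by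
  rw [act, dif_pos hh]
  exact P.lin_pr D hh hx

theorem act_mul {g h : G} (hg : Commute g z) (hh : Commute h z) : P.act D (g * h) = P.act D g * P.act D h := by
  refine LinearEquiv.ext fun v => ?_
  obtain ⟨x, hx, rfl⟩ := P.pr_surj D v
  show P.act D (g * h) (P.pr D x) = P.act D g (P.act D h (P.pr D x))
  rw [P.act_pr D (hg.mul_left hh) hx, P.act_pr D hh hx, P.act_pr D hg (P.J_norm h hh x hx)]
  congr 1
  group

theorem act_one : P.act D 1 = 1 := by
  refine LinearEquiv.ext fun v => ?_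
  obtain ⟨x, hx, rfl⟩ := P.pr_surj D v
  show P.act D 1 (P.pr D x) = P.pr D x
  rw [P.act_pr D (Commute.one_left z) hx]
  congr 1
  group

theorem act_inv {g : G} (hg : Commute g z) : P.act D g⁻¹ = (P.act D g)⁻¹ :=
  eq_inv_of_mul_eq_one_left (by rw [← P.act_mul D hg.inv_left hg, inv_mul_cancel, P.act_one D])

theorem act_q {h : G} (hh : Commute h z) (v : V) : D.form (P.act D h v) = D.form v := by
  obtain ⟨x, hx, rfl⟩ := P.pr_surj D v
  rw [P.act_pr D hh hx]
  have h1 := P.sq_eq D hx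
  have h2 := P.sq_eq D (P.J_norm h hh x hx)
  rw [show h * x * h⁻¹ * (h * x * h⁻¹) = h * (x * x) * h⁻¹ by group] at h2
  by_cases ha : D.form (P.pr D x) = 0 <;> by_cases hb : D.form (P.pr D (h * x * h⁻¹)) = 0
  · rw [ha, hb]
  · exfalso
    rw [h1, if_pos ha, if_neg hb, mul_one, mul_inv_cancel] at h2
    exact P.z_ne h2.symm
  · exfalso
    rw [h1, if_neg ha, if_pos hb, hh.eq, mul_inv_cancel_right] at h2
    exact P.z_ne h2
  · rw [zmod2_ne _ ha, zmod2_ne _ hb]

theorem act_of_J {j : G} (hj : j ∈ P.J) : P.act D j = 1 := by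
  refine LinearEquiv.ext fun v => ?_
  obtain ⟨x, hx, rfl⟩ := P.pr_surj D v
  show P.act D j (P.pr D x) = P.pr D x
  rw [P.act_pr D (P.J_comm j hj) hx, P.pr_mul D (mul_mem hj hx) (inv_mem hj), P.pr_mul D hj hx, P.pr_inv D hj,
    add_comm (P.pr D j), add_assoc, two_self, add_zero]

theorem inner_comm_J {g h : G} (hg : Commute g z) (hh : Commute h z) (hgW : ∀ w ∈ P.Z, Commute g w)
    (hhW : ∀ w ∈ P.Z, Commute h w) (ag : P.act D g = 1) (ah : P.act D h = 1) :
    (h * g)⁻¹ * (g * h) ∈ P.J := by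
  refine P.self _ ((hh.mul_left hg).inv_left.mul_left (hg.mul_left hh)) fun j hj => ?_
  have key : ∀ k : G, Commute k z → P.act D k = 1 → ∃ ζ ∈ P.Z, k * j * k⁻¹ = j * ζ := fun k hk ak => by
    have hkj := P.J_norm k hk j hj
    refine ⟨j⁻¹ * (k * j * k⁻¹), (P.pr_zero D (mul_mem (inv_mem hj) hkj)).1 ?_, (mul_inv_cancel_left _ _).symm⟩
    rw [P.pr_mul D (inv_mem hj) hkj, P.pr_inv D hj, ← P.act_pr D hk hj, ak]
    exact two_self _
  obtain ⟨ζ, hζ, e⟩ := key g hg ag
  obtain ⟨η, hη, e'⟩ := key h hh ah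
  have h1 : g * h * j * (g * h)⁻¹ = h * g * j * (h * g)⁻¹ := by
    rw [show g * h * j * (g * h)⁻¹ = g * (h * j * h⁻¹) * g⁻¹ by group, e', ← conj_mul_conj, e,
      (hgW η hη).eq, mul_inv_cancel_right,
      show h * g * j * (h * g)⁻¹ = h * (g * j * g⁻¹) * h⁻¹ by group, e, ← conj_mul_conj, e',
      (hhW ζ hζ).eq, mul_inv_cancel_right, mul_assoc, mul_assoc, (P.Z_comm hζ hη).eq]
  refine mul_inv_eq_iff_eq_mul.1 ?_
  rw [show (h * g)⁻¹ * (g * h) * j * ((h * g)⁻¹ * (g * h))⁻¹ = (h * g)⁻¹ * (g * h * j * (g * h)⁻¹) * (h * g) by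
    group, h1]
  group

end Rad

end CfsgLib.Fi22Cent
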