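import Cfsg.Agent.Fi22Cent.Pairs

/-!
The centraliser of a conjugate of `a` when `z` is isolated in the centraliser of `a`: it centralises the matching
conjugate of `z`. A conjugate of `az` in the radical is central there.
-/

set_option autoImplicit false
set_option maxRecDepth 100000
set_option maxHeartbeats 1000000
set_option linter.style.haveILetI false
set_option linter.unusedSectionVars false

namespace CfsgLib.Fi22Cent

open CfsgLib CfsgLib.U62Cent Subgroup

universe v

variable {G : Type*} [Group G] [Finite G] {V : Type v} [AddCommGroup V] [Module (ZMod 2) V]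
  {z a : G} {R : Rep V}

namespace St

variable (D : St z a R)

/-- The pair of the conjugate centre meets the pair of the centre. -/
def Meet (_D : St z a R) (g : G) : Prop :=
  (g * a * g⁻¹ = a ∨ g * a * g⁻¹ = a * z) ∨ (g * (a * z) * g⁻¹ = a ∨ g * (a * z) * g⁻¹ = a * z)

include D

/-- Nothing but the identity fixes the hyperplane orthogonal to a singular vector. -/
theorem hyper {g : G} (hg : Commute g z) {p : V} (hp : p ≠ 0) (hq : R.q p = 0)
    (h : ∀ v, R.B v p = 0 → D.act g v = v) : g ∈ D.J := by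
  obtain ⟨t, ht⟩ : ∃ t, R.B t p = 1 := by
    by_contra hno
    push Not at hno
    refine hp (R.nondeg p fun w => ?_)
    show R.B p w = 0
    rw [R.B_comm]
    exact ((by decide : ∀ b : ZMod 2, b = 0 ∨ b = 1) _).resolve_right (hno w)
  have hB : ∀ w, R.B w p = 0 → R.B (D.act g t + t) w = 0 := fun w hw => by
    rw [R.B_add_left]
    conv_lhs => arg 1; rw [← h w hw, D.act_B hg]
    exact (by decide : ∀ b : ZMod 2, b + b = 0) _
  have htt : D.act g t = t := by
    rcases R.orth_perp hB with e | e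
    · exact eq_of_sum_zero e
    · exfalso
      have e1 : D.act g t = t + p := by
        rw [← e, add_comm t (D.act g t + t), add_assoc, two_self, add_zero]
      have e2 := D.act_q hg t
      rw [e1, R.q_add, hq, add_zero, ht] at e2
      exact one_ne_zero (add_eq_left.1 e2)
  refine D.mem_J_of_act hg fun v => ?_
  rcases (by decide : ∀ b : ZMod 2, b = 0 ∨ b = 1) (R.B v p) with e | e
  · exact h v e
  · have e1 : R.B (v + t) p = 0 := by rw [R.B_add_left, e, ht]; decide
    have e2 := h _ e1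
    rw [D.act_add hg, htt] at e2
    exact add_right_cancel e2

/-- An element centralising the part of the radical centralised by a member of the radical. -/
theorem hyper_elem {g y : G} (hg : Commute g z) (hy : y ∈ D.J) (hy2 : y * y = 1) (h0 : D.pr y ≠ 0)
    (h : ∀ j ∈ D.J, Commute j y → Commute g j) : g ∈ D.J :=
  D.hyper hg h0 ((D.invol_iff hy).1 hy2) fun v hv => by
    obtain ⟨j, hj, rfl⟩ := D.pr_surj v
    exact D.act_fix hg hj (h j hj ((D.comm_iff hj hy).2 hv))

/-- A conjugate of `az` in the radical is central there. -/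
theorem no_conj_J (hI : D.Iso) {k : G} (hk : k * (a * z) * k⁻¹ ∈ D.J) :
    k * (a * z) * k⁻¹ = a ∨ k * (a * z) * k⁻¹ = a * z := by
  set y := k * (a * z) * k⁻¹ with hy
  have hy2 : y * y = 1 := by rw [hy, conj_mul, D.az_sq]; group
  by_cases h0 : D.pr y = 0
  · rcases (D.pr_zero y hk).1 h0 with e | e | e | e
    · exact absurd (conj_eq_one_iff.1 e) D.az_ne_one
    · refine absurd (?_ : k⁻¹ * z * k⁻¹⁻¹ = a * z) (D.z_not_az _)
      rw [show k⁻¹ * z * k⁻¹⁻¹ = k⁻¹ * y * k by rw [e, inv_inv], hy]; group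
    · exact Or.inl e
    · exact Or.inr e
  exfalso
  let P : Subgroup G := (D.J ⊓ centralizer {y}).map (MulAut.conj k⁻¹).toMonoidHom
  have hP2 : IsPGroup 2 P := (IsPGroup.map (fun x => ⟨2, Subtype.ext (by
    have := D.pow_four x.2.1
    simpa [pow_succ, mul_assoc] using this)⟩) _)
  obtain ⟨m, hm, hmP⟩ := D.other.cover hP2 (by
    rintro _ ⟨j, ⟨hj, hjy⟩, rfl⟩
    have h1 := (show Commute j y from mem_centralizer_singleton_iff.1 hjy).map (MulAut.conj k⁻¹).toMonoidHom
    simp only [MulEquiv.coe_toMonoidHom, MulAut.conj_apply] at h1 ⊢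
    rwa [hy, show k⁻¹ * (k * (a * z) * k⁻¹) * k⁻¹⁻¹ = a * z by group] at h1)
  set n := k * m with hn
  have hyn : n * (a * z) * n⁻¹ = y := by
    rw [hn, hy, show k * m * (a * z) * (k * m)⁻¹ = k * (m * (a * z) * m⁻¹) * k⁻¹ by group, hm.eq,
      mul_inv_cancel_right]
  set x := n * z * n⁻¹ with hx
  have hxc : ∀ j ∈ D.J, Commute j y → Commute x j := fun j hj hjy => by
    have h1 := (hmP _ ⟨j, ⟨hj, mem_centralizer_singleton_iff.2 hjy⟩, rfl⟩).symm.map (MulAut.conj k).toMonoidHom
    simpa [hx, hn, MulAut.conj_apply, mul_assoc] using h1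
  have hxz : Commute x z := hxc z D.z_mem (D.J_comm y hk).symm
  have hxJ : x ∈ D.J := D.hyper_elem hxz hk hy2 h0 hxc
  have hxy : y * x = n * a * n⁻¹ := by
    rw [← hyn, hx, conj_mul, mul_assoc a z z, D.z_sq, mul_one]
  rcases R.orth_perp (a := D.pr y) (x := D.pr x) (fun w hw => by
    obtain ⟨j, hj, rfl⟩ := D.pr_surj w
    exact (D.comm_iff hxJ hj).1 (hxc j hj ((D.comm_iff hj hk).2 hw))) with e | e
  · rcases (D.pr_zero x hxJ).1 e with q | q | q | q
    · exact D.z_ne (conj_eq_one_iff.1 q)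
    · have hnz : Commute n z := mul_inv_eq_iff_eq_mul.1 q
      have h1 : y = n * a * n⁻¹ * z := by rw [← hxy, q, mul_assoc, D.z_sq, mul_one]
      rcases D.conj_a hnz with r | r <;> rw [r] at h1 <;> apply h0 <;> rw [h1]
      · exact D.pr_az
      · rw [mul_assoc, D.z_sq, mul_one]; exact D.pr_a
    · exact D.z_not_a n q
    · exact D.z_not_az n q
  · obtain ⟨c, hc, ec⟩ := D.eq_of_pr hk hxJ e.symm
    have e1 : n * a * n⁻¹ = c := by rw [← hxy, ec, ← mul_assoc, hy2, one_mul]
    rcases hc with rfl | rfl | rfl | rfl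
    · exact D.a_ne (conj_eq_one_iff.1 e1)
    · refine D.z_not_a n⁻¹ ?_
      conv_lhs => rw [← e1]
      group
    · have hxz' := hI n (mul_inv_eq_iff_eq_mul.1 e1) hxz
      exact h0 (e.symm.trans (show D.pr x = 0 by rw [hx, hxz']; exact D.pr_z))
    · obtain ⟨h, hh, he⟩ := D.fus e1
      set u := h⁻¹ * n with hu
      have hua : Commute u a := mul_inv_eq_iff_eq_mul.1 (by
        rw [hu, show h⁻¹ * n * a * (h⁻¹ * n)⁻¹ = h⁻¹ * (n * a * n⁻¹) * h by group, e1, ← he]; group)
      have e2 : u * z * u⁻¹ = h⁻¹ * x * h := by rw [hu, hx]; group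
      have huz : Commute (u * z * u⁻¹) z := by
        rw [e2]
        exact (hh.inv_left.mul_left hxz).mul_left hh
      have := hI u hua huz
      rw [e2] at this
      have e3 : x = z := by
        calc x = h * (h⁻¹ * x * h) * h⁻¹ := by group
          _ = z := by rw [this, hh.eq, mul_inv_cancel_right]
      exact h0 (e.symm.trans (show D.pr x = 0 by rw [e3]; exact D.pr_z))

/-- What centralises the centre and a conjugate of `a` centralises the matching conjugate of the centre. -/
theorem cent_le (hI : D.Iso) {g : G} (hxz : Commute (g * z * g⁻¹) z) (hyz : Commute (g * a * g⁻¹) z) {h : G}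
    (hhz : Commute h z) (hhy : Commute h (g * a * g⁻¹)) : Commute h (g * z * g⁻¹) := by
  classical
  set x := g * z * g⁻¹ with hx
  set y := g * a * g⁻¹ with hy
  have hy2 : y * y = 1 := by rw [hy, conj_mul, D.a_sq]; group
  have hxy : Commute x y := by
    have := D.a_comm_z.symm.map (MulAut.conj g).toMonoidHom
    simpa [hx, hy, MulAut.conj_apply] using this
  let K : Subgroup G := centralizer {y}
  have hK : ∀ {t}, Commute t y → t ∈ K := fun e => mem_centralizer_singleton_iff.2 e.eq
  let xK : K := ⟨x, hK hxy⟩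
  have hiso : Cfsg.IsIsolatedInvolution xK := by
    refine ⟨orderOf_eq_prime (Subtype.ext (?_ : ((xK ^ 2 : K) : G) = 1)) fun e => ?_, fun u hu => ?_⟩
    · show x ^ 2 = 1
      rw [pow_two, hx, conj_mul, D.z_sq]; group
    · exact D.z_ne (conj_eq_one_iff.1 (congrArg Subtype.val e))
    · have hu' : Commute x ((u : G) * x * (u : G)⁻¹) := congrArg Subtype.val hu.eq
      have huy : Commute (u : G) y := mem_centralizer_singleton_iff.1 u.2
      set v := g⁻¹ * (u : G) * g with hv
      have h1 : Commute v a := by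
        have := huy.map (MulAut.conj g⁻¹).toMonoidHom
        simpa [hv, hy, MulAut.conj_apply, mul_assoc] using this
      have h2 : Commute (v * z * v⁻¹) z := by
        have := hu'.symm.map (MulAut.conj g⁻¹).toMonoidHom
        simpa [hv, hx, MulAut.conj_apply, mul_assoc] using this
      have h3 := hI v h1 h2
      refine Subtype.ext ?_
      show (u : G) * x * (u : G)⁻¹ = x
      calc (u : G) * x * (u : G)⁻¹ = g * (v * z * v⁻¹) * g⁻¹ := by rw [hv, hx]; group
        _ = x := by rw [h3]
  have hmem := IsoApps.comm_mem_oddCore hiso (⟨h, hK hhy⟩ : K)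
  set o := x * h * x⁻¹ * h⁻¹ with ho
  let O := Cfsg.oddCore K
  have hoz : Commute o z :=
    (((hxz.mul_left hhz).mul_left hxz.inv_left).mul_left hhz.inv_left)
  have hoy : Commute o y :=
    (((hxy.mul_left hhy).mul_left hxy.inv_left).mul_left hhy.inv_left)
  have hodd : ∀ w : K, w ∈ O → ((w : G)) ^ Nat.card O = 1 := fun w hw => by
    rw [← orderOf_dvd_iff_pow_eq_one, orderOf_submonoid (H := K.toSubmonoid) w]
    exact Subgroup.orderOf_dvd_natCard _ hw
  have hk : Odd (Nat.card O) := IsoApps.odd_oddCore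
  have hoO : (⟨o, hK hoy⟩ : K) ∈ O := hmem
  have hc : ∀ j ∈ D.J, Commute j y → Commute o j := by
    intro j hj hjy
    have h1 : (⟨o, hK hoy⟩ : K) * (⟨j, hK hjy⟩ * ⟨o, hK hoy⟩⁻¹ * ⟨j, hK hjy⟩⁻¹) ∈ O :=
      mul_mem hoO ((Solvable.pPrimeCore_normal 2).conj_mem _ (inv_mem hoO) _)
    have h2 := hodd _ h1
    have h3 : o * j * o⁻¹ * j⁻¹ ∈ D.J := mul_mem (D.J_norm o hoz j hj) (inv_mem hj)
    refine mul_inv_eq_iff_eq_mul.1 (mul_inv_eq_one.1 ?_)
    refine odd_two hk ?_ (D.pow_four h3)
    rw [← h2]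
    congr 1
    show o * j * o⁻¹ * j⁻¹ = o * (j * o⁻¹ * j⁻¹)
    group
  have h1 : o = 1 := D.odd_cent hoz hk (hodd _ hoO) hyz hy2 hoy hc
  exact (mul_inv_eq_iff_eq_mul.1 (mul_inv_eq_one.1 h1)).symm

/-- A member of the pair in the radical makes the pairs meet. -/
theorem meet_of_mem (hI : D.Iso) {g : G} (hxz : Commute (g * z * g⁻¹) z) (hxJ : g * z * g⁻¹ ∉ D.J)
    (h : g * a * g⁻¹ ∈ D.J ∨ g * (a * z) * g⁻¹ ∈ D.J) : D.Meet g := by
  rcases h with h | h
  · set y := g * a * g⁻¹ with hy
    have hyz : Commute y z := D.J_comm y h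
    have hy2 : y * y = 1 := by rw [hy, conj_mul, D.a_sq]; group
    by_cases h0 : D.pr y = 0
    · rcases (D.pr_zero y h).1 h0 with e | e | e | e
      · exact absurd (conj_eq_one_iff.1 e) D.a_ne
      · refine absurd (?_ : g⁻¹ * z * g⁻¹⁻¹ = a) (D.z_not_a _)
        rw [show g⁻¹ * z * g⁻¹⁻¹ = g⁻¹ * y * g by rw [e, inv_inv], hy]; group
      · exact Or.inl (Or.inl e)
      · exact Or.inl (Or.inr e)
    · exact absurd (D.hyper_elem hxz h hy2 h0 fun j hj hjy =>
        (D.cent_le hI hxz hyz (D.J_comm j hj) hjy).symm) hxJ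
  · exact Or.inr (D.no_conj_J hI h)

end St

end CfsgLib.Fi22Cent
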