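import Cfsg.Agent.Fi22Cent.AbClass

/-!
Fusion of the centre and of the second generator: isolation in each configuration with an isolated side.
-/

set_option autoImplicit false
set_option maxRecDepth 100000
set_option maxHeartbeats 1000000
set_option linter.style.haveILetI false
set_option linter.unusedSectionVars false

open scoped Matrix

namespace CfsgLib.Fi22Cent

open CfsgLib CfsgLib.U62Cent Subgroup
open CfsgLib.FiLarge (F4 om)
open CfsgLib.Unitary (suMat suMat_mul suMat_one su_ext)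

universe v

variable {G : Type*} [Group G] [Finite G] {V : Type v} [AddCommGroup V] [Module (ZMod 2) V]
  {z a : G} {R : Rep V}

namespace St

variable (D : St z a R)

include D

theorem back_comm {g : G} (h : Commute (g * z * g⁻¹) z) : Commute (g⁻¹ * z * g) z := by
  simpa [MulAut.conj_apply, mul_assoc] using h.symm.map (MulAut.conj g⁻¹).toMonoidHom

theorem cent_a (hC : ¬ D.Swap) {h : G} (hh : Commute h z) : Commute h a :=
  mul_inv_eq_iff_eq_mul.1 (by_contra fun e => hC ⟨h, hh, e⟩)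

theorem swap_inner (hS : D.Swap) {h : G} (hh : Commute h z) (ha : Commute h a) : h ∈ D.H0 := by
  obtain ⟨k, hk, hka⟩ := hS
  exact D.inner_of_comm hk (fun e => hka (by rw [e.eq, mul_inv_cancel_right])) hh ha

/-- The pair of the other conjugate stays in the centraliser. -/
theorem pair_comm {g : G} (h : Commute (g⁻¹ * z * g) a) : Commute (g * a * g⁻¹) z := by
  simpa [MulAut.conj_apply, mul_assoc] using h.symm.map (MulAut.conj g).toMonoidHom

/-- With a swapping element a meeting is trivial. -/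
theorem meet_eq (hS : D.Swap) (hI : D.Iso) {n : G} (hx : Commute (n * z * n⁻¹) z) (hM : D.Meet n) :
    n * z * n⁻¹ = z := by
  obtain ⟨s, hs, hsa⟩ := hS
  have sa : s * a * s⁻¹ = a * z := (D.conj_a hs).resolve_left hsa
  have saz : s * (a * z) * s⁻¹ = a := by
    rw [show s * (a * z) * s⁻¹ = s * a * s⁻¹ * (s * z * s⁻¹) by group, sa, D.conj_z hs, mul_assoc, D.z_sq, mul_one]
  have red : ∀ h : G, Commute h z → (h * n) * a * (h * n)⁻¹ = a → n * z * n⁻¹ = z := fun h hh e => by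
    have hc : Commute ((h * n) * z * (h * n)⁻¹) z := by
      rw [show (h * n) * z * (h * n)⁻¹ = h * (n * z * n⁻¹) * h⁻¹ by group]
      exact (hh.mul_left hx).mul_left hh.inv_left
    have h1 := hI _ (mul_inv_eq_iff_eq_mul.1 e) hc
    calc n * z * n⁻¹ = h⁻¹ * ((h * n) * z * (h * n)⁻¹) * h := by group
      _ = z := by rw [h1, mul_assoc, ← hh.eq, inv_mul_cancel_left]
  have red' : ∀ h : G, Commute h z → (h * n * s) * a * (h * n * s)⁻¹ = a → n * z * n⁻¹ = z := fun h hh e => by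
    have e2 : n * s * z * (n * s)⁻¹ = n * z * n⁻¹ := by
      rw [show n * s * z * (n * s)⁻¹ = n * (s * z * s⁻¹) * n⁻¹ by group, D.conj_z hs]
    have hc : Commute ((h * n * s) * z * (h * n * s)⁻¹) z := by
      rw [show (h * n * s) * z * (h * n * s)⁻¹ = h * (n * s * z * (n * s)⁻¹) * h⁻¹ by group, e2]
      exact (hh.mul_left hx).mul_left hh.inv_left
    have h1 := hI _ (mul_inv_eq_iff_eq_mul.1 e) hc
    calc n * z * n⁻¹ = h⁻¹ * ((h * n * s) * z * (h * n * s)⁻¹) * h := by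
          rw [show (h * n * s) * z * (h * n * s)⁻¹ = h * (n * s * z * (n * s)⁻¹) * h⁻¹ by group, e2]; group
      _ = z := by rw [h1, mul_assoc, ← hh.eq, inv_mul_cancel_left]
  rcases hM with (e | e) | e | e
  · exact red 1 (Commute.one_left z) (by rwa [one_mul])
  · refine red s hs ?_
    rw [show s * n * a * (s * n)⁻¹ = s * (n * a * n⁻¹) * s⁻¹ by group, e, saz]
  · refine red' 1 (Commute.one_left z) ?_
    rw [one_mul, show n * s * a * (n * s)⁻¹ = n * (s * a * s⁻¹) * n⁻¹ by group, sa, e]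
  · refine red' s hs ?_
    rw [show s * n * s * a * (s * n * s)⁻¹ = s * (n * (s * a * s⁻¹) * n⁻¹) * s⁻¹ by group, sa, e, saz]

/-- A commutator inside the inner part of the other centraliser gives an impossible pair. -/
theorem no_k (hS : D.Swap) (hI : D.Iso) {g : G} (hxz : Commute (g * z * g⁻¹) z) (hyx : ¬ g⁻¹ * z * g ∈ D.H0)
    {k : G} (hk : k ∈ D.J) (hc2 : g * z * g⁻¹ * k * (g * z * g⁻¹)⁻¹ * k⁻¹ * (g * z * g⁻¹ * k * (g * z * g⁻¹)⁻¹ * k⁻¹) = 1)
    (hc0 : D.pr (g * z * g⁻¹ * k * (g * z * g⁻¹)⁻¹ * k⁻¹) ≠ 0)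
    (hin : g⁻¹ * (g * z * g⁻¹ * k * (g * z * g⁻¹)⁻¹ * k⁻¹) * g ∈ D.H0) : False := by
  set x := g * z * g⁻¹ with hx
  set c := x * k * x⁻¹ * k⁻¹ with hc
  have hx2 : x * x = 1 := by rw [hx, conj_mul, D.z_sq]; group
  obtain ⟨hcJ, -, hinv⟩ := D.image_elem hxz hx2 hk
  have hxi : x⁻¹ = x := inv_eq_of_mul_eq_one_right hx2
  have hci : c⁻¹ = c := inv_eq_of_mul_eq_one_right hc2
  have hcx : Commute c x := by
    have h : x * c * x⁻¹ = c := by rw [hinv, hci]
    exact (mul_inv_eq_iff_eq_mul.1 h).symm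
  have hk1 : k * x * k⁻¹ = x * c := by
    rw [hc, show x * (x * k * x⁻¹ * k⁻¹) = x * x * k * x⁻¹ * k⁻¹ by group, hx2, one_mul, hxi]
  set n := g⁻¹ * k * g with hn
  have hx2' : n * z * n⁻¹ = z * (g⁻¹ * c * g) := by
    calc n * z * n⁻¹ = g⁻¹ * (k * x * k⁻¹) * g := by rw [hn, hx]; group
      _ = z * (g⁻¹ * c * g) := by rw [hk1, hx]; group
  have hcz := D.H0_comm _ hin
  have hM : D.Meet n := by
    refine D.meet_inner hI (by rw [hx2']; exact mul_mem D.z_mem_H0 hin) ?_
    -- the partner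
    have hyc : Commute (g * a * g⁻¹) c := by
      have := (D.H0_comm_a _ hin).symm.map (MulAut.conj g).toMonoidHom
      simpa [MulAut.conj_apply, mul_assoc] using this
    have hyx' : Commute (g * a * g⁻¹) x := by
      simpa [hx, MulAut.conj_apply] using D.a_comm_z.map (MulAut.conj g).toMonoidHom
    have hkc : Commute k c := by
      refine ((D.comm_iff hk hcJ).2 ?_)
      obtain ⟨-, hp, -⟩ := D.image_elem hxz hx2 hk
      have hq := (D.invol_iff hcJ).1 hc2
      rw [← hc] at hp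
      rw [hp, R.q_add, D.act_q hxz] at hq
      rw [hp, R.B_add_right, R.B_smul_self, add_zero, R.B_comm]
      exact (by decide : ∀ q b : ZMod 2, q + q + b = 0 → b = 0) _ _ hq
    have e : k⁻¹ * x * k = x * c := by
      have h1 : x = k⁻¹ * (x * c) * k := by rw [← hk1]; group
      calc k⁻¹ * x * k = k⁻¹ * (x * c) * k * (k⁻¹ * c * k) := by
            rw [show k⁻¹ * (x * c) * k * (k⁻¹ * c * k) = k⁻¹ * (x * (c * c)) * k by group, hc2, mul_one]
        _ = x * c := by rw [← h1, mul_assoc k⁻¹ c k, ← hkc.eq, inv_mul_cancel_left]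
    have h2 : Commute (g * a * g⁻¹) (k⁻¹ * x * k) := by rw [e]; exact hyx'.mul_right hyc
    have h3 := h2.map (MulAut.conj (g⁻¹ * k)).toMonoidHom
    simp only [MulEquiv.coe_toMonoidHom, MulAut.conj_apply] at h3
    rwa [show g⁻¹ * k * (g * a * g⁻¹) * (g⁻¹ * k)⁻¹ = n * a * n⁻¹ by rw [hn]; group,
      show g⁻¹ * k * (k⁻¹ * x * k) * (g⁻¹ * k)⁻¹ = z by rw [hx]; group] at h3
  have := D.meet_eq hS hI (by rw [hx2']; exact (Commute.refl z).mul_left hcz) hM
  rw [hx2'] at this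
  have hc1 : g⁻¹ * c * g = 1 := mul_eq_left.1 this
  exact hc0 (by rw [show c = g * (g⁻¹ * c * g) * g⁻¹ by group, hc1, mul_one, mul_inv_cancel]; exact D.pr_one)

/-- A hyperplane has a pair that does not commute. -/
theorem hyper_pair {p : V} (hp : p ≠ 0) : ∃ v w : V, R.B v p = 0 ∧ R.B w p = 0 ∧ R.B v w ≠ 0 := by
  classical
  haveI := R.finite
  by_contra hno
  push Not at hno
  obtain ⟨t, ht⟩ : ∃ t, R.B t p ≠ 0 := by
    by_contra h
    push Not at h
    exact hp (R.nondeg p fun w => (R.B_comm p w).trans (h w))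
  have hsub : (Set.univ : Set V) ⊆ {0, p, t, t + p} := fun v _ => by
    have key : ∀ v, R.B v p = 0 → v = 0 ∨ v = p := fun v hv => R.orth_perp fun w hw => hno v w hv hw
    by_cases hv : R.B v p = 0
    · rcases key v hv with e | e <;> simp [e]
    · rcases key (v + t) (by rw [R.B_add_left, zmod2_ne _ hv, zmod2_ne _ ht]; decide) with e | e
      · simp [eq_of_sum_zero e]
      · have : v = t + p := by rw [← e, add_comm v t, ← add_assoc, two_self, zero_add]
        simp [this]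
  have h := Set.ncard_le_ncard hsub (Set.toFinite _)
  rw [Set.ncard_univ, R.card] at h
  have h4 : ({0, p, t, t + p} : Set V).ncard ≤ 4 :=
    (Set.ncard_insert_le _ _).trans (Nat.succ_le_succ ((Set.ncard_insert_le _ _).trans (Nat.succ_le_succ
      ((Set.ncard_insert_le _ _).trans (Nat.succ_le_succ (Set.ncard_singleton _).le)))))
  omega

/-- What centralises a member outside the inner part commutes and has square one. -/
theorem outer_ab {g : G} (hyx : ¬ g⁻¹ * z * g ∈ D.H0) :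
    (∀ j ∈ D.J, Commute j (g * z * g⁻¹) → j * j = 1) ∧ D.Ab (g * z * g⁻¹) := by
  have back : ∀ {j : G}, Commute j (g * z * g⁻¹) → Commute (g⁻¹ * j * g) z := fun {j} h => by
    simpa [MulAut.conj_apply, mul_assoc] using h.map (MulAut.conj g⁻¹).toMonoidHom
  refine ⟨fun j hj hjx => (D.sq_cases hj).resolve_right fun e => hyx ?_, fun i hi j hj hix hjx => ?_⟩
  · have := D.sq_mem_H0 (back hjx)
    rwa [show g⁻¹ * j * g * (g⁻¹ * j * g) = g⁻¹ * (j * j) * g by group, e] at this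
  · by_contra hne
    have e := D.comm i hi j hj
    rw [if_neg (fun h => hne ((D.comm_iff hi hj).2 h))] at e
    set p := g⁻¹ * i * g
    set q := g⁻¹ * j * g
    have e' : p * q = q * p * (g⁻¹ * z * g) := by
      rw [show p * q = g⁻¹ * (i * j) * g by simp only [p, q]; group, e]
      simp only [p, q]; group
    have hz' : Commute (g⁻¹ * z * g) z := by
      have hp := back hix
      have hq := back hjx
      rw [show g⁻¹ * z * g = (q * p)⁻¹ * (p * q) by rw [e']; group]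
      exact ((hq.mul_left hp).inv_left).mul_left (hp.mul_left hq)
    have h1 := D.mul_mem_iff (back hix) (back hjx)
    have h2 := D.mul_mem_iff (back hjx) (back hix)
    have h3 := D.mul_mem_iff ((back hjx).mul_left (back hix)) hz'
    rw [← e'] at h3
    tauto

/-- With a swapping element, the centre of the other centraliser is inner there. -/
theorem no_good (hS : D.Swap) (hI : D.Iso) {g : G} (hxz : Commute (g * z * g⁻¹) z)
    (hyx : ¬ g⁻¹ * z * g ∈ D.H0) : False := by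
  classical
  set x := g * z * g⁻¹ with hx
  have hx2 : x * x = 1 := by rw [hx, conj_mul, D.z_sq]; group
  obtain ⟨hsq, hab⟩ := D.outer_ab hyx
  have hz'z := D.back_comm hxz
  by_cases hxJ : x ∈ D.J
  · by_cases hp : D.pr x = 0
    · rcases (D.pr_zero x hxJ).1 hp with e | e | e | e
      · exact D.z_ne (conj_eq_one_iff.1 e)
      · exact hyx (by rw [show g⁻¹ * z * g = g⁻¹ * x * g by rw [e], hx]; simpa [mul_assoc] using D.z_mem_H0)
      · exact D.z_not_a g e
      · exact D.z_not_az g e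
    · obtain ⟨v, w, hv, hw, hvw⟩ := D.hyper_pair hp
      obtain ⟨i, hi, rfl⟩ := D.pr_surj v
      obtain ⟨j, hj, rfl⟩ := D.pr_surj w
      exact hvw ((D.comm_iff hi hj).1 (hab i hi j hj ((D.comm_iff hi hxJ).2 hv) ((D.comm_iff hj hxJ).2 hw)))
  by_cases hxH : x ∈ D.H0
  · rcases Rep.shapes (R := R) with hN | hT
    swap; · exact D.ab_tri hT hxH hx2 hxJ hab
    obtain ⟨D', eJ, eH⟩ := D.exists_natural hN
    have hab' : D'.Ab x := fun i hi j hj => hab i (eJ ▸ hi) j (eJ ▸ hj)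
    have hsq' : ∀ j ∈ D'.J, Commute j x → j * j = 1 := fun j hj => hsq j (eJ ▸ hj)
    obtain ⟨h, hh, e⟩ := D'.ab_nat (eH ▸ hxH) hx2 (fun q => hxJ (eJ ▸ q)) hab'
    have hh' := D'.H0_comm h hh
    set g' := h * g with hg'
    have ex : g' * z * g'⁻¹ = h * x * h⁻¹ := by rw [hg', hx]; group
    have hzeq : g'⁻¹ * z * g' = g⁻¹ * z * g := by
      rw [hg', show (h * g)⁻¹ * z * (h * g) = g⁻¹ * (h⁻¹ * z * h) * g by group, hh'.inv_left.eq,
        inv_mul_cancel_right]
    have hyx' : ¬ g'⁻¹ * z * g' ∈ D'.H0 := by rw [hzeq, eH]; exact hyx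
    have hxz' : Commute (g' * z * g'⁻¹) z := by rw [ex]; exact (hh'.mul_left hxz).mul_left hh'.inv_left
    set x' := g' * z * g'⁻¹ with hx'
    have hx'H : x' ∈ D'.H0 := by rw [ex]; exact mul_mem (mul_mem hh (eH ▸ hxH)) (inv_mem hh)
    have hx'2 : x' * x' = 1 := by rw [hx', conj_mul, D.z_sq]; group
    have ep : D'.ph x' = s0 := by rw [ex]; exact e
    obtain ⟨k1, hk1, e1⟩ := D'.pr_surj (![1, 0, 0, 0] : V4)
    obtain ⟨k2, hk2, e2⟩ := D'.pr_surj (![0, 0, 1, 0] : V4)
    have img : ∀ k ∈ D'.J, D'.pr (x' * k * x'⁻¹ * k⁻¹) = suMat s0 *ᵥ D'.pr k + D'.pr k ∧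
        x' * k * x'⁻¹ * k⁻¹ ∈ D'.J ∧ x' * k * x'⁻¹ * k⁻¹ * (x' * k * x'⁻¹ * k⁻¹) = 1 := fun k hk => by
      obtain ⟨m, p, -⟩ := D'.image_elem hxz' hx'2 hk
      rw [D'.act_H0 hx'H, ep, R4_r] at p
      refine ⟨p, m, (D'.invol_iff m).2 ?_⟩
      rw [p, R4_q]
      exact LS_qn4 _ (by rw [add_comm]; exact LS_image _)
    set c1 := x' * k1 * x'⁻¹ * k1⁻¹
    set c2 := x' * k2 * x'⁻¹ * k2⁻¹
    obtain ⟨p1', m1, q1⟩ := img k1 hk1
    obtain ⟨p2', m2, q2⟩ := img k2 hk2
    rw [e1, s0_image] at p1'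
    rw [e2, s0_image] at p2'
    by_cases i1 : g'⁻¹ * c1 * g' ∈ D'.H0
    · exact D'.no_k hS hI hxz' hyx' hk1 q1 (by rw [p1']; decide +kernel) i1
    by_cases i2 : g'⁻¹ * c2 * g' ∈ D'.H0
    · exact D'.no_k hS hI hxz' hyx' hk2 q2 (by rw [p2']; decide +kernel) i2
    obtain ⟨p3', -, q3⟩ := img (k1 * k2) (mul_mem hk1 hk2)
    have hcomm : Commute k1 c2 := (D'.comm_iff hk1 m2).2 (by rw [e1, p2', R4_B]; decide +kernel)
    have e3 : x' * (k1 * k2) * x'⁻¹ * (k1 * k2)⁻¹ = c1 * c2 := by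
      rw [show x' * (k1 * k2) * x'⁻¹ * (k1 * k2)⁻¹ = c1 * (k1 * c2 * k1⁻¹) by simp only [c1, c2]; group,
        hcomm.eq, mul_inv_cancel_right]
    refine D'.no_k hS hI hxz' hyx' (mul_mem hk1 hk2) q3 ?_ ?_
    · rw [p3', D'.pr_mul _ hk1 _ hk2, e1, e2, s0_image]; decide +kernel
    · have back : ∀ k ∈ D'.J, ∀ c, c = x' * k * x'⁻¹ * k⁻¹ → c * c = 1 → Commute (g'⁻¹ * c * g') z := by
        intro k hk c hc h2
        obtain ⟨-, -, hinv⟩ := D'.image_elem hxz' hx'2 hk
        rw [← hc, inv_eq_of_mul_eq_one_right h2] at hinv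
        have := (mul_inv_eq_iff_eq_mul.1 hinv).symm
        simpa [hx', MulAut.conj_apply, mul_assoc] using
          (show Commute c x' from this).map (MulAut.conj g'⁻¹).toMonoidHom
      rw [e3, show g'⁻¹ * (c1 * c2) * g' = g'⁻¹ * c1 * g' * (g'⁻¹ * c2 * g') by group]
      exact (D'.mul_mem_iff (back k1 hk1 c1 rfl q1) (back k2 hk2 c2 rfl q2)).2 (iff_of_false i1 i2)
  · -- an outer member
    have hxa : x * a * x⁻¹ = a * z :=
      (D.conj_a hxz).resolve_left fun e => hxH (D.swap_inner hS hxz (mul_inv_eq_iff_eq_mul.1 e))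
    have hxi : x⁻¹ = x := inv_eq_of_mul_eq_one_right hx2
    have lift : ∀ v, D.act x v = v → R.q v = 0 := fun v hv => by
      obtain ⟨j, hj, rfl⟩ := D.pr_surj v
      rw [D.act_pr hxz hj] at hv
      obtain ⟨d, hd, ed⟩ := D.eq_of_pr hj (D.J_norm x hxz j hj) hv.symm
      have hxx : x * (x * j * x⁻¹) * x⁻¹ = j := by
        rw [show x * (x * j * x⁻¹) * x⁻¹ = (x * x) * j * (x * x)⁻¹ by group, hx2]; group
      rcases hd with q | q | q | q <;> rw [q] at ed
      · exact (D.invol_iff hj).1 (hsq j hj (mul_inv_eq_iff_eq_mul.1 (by rw [ed, mul_one])).symm)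
      · have hja : x * (j * a) * x⁻¹ = j * a := by
          rw [show x * (j * a) * x⁻¹ = x * j * x⁻¹ * (x * a * x⁻¹) by group, ed, hxa,
            show j * z * (a * z) = j * (z * a) * z by group, ← D.a_comm_z.eq,
            show j * (a * z) * z = j * a * (z * z) by group, D.z_sq, mul_one]
        have := (D.invol_iff (mul_mem hj D.a_mem)).1
          (hsq _ (mul_mem hj D.a_mem) (mul_inv_eq_iff_eq_mul.1 hja).symm)
        rwa [D.pr_mul _ hj _ D.a_mem, D.pr_a, add_zero] at this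
      · exfalso
        rw [ed, show x * (j * a) * x⁻¹ = x * j * x⁻¹ * (x * a * x⁻¹) by group, ed, hxa,
          show j * a * (a * z) = j * (a * a) * z by group, D.a_sq, mul_one, mul_eq_left] at hxx
        exact D.z_ne hxx
      · exfalso
        rw [ed, show x * (j * (a * z)) * x⁻¹ = x * j * x⁻¹ * (x * a * x⁻¹ * (x * z * x⁻¹)) by group, ed, hxa,
          D.conj_z hxz, show j * (a * z) * (a * z * z) = j * (a * z * (a * z)) * z by group, D.az_sq, mul_one,
          mul_eq_left] at hxx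
        exact D.z_ne hxx
    obtain ⟨v, hv⟩ : ∃ v, D.act x v ≠ v := by
      by_contra h
      push Not at h
      exact hxJ (D.mem_J_of_act hxz h)
    obtain ⟨k, hk, rfl⟩ := D.pr_surj v
    obtain ⟨hcJ, hcp, hinv⟩ := D.image_elem hxz hx2 hk
    have hc0 : D.pr (x * k * x⁻¹ * k⁻¹) ≠ 0 := by rw [hcp]; exact fun e => hv (eq_of_sum_zero e)
    have hc2 : x * k * x⁻¹ * k⁻¹ * (x * k * x⁻¹ * k⁻¹) = 1 :=
      (D.invol_iff hcJ).2 (by rw [hcp]; exact lift _ (D.act_image hxz hx2 _))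
    set c := x * k * x⁻¹ * k⁻¹ with hc
    by_cases hin : g⁻¹ * c * g ∈ D.H0
    · exact D.no_k hS hI hxz hyx hk hc2 hc0 hin
    have hcx : Commute c x := by
      rw [inv_eq_of_mul_eq_one_right hc2] at hinv
      exact (mul_inv_eq_iff_eq_mul.1 hinv).symm
    have ec : x * (k * a) * x⁻¹ * (k * a)⁻¹ = c * z := by
      rw [show x * (k * a) * x⁻¹ * (k * a)⁻¹ = x * k * x⁻¹ * (x * a * x⁻¹) * a⁻¹ * k⁻¹ by group, hxa,
        show x * k * x⁻¹ * (a * z) * a⁻¹ * k⁻¹ = x * k * x⁻¹ * (a * z * a⁻¹) * k⁻¹ by group, D.a_comm_z.eq,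
        mul_inv_cancel_right, show x * k * x⁻¹ * z * k⁻¹ = x * k * x⁻¹ * (z * k⁻¹) by group,
        ← ((D.J_comm k hk).inv_left).eq, hc]
      group
    refine D.no_k hS hI hxz hyx (mul_mem hk D.a_mem) ?_ ?_ ?_
    · rw [ec, show c * z * (c * z) = c * (z * c) * z by group, ← (D.J_comm c hcJ).eq,
        show c * (c * z) * z = c * c * (z * z) by group, hc2, D.z_sq, mul_one]
    · rw [ec, D.pr_mul _ hcJ _ D.z_mem, D.pr_z, add_zero]; exact hc0
    · rw [ec, show g⁻¹ * (c * z) * g = g⁻¹ * c * g * (g⁻¹ * z * g) by group]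
      refine (D.mul_mem_iff ?_ hz'z).2 (iff_of_false hin hyx)
      simpa [hx, MulAut.conj_apply, mul_assoc] using hcx.map (MulAut.conj g⁻¹).toMonoidHom

/-- (S) With a swapping element and `z` isolated beside `a`, it is isolated. -/
theorem isolated_swap (hS : D.Swap) (hI : D.Iso) (g : G) (hxz : Commute (g * z * g⁻¹) z) : g * z * g⁻¹ = z := by
  by_contra hne
  by_cases h1 : g⁻¹ * z * g ∈ D.H0
  swap; · exact D.no_good hS hI hxz h1
  by_cases h2 : g * z * g⁻¹ ∈ D.H0
  · exact hne (D.meet_eq hS hI hxz (D.meet_inner hI h2 (D.pair_comm (D.H0_comm_a _ h1))))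
  · refine D.no_good hS hI (g := g⁻¹) ?_ (by rwa [inv_inv])
    simpa using D.back_comm hxz

/-- An inner involution with the centraliser of an outer member in the radical. -/
theorem outer_false {g : G} (hxz : Commute (g * z * g⁻¹) z) (hxH : g * z * g⁻¹ ∉ D.H0)
    (hyx : ¬ g⁻¹ * z * g ∈ D.H0) {m : G} (hm : m ∈ D.H0) (hm2 : m * m = 1) (hmJ : m ∉ D.J)
    (hsub : ∀ j ∈ D.J, Commute j m → Commute j (g * z * g⁻¹)) : False := by
  set x := g * z * g⁻¹ with hx
  have hx2 : x * x = 1 := by rw [hx, conj_mul, D.z_sq]; group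
  obtain ⟨-, hab⟩ := D.outer_ab hyx
  have habm : D.Ab m := fun i hi j hj hix hjx => hab i hi j hj (hsub i hi hix) (hsub j hj hjx)
  rcases Rep.shapes (R := R) with hN | hT
  swap; · exact D.ab_tri hT hm hm2 hmJ habm
  obtain ⟨D', eJ, eH⟩ := D.exists_natural hN
  have habm' : D'.Ab m := fun i hi j hj => habm i (eJ ▸ hi) j (eJ ▸ hj)
  obtain ⟨h, hh, e⟩ := D'.ab_nat (eH ▸ hm) hm2 (fun q => hmJ (eJ ▸ q)) habm'
  have hh' := D'.H0_comm h hh
  set x' := h * x * h⁻¹ with hx'
  have hx'z : Commute x' z := (hh'.mul_left hxz).mul_left hh'.inv_left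
  have hm' : h * m * h⁻¹ ∈ D'.H0 := mul_mem (mul_mem hh (eH ▸ hm)) (inv_mem hh)
  have hm'2 : h * m * h⁻¹ * (h * m * h⁻¹) = 1 := by rw [conj_mul, hm2]; group
  have hfix : ∀ v, LS v → D'.act x' v = v := fun v hv => by
    have e0 : D'.act (h * m * h⁻¹) (![v 0, 0, v 2, 0] : V4) + ![v 0, 0, v 2, 0] = v := by
      rw [D'.act_H0 hm', e, R4_r, add_comm]
      exact LS_lift hv
    have hS := D'.inS_image (D'.H0_comm _ hm') hm'2 (![v 0, 0, v 2, 0] : V4)
    rw [e0, R4_q] at hS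
    obtain ⟨j, hj, rfl, hjm⟩ := hS (LS_qn4 v hv)
    refine D'.act_fix hx'z hj ?_
    have h0 : h⁻¹ * j * h ∈ D'.J := by simpa using D'.J_norm h⁻¹ hh'.inv_left j hj
    have h1 : Commute (h⁻¹ * j * h) m := by
      simpa [MulAut.conj_apply, mul_assoc] using hjm.map (MulAut.conj h⁻¹).toMonoidHom
    have h2 := ((hsub _ (eJ ▸ h0) h1).map (MulAut.conj h).toMonoidHom).symm
    simpa [hx', MulAut.conj_apply, mul_assoc] using h2
  have hl : ∀ (c : F4) (v : V4), D'.act x' (c • v) = c • D'.act x' v := by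
    rcases semilinear (f := D'.actL _ hx'z) (D'.actL_norm hx'z) with q | q
    · exact q
    · exfalso
      have h1 : D'.act x' (om • p0) = (om * om) • D'.act x' p0 := q om p0
      rw [hfix _ (by decide +kernel), hfix _ (by decide +kernel)] at h1
      exact absurd h1 (by decide +kernel)
  have h4e := h4_of_qn4 (f := { toFun := D'.act x', map_add' := D'.act_add hx'z, map_smul' := hl })
    (fun w => D'.act_q hx'z w)
  obtain ⟨u, hu⟩ := lin_mem (D'.act_add hx'z) hl h4e hfix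
  obtain ⟨k, hk, rfl⟩ := D'.ph_surj u
  have hkz := D'.H0_comm k hk
  have hJ : k⁻¹ * x' ∈ D'.J := D'.mem_J_of_act (hkz.inv_left.mul_left hx'z) fun v => by
    rw [D'.act_mul hkz.inv_left hx'z, hu, ← R4_r, ← D'.act_H0 hk, D'.act_inv hkz]
  have hx'H : x' ∈ D'.H0 := by
    have := mul_mem hk (D'.J_le hJ)
    rwa [mul_inv_cancel_left] at this
  apply hxH
  rw [← eH]
  have := mul_mem (mul_mem (inv_mem hh) hx'H) hh
  rwa [hx', show h⁻¹ * (h * x * h⁻¹) * h = x by group] at this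

/-- Without swapping elements the centraliser of a member centralises the whole pair. -/
theorem cent_pair (hC : ¬ D.Swap) {g j : G} (hj : Commute j (g * z * g⁻¹)) :
    Commute j (g * a * g⁻¹) ∧ Commute j (g * (a * z) * g⁻¹) := by
  have h1 : Commute (g⁻¹ * j * g) z := by
    simpa [MulAut.conj_apply, mul_assoc] using hj.map (MulAut.conj g⁻¹).toMonoidHom
  have key : ∀ {b}, Commute (g⁻¹ * j * g) b → Commute j (g * b * g⁻¹) := fun {b} h => by
    simpa [MulAut.conj_apply, mul_assoc] using h.map (MulAut.conj g).toMonoidHom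
  exact ⟨key (D.cent_a hC h1), key ((D.cent_a hC h1).mul_right h1)⟩

theorem no_move (hC : ¬ D.Swap) {g : G} : g * a * g⁻¹ ≠ a * z ∧ g * (a * z) * g⁻¹ ≠ a :=
  ⟨fun e => hC (by
    obtain ⟨c, hc, e'⟩ := D.fus e
    exact ⟨c, hc, fun q => D.az_ne_a (e'.symm.trans q)⟩), fun e => hC (by
    obtain ⟨c, hc, e'⟩ := D.fus_rev e
    exact ⟨c, hc, fun q => D.az_ne_a (e'.symm.trans q)⟩)⟩

/-- (C1) Without swapping elements and both sides isolated, `z` is isolated. -/
theorem isolated_cent (hC : ¬ D.Swap) (hI : D.Iso) (hI' : D.other.Iso) (g : G)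
    (hxz : Commute (g * z * g⁻¹) z) : g * z * g⁻¹ = z := by
  obtain ⟨hy, hy'⟩ := D.cent_pair hC hxz.symm
  have done : ∀ n : G, Commute (n * z * n⁻¹) z → D.Meet n → n * z * n⁻¹ = z := by
    intro n hn hM
    rcases hM with (e | e) | e | e
    · exact hI n (mul_inv_eq_iff_eq_mul.1 e) hn
    · exact absurd e (D.no_move hC).1
    · exact absurd e (D.no_move hC).2
    · exact hI' n (mul_inv_eq_iff_eq_mul.1 e) hn
  set x := g * z * g⁻¹ with hx
  by_cases h2 : x ∈ D.H0
  · exact done g hxz (D.meet_inner hI h2 hy.symm)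
  by_cases h1 : g⁻¹ * z * g ∈ D.H0
  · have hxz' : Commute (g⁻¹ * z * g⁻¹⁻¹) z := by rw [inv_inv]; exact D.back_comm hxz
    have := done g⁻¹ hxz' (D.meet_inner hI (by rw [inv_inv]; exact h1) (D.cent_pair hC hxz'.symm).1.symm)
    calc x = g * z * g⁻¹ := hx
      _ = g * (g⁻¹ * z * g⁻¹⁻¹) * g⁻¹ := by rw [this]
      _ = z := by group
  exfalso
  have hmem : g * a * g⁻¹ ∈ D.J ∨ g * (a * z) * g⁻¹ ∈ D.J → False := fun h =>
    h2 (by rw [hx, done g hxz (D.meet_of_mem hI hxz (fun q => h2 (D.J_le q)) h)]; exact D.z_mem_H0)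
  have e : g * (a * z) * g⁻¹ = g * a * g⁻¹ * x := by rw [hx]; group
  by_cases hm : g * a * g⁻¹ ∈ D.H0
  · exact D.outer_false hxz h2 h1 hm (by rw [conj_mul, D.a_sq]; group) (fun q => hmem (Or.inl q))
      fun j hj hjy => D.cent_le hI hxz hy.symm (D.J_comm j hj) hjy
  · refine D.outer_false hxz h2 h1 (m := g * (a * z) * g⁻¹) ?_ (by rw [conj_mul, D.az_sq]; group)
      (fun q => hmem (Or.inr q)) fun j hj hjy => D.other.cent_le hI' hxz hy'.symm (D.J_comm j hj) hjy
    rw [e]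
    exact (D.mul_mem_iff hy.symm hxz).2 (iff_of_false hm h2)

/-- (C2) Without swapping elements and only the other side isolated, `a` is isolated. -/
theorem a_isolated (hC : ¬ D.Swap) (hI' : D.other.Iso) (g0 : G) (hg0 : Commute (g0 * a * g0⁻¹) a) :
    g0 * a * g0⁻¹ = a := by
  classical
  haveI : Fact (Nat.Prime 2) := ⟨Nat.prime_two⟩
  let C : Subgroup G := centralizer {a} ⊓ centralizer {g0 * a * g0⁻¹}
  obtain ⟨S⟩ : Nonempty (Sylow 2 C) := inferInstance
  set P : Subgroup G := (S : Subgroup C).map C.subtype with hPdef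
  have hP : IsPGroup 2 P := S.isPGroup'.map _
  have hPC : ∀ t ∈ P, Commute t a ∧ Commute t (g0 * a * g0⁻¹) := by
    rintro _ ⟨t, -, rfl⟩
    exact ⟨mem_centralizer_singleton_iff.1 t.2.1, mem_centralizer_singleton_iff.1 t.2.2⟩
  have hPmax : ∀ Q : Subgroup G, IsPGroup 2 Q → P ≤ Q → (∀ t ∈ Q, Commute t a ∧ Commute t (g0 * a * g0⁻¹)) →
      Q ≤ P := by
    intro Q hQ hle hQC t ht
    have htC : t ∈ C := ⟨mem_centralizer_singleton_iff.2 (hQC t ht).1, mem_centralizer_singleton_iff.2 (hQC t ht).2⟩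
    have hmax := S.is_maximal' (hQ.comap_of_injective C.subtype C.subtype_injective) fun s hs => hle ⟨s, hs, rfl⟩
    exact ⟨⟨t, htC⟩, hmax.le (show (⟨t, htC⟩ : C) ∈ Q.comap C.subtype from ht), rfl⟩
  obtain ⟨m, hma, hmP⟩ := D.cover hP fun t ht => (hPC t ht).1
  set g1 := m⁻¹ * g0 with hg1
  set a' := g1 * a * g1⁻¹ with ha'
  have hma' : m⁻¹ * a * m = a := by rw [hma.inv_left.eq, inv_mul_cancel_right]
  suffices h : a' = a by
    calc g0 * a * g0⁻¹ = m * a' * m⁻¹ := by rw [ha', hg1]; group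
      _ = a := by rw [h, hma.eq, mul_inv_cancel_right]
  set P1 := P.map (MulAut.conj m⁻¹).toMonoidHom with hP1def
  have hP1 : IsPGroup 2 P1 := hP.map _
  have hP1C : ∀ t ∈ P1, Commute t z ∧ Commute t a ∧ Commute t a' := by
    rintro _ ⟨t, ht, rfl⟩
    have k1 := (hmP t ht).map (MulAut.conj m⁻¹).toMonoidHom
    have k2 := (hPC t ht).1.map (MulAut.conj m⁻¹).toMonoidHom
    have k3 := (hPC t ht).2.map (MulAut.conj m⁻¹).toMonoidHom
    simp only [MulEquiv.coe_toMonoidHom, MulAut.conj_apply] at k1 k2 k3 ⊢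
    rw [show m⁻¹ * (m * z * m⁻¹) * m⁻¹⁻¹ = z by group] at k1
    rw [inv_inv, hma'] at k2
    rw [show m⁻¹ * (g0 * a * g0⁻¹) * m⁻¹⁻¹ = a' by rw [ha', hg1]; group] at k3
    rw [inv_inv]
    rw [inv_inv] at k1 k3
    exact ⟨k1, k2, k3⟩
  have hmax1 : ∀ Q : Subgroup G, IsPGroup 2 Q → P1 ≤ Q → (∀ t ∈ Q, Commute t a ∧ Commute t a') → Q ≤ P1 := by
    intro Q hQ hle hQC t ht
    have hQm := hPmax (Q.map (MulAut.conj m).toMonoidHom) (hQ.map _)
      (fun p hp => ⟨m⁻¹ * p * m, hle ⟨p, hp, by simp [MulAut.conj_apply]⟩, by simp [MulAut.conj_apply, mul_assoc]⟩)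
      (by
        rintro _ ⟨q, hq, rfl⟩
        have k2 := (hQC q hq).1.map (MulAut.conj m).toMonoidHom
        have k3 := (hQC q hq).2.map (MulAut.conj m).toMonoidHom
        simp only [MulEquiv.coe_toMonoidHom, MulAut.conj_apply] at k2 k3 ⊢
        rw [hma.eq, mul_inv_cancel_right] at k2
        rw [show m * a' * m⁻¹ = g0 * a * g0⁻¹ by rw [ha', hg1]; group] at k3
        exact ⟨k2, k3⟩)
    exact ⟨m * t * m⁻¹, hQm ⟨t, ht, rfl⟩, by simp [MulAut.conj_apply, mul_assoc]⟩
  have ha'a : Commute a' a := by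
    have := hg0.map (MulAut.conj m⁻¹).toMonoidHom
    simp only [MulEquiv.coe_toMonoidHom, MulAut.conj_apply, inv_inv] at this
    rwa [hma', show m⁻¹ * (g0 * a * g0⁻¹) * m = a' by rw [ha', hg1]; group] at this
  have two : ∀ {w : G}, w * w = 1 → IsPGroup 2 (zpowers w) := fun {w} hw t => by
    obtain ⟨n, hn⟩ := mem_zpowers_iff.1 t.2
    refine ⟨1, Subtype.ext ?_⟩
    show (t : G) ^ 2 ^ 1 = 1
    rw [← hn, pow_one, ← zpow_natCast, ← zpow_mul, mul_comm, zpow_mul, zpow_natCast, pow_two, hw, one_zpow]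
  have absorb : ∀ {w : G}, w * w = 1 → Commute w a → Commute w a' → (∀ t ∈ P1, Commute t w) → w ∈ P1 := by
    intro w hw wa wa' wP
    have hn : P1 ≤ normalizer (zpowers w : Set G) := fun t ht => mem_normalizer_iff.2 fun s => by
      have hts : ∀ {s}, s ∈ zpowers w → Commute t s := fun hs => by
        obtain ⟨n, rfl⟩ := mem_zpowers_iff.1 hs; exact (wP t ht).zpow_right n
      constructor
      · intro hs; rw [(hts hs).eq, mul_inv_cancel_right]; exact hs
      · intro hs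
        have e := (hts hs).eq
        have : t * s * t⁻¹ = s := by
          have h2 : t * (t * s * t⁻¹) = t * s := by rw [e]; group
          exact mul_left_cancel h2
        rwa [this] at hs
    refine hmax1 (P1 ⊔ zpowers w) (hP1.to_sup_of_normal_right' (two hw) hn) le_sup_left ?_ (mem_sup_right (mem_zpowers w))
    intro t ht
    have hle : P1 ⊔ zpowers w ≤ centralizer {a} ⊓ centralizer {a'} := sup_le
      (fun s hs => ⟨mem_centralizer_singleton_iff.2 (hP1C s hs).2.1, mem_centralizer_singleton_iff.2 (hP1C s hs).2.2⟩)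
      (zpowers_le.2 ⟨mem_centralizer_singleton_iff.2 wa, mem_centralizer_singleton_iff.2 wa'⟩)
    exact ⟨mem_centralizer_singleton_iff.1 (hle ht).1, mem_centralizer_singleton_iff.1 (hle ht).2⟩
  have ha'P : a' ∈ P1 :=
    absorb (by rw [ha', conj_mul, D.a_sq]; group) ha'a (Commute.refl a') fun t ht => (hP1C t ht).2.2
  have ha'z : Commute a' z := (hP1C _ ha'P).1
  have hzP : z ∈ P1 := absorb D.z_sq D.a_comm_z.symm ha'z.symm fun t ht => (hP1C t ht).1
  obtain ⟨k, hka, hkP⟩ := (D.conj g1).cover hP1 fun t ht => (hP1C t ht).2.2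
  set g := k * g1 with hg
  have hga : g * a * g⁻¹ = a' := by
    rw [hg, show k * g1 * a * (k * g1)⁻¹ = k * (g1 * a * g1⁻¹) * k⁻¹ by group, ← ha', hka.eq, mul_inv_cancel_right]
  set x := g * z * g⁻¹ with hx
  have hxP : ∀ t ∈ P1, Commute t x := fun t ht => by
    rw [hx, hg, show k * g1 * z * (k * g1)⁻¹ = k * (g1 * z * g1⁻¹) * k⁻¹ by group]; exact hkP t ht
  have hxz : Commute x z := (hxP z hzP).symm
  obtain ⟨hy, hy'⟩ := D.cent_pair hC (g := g) hxz.symm
  have done : ∀ n : G, Commute (n * z * n⁻¹) z → D.other.Meet n → n * a * n⁻¹ = a := by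
    intro n hn hM
    have hazz : a * z * z = a := by rw [mul_assoc, D.z_sq, mul_one]
    unfold St.Meet at hM
    rw [hazz] at hM
    rcases hM with (e | e) | e | e
    · have h1 := hI' n (mul_inv_eq_iff_eq_mul.1 e) hn
      rw [(D.cent_a hC (mul_inv_eq_iff_eq_mul.1 h1)).eq, mul_inv_cancel_right]
    · exact absurd e (D.no_move hC).2
    · exact absurd e (D.no_move hC).1
    · exact e
  rw [← hga]
  by_cases h2 : x ∈ D.H0
  · exact done g hxz (D.other.meet_inner hI' h2 hy'.symm)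
  by_cases h1 : g⁻¹ * z * g ∈ D.H0
  · have hxz' : Commute (g⁻¹ * z * g⁻¹⁻¹) z := by rw [inv_inv]; exact D.back_comm hxz
    have e := done g⁻¹ hxz' (D.other.meet_inner hI' (by rw [inv_inv]; exact h1) (D.cent_pair hC hxz'.symm).2.symm)
    conv_lhs => arg 1; arg 2; rw [← e]
    group
  have hazz : a * z * z = a := by rw [mul_assoc, D.z_sq, mul_one]
  by_cases hmem : g * a * g⁻¹ ∈ D.J ∨ g * (a * z) * g⁻¹ ∈ D.J
  · refine done g hxz (D.other.meet_of_mem hI' hxz (fun q => h2 (D.J_le q)) ?_)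
    rw [hazz]
    exact hmem.symm
  exfalso
  have e : g * (a * z) * g⁻¹ = g * a * g⁻¹ * x := by rw [hx]; group
  by_cases hm : g * a * g⁻¹ ∈ D.H0
  · refine D.outer_false hxz h2 h1 hm (by rw [conj_mul, D.a_sq]; group) (fun q => hmem (Or.inl q))
      fun j hj hjy => ?_
    rw [hga] at hjy
    set K : Subgroup G := D.J ⊓ centralizer {a'}
    have hKC : ∀ {t}, t ∈ K ↔ t ∈ D.J ∧ Commute t a' := fun {t} => by
      show t ∈ D.J ∧ t ∈ centralizer {a'} ↔ _
      rw [mem_centralizer_singleton_iff]; rfl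
    have hK2 : IsPGroup 2 K := fun t => ⟨2, Subtype.ext (by
      have := D.pow_four (hKC.1 t.2).1
      simpa [pow_succ, mul_assoc] using this)⟩
    have hn : P1 ≤ normalizer (K : Set G) := fun t ht => by
      have key : ∀ {u}, u ∈ P1 → ∀ {s}, s ∈ K → u * s * u⁻¹ ∈ K := fun {u} hu {s} hs => hKC.2
        ⟨D.J_norm u (hP1C u hu).1 s (hKC.1 hs).1,
          ((hP1C u hu).2.2.mul_left (hKC.1 hs).2).mul_left (hP1C u hu).2.2.inv_left⟩
      refine mem_normalizer_iff.2 fun s => ⟨key ht, fun hs => ?_⟩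
      have := key (inv_mem ht) hs
      simpa [mul_assoc] using this
    have hle : P1 ⊔ K ≤ centralizer {a} ⊓ centralizer {a'} := sup_le
      (fun s hs => ⟨mem_centralizer_singleton_iff.2 (hP1C s hs).2.1, mem_centralizer_singleton_iff.2 (hP1C s hs).2.2⟩)
      (fun s hs => ⟨mem_centralizer_singleton_iff.2 (D.J_comm_a s (hKC.1 hs).1),
        mem_centralizer_singleton_iff.2 (hKC.1 hs).2⟩)
    have hKP := hmax1 (P1 ⊔ K) (hP1.to_sup_of_normal_right' hK2 hn) le_sup_left fun t ht =>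
      ⟨mem_centralizer_singleton_iff.1 (hle ht).1, mem_centralizer_singleton_iff.1 (hle ht).2⟩
    exact hxP j (hKP (mem_sup_right (hKC.2 ⟨hj, hjy⟩)))
  · refine D.outer_false hxz h2 h1 (m := g * (a * z) * g⁻¹) ?_ (by rw [conj_mul, D.az_sq]; group)
      (fun q => hmem (Or.inr q)) fun j hj hjy => D.other.cent_le hI' hxz hy'.symm (D.J_comm j hj) hjy
    rw [e]
    exact (D.mul_mem_iff hy.symm hxz).2 (iff_of_false hm h2)

end St

end CfsgLib.Fi22Cent
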