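import Cfsg.Agent.Fi22Cent.SplitMain
import Cfsg.Agent.Fi22Cent.Fusion
import Mathlib.GroupTheory.FixedPointFree

/-!
The outcomes: the centre isolated, or the second generator isolated over the unitary group in index two.
-/

set_option autoImplicit false
set_option maxRecDepth 100000
set_option maxHeartbeats 1000000
set_option linter.style.haveILetI false
set_option linter.unusedSectionVars false
set_option linter.unusedVariables false

namespace CfsgLib.Fi22Cent

open CfsgLib CfsgLib.U62Cent Subgroup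
open CfsgLib.Fi23Cent (Qt QFacts central_normal)

attribute [local instance] central_normal

variable {G : Type*} [Group G] [Finite G] {z a : G}

/-- An isolated involution: the group is its centraliser times the odd core. -/
theorem sup_top_of_isolated (hz : orderOf z = 2)
    (h : ∀ g, Commute (g * z * g⁻¹) z → g * z * g⁻¹ = z) :
    centralizer ({z} : Set G) ⊔ Cfsg.oddCore G = ⊤ := by
  refine eq_top_iff.2 fun g _ => ?_
  obtain ⟨o, ho, c, hc, rfl⟩ := IsoApps.exists_mul (z := z) ⟨hz, fun g hg => h g hg.symm⟩ g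
  exact mul_mem (mem_sup_right ho) (mem_sup_left hc)

/-- An involution fixing only the identity of an odd normal subgroup inverts it. -/
theorem inverts_of_free {N : Subgroup G} [hN : N.Normal] {t : G} (ht : t * t = 1)
    (hfree : ∀ n ∈ N, Commute n t → n = 1) : ∀ n ∈ N, t * n * t⁻¹ = n⁻¹ := by
  intro n hn
  let φ : ↥N →* ↥N := MonoidHom.mk' (fun x => ⟨t * x * t⁻¹, hN.conj_mem x x.2 t⟩) fun x y =>
    Subtype.ext (by simp only [Subgroup.coe_mul]; group)
  have hinv : Function.Involutive φ := fun x => Subtype.ext (by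
    show t * (t * (x : G) * t⁻¹) * t⁻¹ = x
    rw [show t * (t * (x : G) * t⁻¹) * t⁻¹ = t * t * x * (t * t)⁻¹ by group, ht]
    group)
  have hfp : MonoidHom.FixedPointFree φ := fun x hx => Subtype.ext
    (hfree x x.2 (mul_inv_eq_iff_eq_mul.1 (congrArg Subtype.val hx)).symm)
  exact congrArg Subtype.val (congrFun (hfp.coe_eq_inv_of_involutive hinv) ⟨n, hn⟩)

theorem eq_one_of_odd_four {x : G} (hx : Odd (orderOf x)) (h4 : x * x * (x * x) = 1) : x = 1 := by
  have h : orderOf x ∣ 2 ^ 2 := orderOf_dvd_of_pow_eq_one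
    (by rw [show (2 : ℕ) ^ 2 = 2 + 2 by norm_num, pow_add, pow_two]; exact h4)
  exact orderOf_eq_one_iff.1 (((Nat.coprime_two_right.2 hx).pow_right 2).eq_one_of_dvd h)

variable {V : Type*} [AddCommGroup V] [Module (ZMod 2) V] {R : Rep V}

/-- The second generator isolated with the unitary group in index two above it: it is central. -/
theorem St.unitary_of_isolated (D : St z a R) (hC : ¬ D.Swap)
    (hA : ∀ g, Commute (g * a * g⁻¹) a → g * a * g⁻¹ = a)
    {K : Type*} [Field K] [Fintype K] (hK : Fintype.card K = 4)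
    (G₀ : Subgroup (Qt a)) (hi : G₀.index = 2) (ε : ↥G₀ ≃* Cfsg.PSU 6 K 2)
    (hc0 : centralizer (G₀ : Set (Qt a)) = ⊥) :
    (zpowers a).Normal ∧ ∃ (G₁ : Subgroup G) (ha : a ∈ G₁), G₁.index = 2 ∧
      ∃ hn : ((zpowers a).subgroupOf G₁).Normal,
        Nonempty ((↥G₁ ⧸ (zpowers a).subgroupOf G₁) ≃* Cfsg.PSU 6 K 2) := by
  classical
  obtain ⟨hs, hcard, -, -⟩ := Fi23Cent.psu_facts hK
  haveI := hs
  haveI : Nontrivial ↥G₀ := ε.toEquiv.nontrivial
  haveI hGs : IsSimpleGroup ↥G₀ := IsSimpleGroup.isSimpleGroup_of_surjective ε.symm.toMonoidHom ε.symm.surjective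
  haveI hG₀n : G₀.Normal := Subgroup.normal_of_index_eq_two hi
  set C := centralizer ({a} : Set G) with hCd
  set π : ↥C →* Qt a := QuotientGroup.mk' _ with hπd
  have hπ1 : ∀ x : C, π x = 1 → (x : G) = 1 ∨ (x : G) = a := fun x h =>
    D.pow_a (mem_subgroupOf.1 ((QuotientGroup.eq_one_iff x).1 h))
  have hao : orderOf a = 2 := orderOf_eq_prime (by rw [pow_two]; exact D.a_sq) D.a_ne
  have hiso : Cfsg.IsIsolatedInvolution a := ⟨hao, fun g hg => hA g hg.symm⟩
  set O := Cfsg.oddCore G with hOd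
  haveI hOn : O.Normal := Solvable.pPrimeCore_normal 2
  have hOodd : ∀ o ∈ O, Odd (orderOf o) := fun o ho => IsoApps.odd_of_mem_oddCore ho
  have hOz : ∀ o ∈ O, Commute o z → o = 1 := by
    intro o ho hoz
    have hoJ : o ∈ D.J := D.act_faithful o hoz fun j hj => by
      have h1 : o * j * o⁻¹ * j⁻¹ ∈ D.J := mul_mem (D.J_norm o hoz j hj) (inv_mem hj)
      have h2 : o * j * o⁻¹ * j⁻¹ ∈ O := by
        rw [show o * j * o⁻¹ * j⁻¹ = o * (j * o⁻¹ * j⁻¹) by group]
        exact mul_mem ho (hOn.conj_mem _ (inv_mem ho) j)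
      rw [mul_inv_eq_one.1 (eq_one_of_odd_four (hOodd _ h2) (D.pow_four h1))]
    exact eq_one_of_odd_four (hOodd o ho) (D.pow_four hoJ)
  have hOa : ∀ o ∈ O, Commute o a → o = 1 := by
    intro o ho hoa
    set T := (O.comap C.subtype).map π with hT
    haveI hTn : T.Normal := (hOn.comap _).map π (QuotientGroup.mk'_surjective _)
    have hTodd : Odd (Nat.card T) := (IsoApps.odd_oddCore (G := G)).of_dvd_nat
      ((Subgroup.card_map_dvd _ π).trans (Subgroup.card_comap_dvd_of_injective _ _ C.subtype_injective))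
    have ht : π ⟨o, mem_centralizer_singleton_iff.2 hoa.eq⟩ ∈ T := mem_map_of_mem π (show o ∈ O from ho)
    generalize htd : π ⟨o, mem_centralizer_singleton_iff.2 hoa.eq⟩ = t at ht
    have ht0 : t ∈ G₀ := by
      obtain ⟨m, hm⟩ := hTodd.of_dvd_nat (Subgroup.orderOf_dvd_natCard T ht)
      have e : (t ^ (m + 1)) * (t ^ (m + 1)) = t := by
        rw [← pow_add, show m + 1 + (m + 1) = 2 * m + 1 + 1 by omega, pow_succ, ← hm, pow_orderOf_eq_one, one_mul]
      rw [← e]
      exact Subgroup.mul_self_mem_of_index_two hi _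
    have hbot : T.subgroupOf G₀ = ⊥ := (hTn.subgroupOf G₀).eq_bot_or_eq_top.resolve_right fun h => by
      have h1 := Subgroup.card_dvd_of_le (Subgroup.subgroupOf_eq_top.1 h)
      rw [Nat.card_congr ε.toEquiv, hcard] at h1
      exact (hTodd.of_dvd_nat h1).not_two_dvd_nat (by norm_num)
    have ht1 : t = 1 := by
      have h1 : (⟨t, ht0⟩ : G₀) ∈ T.subgroupOf G₀ := mem_subgroupOf.2 ht
      rw [hbot, Subgroup.mem_bot] at h1
      exact congrArg (fun x : G₀ => (x : Qt a)) h1
    rcases hπ1 _ (htd.trans ht1) with r | r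
    · exact r
    · exfalso
      have h1 := hOodd o ho
      rw [show o = a from r, hao] at h1
      exact absurd h1 (by decide)
  have hzinv := inverts_of_free D.z_sq hOz
  have hainv := inverts_of_free D.a_sq hOa
  set K1 := (centralizer (O : Set G)).subgroupOf C with hK1
  haveI hK1n : K1.Normal := Subgroup.Normal.subgroupOf inferInstance C
  have hazC : a * z ∈ C := mem_centralizer_singleton_iff.2 (((Commute.refl a).mul_right D.a_comm_z).eq.symm)
  have hazK : (⟨a * z, hazC⟩ : C) ∈ K1 := mem_subgroupOf.2 (mem_centralizer_iff.2 fun o ho => by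
    have h1 : a * z * o * (a * z)⁻¹ = o := by
      rw [show a * z * o * (a * z)⁻¹ = a * (z * o * z⁻¹) * a⁻¹ by group, hzinv o ho, hainv _ (inv_mem ho), inv_inv]
    exact (mul_inv_eq_iff_eq_mul.1 h1).symm)
  haveI hTn : (K1.map π).Normal := hK1n.map π (QuotientGroup.mk'_surjective _)
  have hG₀K : G₀ ≤ K1.map π := by
    rcases ((hTn.subgroupOf G₀).eq_bot_or_eq_top) with h | h
    · exfalso
      have h1 : π ⟨a * z, hazC⟩ ∈ centralizer (G₀ : Set (Qt a)) := mem_centralizer_iff.2 fun g hg => by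
        set t := π ⟨a * z, hazC⟩
        have ht : t ∈ K1.map π := mem_map_of_mem π hazK
        have h2 : g * t * g⁻¹ * t⁻¹ ∈ G₀ := by
          rw [show g * t * g⁻¹ * t⁻¹ = g * (t * g⁻¹ * t⁻¹) by group]
          exact mul_mem hg (hG₀n.conj_mem _ (inv_mem hg) t)
        have h3 : (⟨_, h2⟩ : G₀) ∈ (K1.map π).subgroupOf G₀ :=
          mem_subgroupOf.2 (mul_mem (hTn.conj_mem t ht g) (inv_mem ht))
        rw [h, Subgroup.mem_bot] at h3
        exact mul_inv_eq_iff_eq_mul.1 (mul_inv_eq_one.1 (congrArg Subtype.val h3))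
      rw [hc0, Subgroup.mem_bot] at h1
      rcases hπ1 _ h1 with r | r
      · exact D.az_ne_one r
      · exact D.az_ne_a r
    · exact Subgroup.subgroupOf_eq_top.1 h
  obtain ⟨i, hi', j, hj', hB⟩ : ∃ i ∈ D.J, ∃ j ∈ D.J, ¬ Commute i j := by
    by_contra hno
    push Not at hno
    have hall : ∀ v : V, v = 0 := fun v => by
      obtain ⟨i, hi', rfl⟩ := D.pr_surj v
      refine R.nondeg _ fun w => ?_
      obtain ⟨j, hj', rfl⟩ := D.pr_surj w
      exact (D.comm_iff hi' hj').1 (hno i hi' j hj')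
    haveI : Subsingleton V := ⟨fun u v => (hall u).trans (hall v).symm⟩
    have h1 := R.card
    rw [Nat.card_eq_one_iff_unique.2 ⟨inferInstance, ⟨0⟩⟩] at h1
    norm_num at h1
  have hJC : ∀ x ∈ D.J, x ∈ C := fun x hx => mem_centralizer_singleton_iff.2 (D.J_comm_a x hx).eq
  obtain ⟨i', hi'', j', hj'', hij, hiG⟩ : ∃ i' , ∃ (h : i' ∈ D.J), ∃ j' ∈ D.J, ¬ Commute i' j' ∧
      π ⟨i', hJC i' h⟩ ∈ G₀ := by
    by_cases h1 : π ⟨i, hJC i hi'⟩ ∈ G₀
    · exact ⟨i, hi', j, hj', hB, h1⟩
    by_cases h2 : π ⟨j, hJC j hj'⟩ ∈ G₀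
    · exact ⟨j, hj', i, hi', fun h => hB h.symm, h2⟩
    refine ⟨i * j, mul_mem hi' hj', j, hj', fun h => hB ?_, ?_⟩
    · have := h.mul_left ((Commute.refl j).inv_left)
      rwa [mul_inv_cancel_right] at this
    · rw [show (⟨i * j, hJC _ (mul_mem hi' hj')⟩ : C) = ⟨i, hJC i hi'⟩ * ⟨j, hJC j hj'⟩ from rfl, map_mul]
      exact (Subgroup.mul_mem_iff_of_index_two hi).2 (iff_of_false h1 h2)
  have hzK : z ∈ centralizer (O : Set G) := by
    obtain ⟨k, hk, ek⟩ := hG₀K hiG
    have hkij : (k : G) * j' * (k : G)⁻¹ = i' * j' * i'⁻¹ := by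
      obtain ⟨w, hw, e'⟩ := (QuotientGroup.mk'_eq_mk' _).1 ek
      have e2 : (k : G) * (w : G) = i' := congrArg Subtype.val e'
      rcases D.pow_a (mem_subgroupOf.1 hw) with r | r <;> rw [r] at e2
      · rw [← e2, mul_one]
      · rw [← e2, show (k : G) * a * j' * ((k : G) * a)⁻¹ = k * (a * j' * a⁻¹) * (k : G)⁻¹ by group,
          (D.J_comm_a j' hj'').eq.symm, mul_inv_cancel_right]
    have h1 : (k : G) * j' * (k : G)⁻¹ * j'⁻¹ ∈ centralizer (O : Set G) := by
      rw [show (k : G) * j' * (k : G)⁻¹ * j'⁻¹ = k * (j' * (k : G)⁻¹ * j'⁻¹) by group]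
      have hk' : (k : G) ∈ centralizer (O : Set G) := mem_subgroupOf.1 hk
      exact mul_mem hk' ((inferInstance : (centralizer (O : Set G)).Normal).conj_mem _ (inv_mem hk') j')
    rwa [hkij, D.comm_z hi'' hj'' (fun h => hij ((D.comm_iff hi'' hj'').2 h)), mul_assoc j' z,
      ← (D.J_comm _ (inv_mem hj'')).eq, mul_inv_cancel_left] at h1
  have hall : ∀ g, Commute g a := fun g => by
    obtain ⟨o, ho, c, hc, rfl⟩ := IsoApps.exists_mul hiso g
    rw [hOz o ho (mem_centralizer_iff.1 hzK o ho), one_mul]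
    exact mem_centralizer_singleton_iff.1 hc
  have hnorm : (zpowers a).Normal := ⟨fun x hx g => by
    rcases D.pow_a hx with r | r <;> rw [r]
    · simp [one_mem]
    · rw [(hall g).eq, mul_inv_cancel_right]; exact mem_zpowers a⟩
  let ρ : G →* Qt a := π.comp ((MonoidHom.id G).codRestrict C fun g => mem_centralizer_singleton_iff.2 (hall g).eq)
  have hρs : Function.Surjective ρ := fun q => by
    obtain ⟨x, rfl⟩ := QuotientGroup.mk'_surjective _ q
    exact ⟨x, rfl⟩
  have hρ1 : ∀ g, ρ g = 1 ↔ g ∈ zpowers a := fun g => (QuotientGroup.eq_one_iff _).trans mem_subgroupOf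
  haveI := hnorm
  let f : ↥(G₀.comap ρ) →* ↥G₀ := (ρ.comp (G₀.comap ρ).subtype).codRestrict G₀ fun x => x.2
  have hfs : Function.Surjective f := fun q => by
    obtain ⟨g, hg⟩ := hρs q
    exact ⟨⟨g, show ρ g ∈ G₀ from hg ▸ q.2⟩, Subtype.ext hg⟩
  have hfk : f.ker = (zpowers a).subgroupOf (G₀.comap ρ) := by
    ext x
    rw [MonoidHom.mem_ker, mem_subgroupOf, ← hρ1]
    exact ⟨fun h => congrArg Subtype.val h, fun h => Subtype.ext h⟩
  have haG : a ∈ G₀.comap ρ := by
    show ρ a ∈ G₀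
    rw [(hρ1 a).2 (mem_zpowers a)]
    exact one_mem _
  exact ⟨hnorm, G₀.comap ρ, haG, by rw [Subgroup.index_comap_of_surjective _ hρs, hi],
    hnorm.subgroupOf _, ⟨((QuotientGroup.quotientMulEquivOfEq hfk).symm.trans
      (QuotientGroup.quotientKerEquivOfSurjective f hfs)).trans ε⟩⟩

end CfsgLib.Fi22Cent
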