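import Cfsg.Agent.Fi22Cent.Cent

/-!
The part of the radical centralised by an involution of the centraliser, and lifts of elements of order three
commuting with it.
-/

set_option autoImplicit false
set_option maxRecDepth 100000
set_option maxHeartbeats 1000000
set_option linter.style.haveILetI false
set_option linter.unusedSectionVars false

namespace CfsgLib.Fi22Cent

open CfsgLib CfsgLib.U62Cent Subgroup
open scoped commutatorElement

universe v

variable {G : Type*} [Group G] [Finite G] {V : Type v} [AddCommGroup V] [Module (ZMod 2) V]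
  {z a : G} {R : Rep V}

namespace St

variable (D : St z a R)

/-- Vectors with a lift commuting with an element. -/
def InS (x : G) (v : V) : Prop := ∃ j ∈ D.J, D.pr j = v ∧ Commute j x

/-- Vectors with a lift moved at most by the centre. -/
def InF (x : G) (v : V) : Prop := ∃ j ∈ D.J, D.pr j = v ∧ (x * j * x⁻¹ = j ∨ x * j * x⁻¹ = j * z)

include D

/-- An inner element commutes with the centre of the radical. -/
theorem H0_kk {h c : G} (hh : h ∈ D.H0) (hc : c = 1 ∨ c = z ∨ c = a ∨ c = a * z) : h * c * h⁻¹ = c := by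
  rw [(D.kk_H0 hc hh).eq, mul_inv_cancel_right]

theorem kk_mul {c d : G} (hc : c = 1 ∨ c = z ∨ c = a ∨ c = a * z) (hd : d = 1 ∨ d = z ∨ d = a ∨ d = a * z) :
    c * d = 1 ∨ c * d = z ∨ c * d = a ∨ c * d = a * z :=
  (D.pr_zero _ (mul_mem (D.kk_mem hc) (D.kk_mem hd))).1
    (by rw [D.pr_mul _ (D.kk_mem hc) _ (D.kk_mem hd), D.kk_pr hc, D.kk_pr hd, add_zero])

theorem inS_fix {x : G} (hx : Commute x z) {v : V} (h : D.InS x v) : D.act x v = v := by
  obtain ⟨j, hj, rfl, hjx⟩ := h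
  exact D.act_fix hx hj hjx.symm

theorem inS_add {x : G} {v w : V} (hv : D.InS x v) (hw : D.InS x w) : D.InS x (v + w) := by
  obtain ⟨i, hi, rfl, hix⟩ := hv
  obtain ⟨j, hj, rfl, hjx⟩ := hw
  exact ⟨i * j, mul_mem hi hj, D.pr_mul i hi j hj, hix.mul_left hjx⟩

theorem inF_add {x : G} (hx : Commute x z) {v w : V} (hv : D.InF x v) (hw : D.InF x w) : D.InF x (v + w) := by
  obtain ⟨i, hi, rfl, hix⟩ := hv
  obtain ⟨j, hj, rfl, hjx⟩ := hw
  refine ⟨i * j, mul_mem hi hj, D.pr_mul i hi j hj, ?_⟩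
  have e : x * (i * j) * x⁻¹ = x * i * x⁻¹ * (x * j * x⁻¹) := by group
  rw [e]
  have hjz := D.J_comm j hj
  rcases hix with e1 | e1 <;> rcases hjx with e2 | e2 <;> rw [e1, e2]
  · exact Or.inl rfl
  · exact Or.inr (mul_assoc i j z).symm
  · exact Or.inr (by rw [mul_assoc, ← hjz.eq, ← mul_assoc])
  · exact Or.inl (by rw [show i * z * (j * z) = i * (z * j) * z by group, ← hjz.eq,
      show i * (j * z) * z = i * j * (z * z) by group, D.z_sq, mul_one])

/-- The part centralised has index two in the part moved at most by the centre. -/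
theorem inS_of_two {x : G} {v w : V} (hv : D.InF x v) (hw : D.InF x w) (nv : ¬ D.InS x v) (nw : ¬ D.InS x w) :
    D.InS x (v + w) := by
  obtain ⟨i, hi, rfl, hix⟩ := hv
  obtain ⟨j, hj, rfl, hjx⟩ := hw
  have e1 := hix.resolve_left fun e => nv ⟨i, hi, rfl, (mul_inv_eq_iff_eq_mul.1 e).symm⟩
  have e2 := hjx.resolve_left fun e => nw ⟨j, hj, rfl, (mul_inv_eq_iff_eq_mul.1 e).symm⟩
  refine ⟨i * j, mul_mem hi hj, D.pr_mul i hi j hj, (mul_inv_eq_iff_eq_mul.1 ?_).symm⟩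
  rw [show x * (i * j) * x⁻¹ = x * i * x⁻¹ * (x * j * x⁻¹) by group, e1, e2,
    show i * z * (j * z) = i * (z * j) * z by group, ← (D.J_comm j hj).eq,
    show i * (j * z) * z = i * j * (z * z) by group, D.z_sq, mul_one]

/-- The commutator with an involution is inverted. -/
theorem image_elem {x k : G} (hx : Commute x z) (hx2 : x * x = 1) (hk : k ∈ D.J) :
    x * k * x⁻¹ * k⁻¹ ∈ D.J ∧ D.pr (x * k * x⁻¹ * k⁻¹) = D.act x (D.pr k) + D.pr k ∧
      x * (x * k * x⁻¹ * k⁻¹) * x⁻¹ = (x * k * x⁻¹ * k⁻¹)⁻¹ := by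
  have hc := D.J_norm x hx k hk
  refine ⟨mul_mem hc (inv_mem hk), by rw [D.pr_mul _ hc _ (inv_mem hk), D.pr_inv hk, D.act_pr hx hk], ?_⟩
  rw [show x * (x * k * x⁻¹ * k⁻¹) * x⁻¹ = x * x * k * (x * x)⁻¹ * (x * k⁻¹ * x⁻¹) by group, hx2,
    show (x * k * x⁻¹ * k⁻¹)⁻¹ = k * (x * k⁻¹ * x⁻¹) by group]
  group

/-- A singular image has a lift commuting with the involution. -/
theorem inS_image {x : G} (hx : Commute x z) (hx2 : x * x = 1) (w : V) (hq : R.q (D.act x w + w) = 0) :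
    D.InS x (D.act x w + w) := by
  obtain ⟨k, hk, rfl⟩ := D.pr_surj w
  obtain ⟨hc, hp, hi⟩ := D.image_elem hx hx2 hk
  set c := x * k * x⁻¹ * k⁻¹
  refine ⟨c, hc, hp, (mul_inv_eq_iff_eq_mul.1 ?_).symm⟩
  rw [hi]
  exact inv_eq_of_mul_eq_one_right ((D.invol_iff hc).2 (by rw [hp, hq]))

/-- An image is moved at most by the centre. -/
theorem inF_image {x : G} (hx : Commute x z) (hx2 : x * x = 1) (w : V) : D.InF x (D.act x w + w) := by
  obtain ⟨k, hk, rfl⟩ := D.pr_surj w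
  obtain ⟨hc, hp, hi⟩ := D.image_elem hx hx2 hk
  set c := x * k * x⁻¹ * k⁻¹
  refine ⟨c, hc, hp, ?_⟩
  rw [hi]
  rcases D.sq_cases hc with e | e
  · exact Or.inl (inv_eq_of_mul_eq_one_right e)
  · exact Or.inr (inv_eq_of_mul_eq_one_right (by rw [← mul_assoc, e, D.z_sq]))

/-- A nonsingular image has no lift commuting with the involution. -/
theorem not_inS_image {x : G} (hx : Commute x z) (hxa : Commute x a) (hx2 : x * x = 1) {w : V}
    (hq : R.q (D.act x w + w) ≠ 0) : ¬ D.InS x (D.act x w + w) := by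
  rintro ⟨j, hj, hjp, hjx⟩
  obtain ⟨k, hk, rfl⟩ := D.pr_surj w
  obtain ⟨hc, hp, hi⟩ := D.image_elem hx hx2 hk
  set c := x * k * x⁻¹ * k⁻¹
  obtain ⟨d, hd, e⟩ := D.eq_of_pr hj hc (hjp.trans hp.symm)
  have hdx : Commute x d := by
    rcases hd with rfl | rfl | rfl | rfl
    exacts [Commute.one_right x, hx, hxa, hxa.mul_right hx]
  have hcx : x * c * x⁻¹ = c := by rw [e, (hjx.symm.mul_right hdx).eq, mul_inv_cancel_right]
  rw [hi] at hcx
  have := (D.invol_iff hc).1 (by nth_rw 1 [← hcx]; exact inv_mul_cancel c)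
  exact hq (by rw [← hp]; exact this)

/-- A fixed vector of the unitary group is moved at most by the centre by the inner part. -/
theorem inF_fixed {x : G} (hx : x ∈ D.H0) {v : V} (h : ∀ u, R.r u v = v) : D.InF x v := by
  classical
  obtain ⟨j, hj, rfl⟩ := D.pr_surj v
  refine ⟨j, hj, rfl, ?_⟩
  have hdef : ∀ g ∈ D.H0, ∃ c, (c = 1 ∨ c = z ∨ c = a ∨ c = a * z) ∧ g * j * g⁻¹ = j * c := fun g hg =>
    D.eq_of_pr hj (D.J_norm g (D.H0_comm g hg) j hj) (by rw [D.pr_act g hg j hj, h])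
  let K : Subgroup G :=
    { carrier := {g | g ∈ D.H0 ∧ (g * j * g⁻¹ = j ∨ g * j * g⁻¹ = j * z)}
      one_mem' := ⟨one_mem _, Or.inl (by group)⟩
      mul_mem' := by
        rintro g k ⟨hg, eg⟩ ⟨hk, ek⟩
        refine ⟨mul_mem hg hk, ?_⟩
        have hgz := D.H0_comm g hg
        rw [show g * k * j * (g * k)⁻¹ = g * (k * j * k⁻¹) * g⁻¹ by group]
        rcases ek with e | e <;> rw [e]
        · exact eg
        · rw [show g * (j * z) * g⁻¹ = g * j * g⁻¹ * (g * z * g⁻¹) by group, D.conj_z hgz]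
          rcases eg with e' | e' <;> rw [e']
          · exact Or.inr rfl
          · exact Or.inl (by rw [mul_assoc, D.z_sq, mul_one])
      inv_mem' := by
        rintro g ⟨hg, eg⟩
        refine ⟨inv_mem hg, ?_⟩
        have hgz := D.H0_comm g hg
        rcases eg with e | e
        · exact Or.inl (by rw [inv_inv]; nth_rw 1 [← e]; group)
        · refine Or.inr ?_
          calc g⁻¹ * j * g⁻¹⁻¹ = g⁻¹ * (j * z) * g * (g⁻¹ * z * g) := by
                rw [show g⁻¹ * (j * z) * g * (g⁻¹ * z * g) = g⁻¹ * (j * (z * z)) * g by group, D.z_sq, mul_one,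
                  inv_inv]
            _ = j * z := by
                nth_rw 1 [← e]
                rw [show g⁻¹ * z * g = z by rw [mul_assoc, ← hgz.eq, inv_mul_cancel_left]]
                group }
  have hK : ∀ g ∈ D.H0, ∀ k ∈ D.H0, g * k * g⁻¹ * k⁻¹ ∈ K := by
    intro g hg k hk
    obtain ⟨c, hc, ec⟩ := hdef g hg
    obtain ⟨d, hd, ed⟩ := hdef k hk
    refine ⟨mul_mem (mul_mem (mul_mem hg hk) (inv_mem hg)) (inv_mem hk), Or.inl ?_⟩
    have hcomm : Commute c d := (D.centre_iff (D.kk_mem hc)).2 hc d (D.kk_mem hd)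
    have e1 : g⁻¹ * j * g = j * c := by
      calc g⁻¹ * j * g = g⁻¹ * (j * c) * g * (g⁻¹ * c * g) := by
            rw [show g⁻¹ * (j * c) * g * (g⁻¹ * c * g) = g⁻¹ * (j * (c * c)) * g by group, D.kk_sq hc, mul_one]
        _ = j * c := by
            nth_rw 1 [← ec]
            rw [show g⁻¹ * c * g = c by rw [mul_assoc, ← (D.kk_H0 hc hg).eq, inv_mul_cancel_left]]
            group
    have e2 : k⁻¹ * j * k = j * d := by
      calc k⁻¹ * j * k = k⁻¹ * (j * d) * k * (k⁻¹ * d * k) := by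
            rw [show k⁻¹ * (j * d) * k * (k⁻¹ * d * k) = k⁻¹ * (j * (d * d)) * k by group, D.kk_sq hd, mul_one]
        _ = j * d := by
            nth_rw 1 [← ed]
            rw [show k⁻¹ * d * k = d by rw [mul_assoc, ← (D.kk_H0 hd hk).eq, inv_mul_cancel_left]]
            group
    calc g * k * g⁻¹ * k⁻¹ * j * (g * k * g⁻¹ * k⁻¹)⁻¹ = g * (k * (g⁻¹ * (k⁻¹ * j * k) * g) * k⁻¹) * g⁻¹ := by group
      _ = g * (k * (g⁻¹ * j * g * (g⁻¹ * d * g)) * k⁻¹) * g⁻¹ := by rw [e2]; group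
      _ = g * (k * (j * c * d) * k⁻¹) * g⁻¹ := by
          rw [e1, show g⁻¹ * d * g = d by rw [mul_assoc, ← (D.kk_H0 hd hg).eq, inv_mul_cancel_left]]
      _ = g * (k * j * k⁻¹ * (k * (c * d) * k⁻¹)) * g⁻¹ := by group
      _ = g * (j * d * (c * d)) * g⁻¹ := by rw [ed, D.H0_kk hk (D.kk_mul hc hd)]
      _ = g * (j * c) * g⁻¹ := by
          rw [hcomm.eq, show j * d * (d * c) = j * (d * d) * c by group, D.kk_sq hd, mul_one]
      _ = j * c * c := by rw [show g * (j * c) * g⁻¹ = g * j * g⁻¹ * (g * c * g⁻¹) by group, ec, D.H0_kk hg hc]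
      _ = j := by rw [mul_assoc, D.kk_sq hc, mul_one]
  have hall : ∀ u : U4, ∃ g ∈ K, D.ph g = u := by
    intro u
    let P : Subgroup U4 :=
      { carrier := {u | ∃ g ∈ K, D.ph g = u}
        one_mem' := ⟨1, one_mem K, (D.ph_J 1 (one_mem _)).2 (one_mem _)⟩
        mul_mem' := by
          rintro _ _ ⟨g, hg, rfl⟩ ⟨k, hk, rfl⟩
          exact ⟨g * k, mul_mem hg hk, D.ph_mul g hg.1 k hk.1⟩
        inv_mem' := by
          rintro _ ⟨g, hg, rfl⟩
          refine ⟨g⁻¹, inv_mem hg, eq_inv_of_mul_eq_one_left ?_⟩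
          rw [← D.ph_mul _ (inv_mem hg.1) _ hg.1, inv_mul_cancel]
          exact (D.ph_J 1 (one_mem _)).2 (one_mem _) }
    haveI := simple_SU4
    have hperf : commutator U4 = ⊤ := by
      rcases (show (commutator U4).Normal from inferInstance).eq_bot_or_eq_top with e | e
      · exfalso
        have hc := (commutator_eq_bot_iff_center_eq_top (G := U4)).1 e
        rw [show Subgroup.center U4 = ⊥ from center_SU4] at hc
        exact bot_ne_top hc
      · exact e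
    have : commutator U4 ≤ P := by
      rw [commutator_def, Subgroup.commutator_le]
      intro p _ q _
      obtain ⟨g, hg, rfl⟩ := D.ph_surj p
      obtain ⟨k, hk, rfl⟩ := D.ph_surj q
      have ei : ∀ g ∈ D.H0, D.ph g⁻¹ = (D.ph g)⁻¹ := fun g hg => eq_inv_of_mul_eq_one_left (by
        rw [← D.ph_mul _ (inv_mem hg) _ hg, inv_mul_cancel]; exact (D.ph_J 1 (one_mem _)).2 (one_mem _))
      refine ⟨_, hK g hg k hk, ?_⟩
      rw [commutatorElement_def, D.ph_mul _ (mul_mem (mul_mem hg hk) (inv_mem hg)) _ (inv_mem hk),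
        D.ph_mul _ (mul_mem hg hk) _ (inv_mem hg), D.ph_mul _ hg _ hk, ei g hg, ei k hk]
    exact this (hperf ▸ mem_top u)
  obtain ⟨g, hg, eg⟩ := hall (D.ph x)
  have hi : g⁻¹ * x ∈ D.J := by
    refine (D.ph_J _ (mul_mem (inv_mem hg.1) hx)).1 ?_
    have := D.ph_mul g hg.1 _ (mul_mem (inv_mem hg.1) hx)
    rw [mul_inv_cancel_left, eg] at this
    exact mul_eq_left.1 this.symm
  have hiK : g⁻¹ * x ∈ K := by
    refine ⟨D.J_le hi, ?_⟩
    by_cases hB : R.B (D.pr (g⁻¹ * x)) (D.pr j) = 0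
    · exact Or.inl (by rw [((D.comm_iff hi hj).2 hB).eq, mul_inv_cancel_right])
    · exact Or.inr (D.comm_z hi hj hB)
  have := (mul_mem hg hiK).2
  rwa [mul_inv_cancel_left] at this

/-- Lifts of an element commuting with the image make the moved part small. -/
theorem inF_shift {x h : G} (hx : x ∈ D.H0) (hh : h ∈ D.H0) (hxh : D.ph h * D.ph x = D.ph x * D.ph h) {v : V}
    (hv : D.act x v = v) : D.InF x (R.r (D.ph h) v + v) := by
  have hhz := D.H0_comm h hh
  have hxz := D.H0_comm x hx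
  obtain ⟨j, hj, rfl⟩ := D.pr_surj v
  have hj' := D.J_norm h hhz j hj
  rw [D.act_pr hxz hj] at hv
  obtain ⟨c, hc, ec⟩ := D.eq_of_pr hj (D.J_norm x hxz j hj) hv.symm
  set i := x⁻¹ * h * x * h⁻¹ with hidef
  have hiH : i ∈ D.H0 := mul_mem (mul_mem (mul_mem (inv_mem hx) hh) hx) (inv_mem hh)
  have hi : i ∈ D.J := by
    refine (D.ph_J i hiH).1 ?_
    have e1 := D.ph_mul x hx i hiH
    have e2 : x * i = h * x * h⁻¹ := by rw [hidef]; group
    have e3 := D.ph_mul (h * x) (mul_mem hh hx) h⁻¹ (inv_mem hh)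
    have e4 : D.ph h⁻¹ = (D.ph h)⁻¹ := eq_inv_of_mul_eq_one_left (by
      rw [← D.ph_mul _ (inv_mem hh) _ hh, inv_mul_cancel]; exact (D.ph_J 1 (one_mem _)).2 (one_mem _))
    rw [e2, e3, D.ph_mul h hh x hx, hxh, e4, mul_inv_cancel_right] at e1
    exact mul_eq_left.1 e1.symm
  refine ⟨h * j * h⁻¹ * j, mul_mem hj' hj, by rw [D.pr_mul _ hj' _ hj, D.pr_act h hh j hj], ?_⟩
  have e5 : x * i * (h * j * h⁻¹) * (x * i)⁻¹ = h * j * h⁻¹ * c := by
    rw [hidef, show x * (x⁻¹ * h * x * h⁻¹) * (h * j * h⁻¹) * (x * (x⁻¹ * h * x * h⁻¹))⁻¹ =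
      h * (x * j * x⁻¹) * h⁻¹ by group, ec, show h * (j * c) * h⁻¹ = h * j * h⁻¹ * (h * c * h⁻¹) by group,
      D.H0_kk hh hc]
  have hjj : Commute c j := (D.centre_iff (D.kk_mem hc)).2 hc j hj
  by_cases hB : R.B (D.pr i) (D.pr (h * j * h⁻¹)) = 0
  · left
    rw [show x * i * (h * j * h⁻¹) * (x * i)⁻¹ = x * (i * (h * j * h⁻¹) * i⁻¹) * x⁻¹ by group,
      ((D.comm_iff hi hj').2 hB).eq, mul_inv_cancel_right] at e5
    rw [show x * (h * j * h⁻¹ * j) * x⁻¹ = x * (h * j * h⁻¹) * x⁻¹ * (x * j * x⁻¹) by group, e5, ec,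
      show h * j * h⁻¹ * c * (j * c) = h * j * h⁻¹ * (c * j) * c by group, hjj.eq,
      show h * j * h⁻¹ * (j * c) * c = h * j * h⁻¹ * j * (c * c) by group, D.kk_sq hc, mul_one]
  · right
    rw [show x * i * (h * j * h⁻¹) * (x * i)⁻¹ = x * (i * (h * j * h⁻¹) * i⁻¹) * x⁻¹ by group,
      D.comm_z hi hj' hB] at e5
    rw [show x * (h * j * h⁻¹ * j) * x⁻¹ = x * (h * j * h⁻¹ * z) * x⁻¹ * (x * z * x⁻¹)⁻¹ * (x * j * x⁻¹) by group,
      e5, ec, D.conj_z hxz, D.z_inv]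
    have hzj : Commute z j := (D.J_comm j hj).symm
    have hzc : Commute z c := (D.J_comm c (D.kk_mem hc)).symm
    calc h * j * h⁻¹ * c * z * (j * c) = h * j * h⁻¹ * c * (z * j) * c := by group
      _ = h * j * h⁻¹ * (c * j) * (z * c) := by rw [hzj.eq]; group
      _ = h * j * h⁻¹ * j * (c * c) * z := by rw [hjj.eq, hzc.eq]; group
      _ = h * j * h⁻¹ * j * z := by rw [D.kk_sq hc, mul_one]

/-- If an element of order three commuting with the image fixes nothing else, the fixed space is moved at most by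
the centre. -/
theorem inF_all {x h : G} (hx : x ∈ D.H0) (hx2 : x * x = 1) (hh : h ∈ D.H0)
    (hxh : D.ph h * D.ph x = D.ph x * D.ph h) (h3 : D.ph h ^ 3 = 1)
    (hd : ∀ v, R.r (D.ph x) v = v → R.r (D.ph h) v = v →
      ∃ v0 w, (∀ u, R.r u v0 = v0) ∧ v = v0 + (R.r (D.ph x) w + w))
    {v : V} (hv : D.act x v = v) : D.InF x v := by
  have hxz := D.H0_comm x hx
  have hv' : R.r (D.ph x) v = v := by rwa [← D.act_H0 hx]
  set d := D.ph h with hdd
  have hcomm : ∀ w, R.r (D.ph x) (R.r d w) = R.r d (R.r (D.ph x) w) := fun w => by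
    rw [← R.r_mul, ← hxh, R.r_mul]
  have h3' : R.r d (R.r d (R.r d v)) = v := by
    rw [← R.r_mul, ← R.r_mul, ← pow_two, ← pow_succ, h3, R.r_one]
  set t := v + R.r d v + R.r d (R.r d v) with ht
  have e1 : v = t + (R.r d (R.r d v) + R.r d v) := by
    rw [ht, add_assoc v, add_assoc v, add_comm (R.r d (R.r d v)), two_self, add_zero]
  obtain ⟨v0, w, hv0, e2⟩ := hd t (by rw [ht, map_add, map_add, hcomm, hcomm, hcomm, hv'])
    (by rw [ht, map_add, map_add, h3']; abel)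
  have hF1 : D.InF x t := by
    rw [e2]
    refine D.inF_add hxz (D.inF_fixed hx hv0) ?_
    have := D.inF_image hxz hx2 w
    rwa [D.act_H0 hx] at this
  have hF2 : D.InF x (R.r d (R.r d v) + R.r d v) :=
    D.inF_shift hx hh hxh (v := R.r d v) (by rw [D.act_H0 hx, hcomm, hv'])
  rw [e1]
  exact D.inF_add hxz hF1 hF2

/-- A lift commutes with the involution once the commutator with some lift lies in the image. -/
theorem lift_cent_of {x : G} (hx : x ∈ D.H0) (hx2 : x * x = 1) {d : U4} (hd : d * D.ph x = D.ph x * d) (h3 : d ^ 3 = 1)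
    (hyp : ∀ h ∈ D.H0, D.ph h = d → x⁻¹ * h * x * h⁻¹ ∈ D.J →
      ∃ w, D.pr (x⁻¹ * h * x * h⁻¹) = R.r (D.ph x) w + w) :
    ∃ h ∈ D.H0, D.ph h = d ∧ Commute h x := by
  obtain ⟨h, hh, rfl⟩ := D.ph_surj d
  have hhz := D.H0_comm h hh
  have hxz := D.H0_comm x hx
  set e := D.ph x with hedef
  set i := x⁻¹ * h * x * h⁻¹ with hidef
  have hiH : i ∈ D.H0 := mul_mem (mul_mem (mul_mem (inv_mem hx) hh) hx) (inv_mem hh)
  have ei : ∀ g ∈ D.H0, D.ph g⁻¹ = (D.ph g)⁻¹ := fun g hg => eq_inv_of_mul_eq_one_left (by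
    rw [← D.ph_mul _ (inv_mem hg) _ hg, inv_mul_cancel]; exact (D.ph_J 1 (one_mem _)).2 (one_mem _))
  have hi : i ∈ D.J := by
    refine (D.ph_J i hiH).1 ?_
    rw [hidef, D.ph_mul _ (mul_mem (mul_mem (inv_mem hx) hh) hx) _ (inv_mem hh),
      D.ph_mul _ (mul_mem (inv_mem hx) hh) _ hx, D.ph_mul _ (inv_mem hx) _ hh, ei x hx, ei h hh, ← hedef,
      mul_assoc e⁻¹, hd]
    group
  have hxi : x * i = h * x * h⁻¹ := by rw [hidef]; group
  obtain ⟨w, hW⟩ := hyp h hh rfl hi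
  obtain ⟨k, hk, ek⟩ := D.pr_surj w
  have hc : x * k * x⁻¹ * k⁻¹ ∈ D.J ∧ D.pr (x * k * x⁻¹ * k⁻¹) = D.pr i := by
    obtain ⟨m, p, -⟩ := D.image_elem hxz hx2 hk
    exact ⟨m, by rw [p, ek, D.act_H0 hx, ← hedef, hW]⟩
  obtain ⟨c, hcc, ec⟩ := D.eq_of_pr hc.1 hi hc.2
  have hkH := D.J_le hk
  set h' := k⁻¹ * h with hh'
  have hh'0 : h' ∈ D.H0 := mul_mem (inv_mem hkH) hh
  have e4 : h' * x * h'⁻¹ = x * c := by
    calc h' * x * h'⁻¹ = k⁻¹ * (x * i) * k := by rw [hxi, hh']; group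
      _ = k⁻¹ * ((x * x) * k * x⁻¹ * k⁻¹ * c) * k := by rw [ec]; group
      _ = x⁻¹ * (k⁻¹ * c * k) := by rw [hx2]; group
      _ = x * c := by
          rw [inv_eq_of_mul_eq_one_right hx2, mul_assoc k⁻¹, ← (D.kk_H0 hcc hkH).eq, inv_mul_cancel_left]
  refine ⟨h' ^ 4, pow_mem hh'0 4, ?_, ?_⟩
  · have e5 : D.ph h' = D.ph h := by
      rw [hh', D.ph_mul _ (inv_mem hkH) _ hh, ei k hkH, (D.ph_J k hkH).2 hk, inv_one, one_mul]
    have e6 : ∀ n : ℕ, D.ph (h' ^ n) = D.ph h' ^ n := fun n => by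
      induction n with
      | zero => rw [pow_zero, pow_zero]; exact (D.ph_J 1 (one_mem _)).2 (one_mem _)
      | succ n ih => rw [pow_succ, pow_succ, D.ph_mul _ (pow_mem hh'0 n) _ hh'0, ih]
    rw [e6, e5, pow_succ, h3, one_mul]
  · have e7 : Commute (h' ^ 2) x := by
      refine mul_inv_eq_iff_eq_mul.1 ?_
      rw [pow_two, show h' * h' * x * (h' * h')⁻¹ = h' * (h' * x * h'⁻¹) * h'⁻¹ by group, e4,
        show h' * (x * c) * h'⁻¹ = h' * x * h'⁻¹ * (h' * c * h'⁻¹) by group, e4, D.H0_kk hh'0 hcc,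
        mul_assoc, D.kk_sq hcc, mul_one]
    rw [show h' ^ 4 = (h' ^ 2) ^ 2 by rw [← pow_mul]]
    exact e7.pow_left 2

/-- An element of order three acting trivially on fixed space modulo image has a lift commuting with the
involution. -/
theorem lift_cent {x : G} (hx : x ∈ D.H0) (hx2 : x * x = 1) {d : U4} (hd : d * D.ph x = D.ph x * d) (h3 : d ^ 3 = 1)
    (htriv : ∀ v, R.r (D.ph x) v = v → ∃ w, R.r d v + v = R.r (D.ph x) w + w) :
    ∃ h ∈ D.H0, D.ph h = d ∧ Commute h x := by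
  refine D.lift_cent_of hx hx2 hd h3 fun h hh ehd hi => ?_
  subst ehd
  have hhz := D.H0_comm h hh
  have hxz := D.H0_comm x hx
  set e := D.ph x with hedef
  set i := x⁻¹ * h * x * h⁻¹ with hidef
  have hxi : x * i = h * x * h⁻¹ := by rw [hidef]; group
  have hfix : R.r e (D.pr i) = D.pr i := by
    have h1 : x * i * (x * i) = 1 := by rw [hxi, conj_mul, hx2]; group
    have h2 : x * i * x⁻¹ = i⁻¹ := by
      rw [inv_eq_of_mul_eq_one_right hx2]
      exact eq_inv_of_mul_eq_one_left (by rw [← h1]; group)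
    rw [hedef, ← D.pr_act x hx i hi, h2, D.pr_inv hi]
  set di := R.r (D.ph h) (D.pr i)
  -- the sum over the powers
  have hsum : D.pr i + di + R.r (D.ph h) di ∈ LinearMap.range ((R.r e).toLinearMap + LinearMap.id) := by
    set i2 := i * (h * i * h⁻¹) * (h * (h * i * h⁻¹) * h⁻¹) with hi2
    have m1 := D.J_norm h hhz i hi
    have m2 := D.J_norm h hhz _ m1
    have hxi2 : x * i2 = h ^ 3 * x * (h ^ 3)⁻¹ := by
      calc x * i2 = (x * i) * (h * i * h⁻¹) * (h * (h * i * h⁻¹) * h⁻¹) := by rw [hi2]; group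
        _ = (h * x * h⁻¹) * (h * i * h⁻¹) * (h * (h * i * h⁻¹) * h⁻¹) := by rw [hxi]
        _ = h * ((x * i) * (h * i * h⁻¹)) * h⁻¹ := by group
        _ = h * ((h * x * h⁻¹) * (h * i * h⁻¹)) * h⁻¹ := by rw [hxi]
        _ = h * (h * (x * i) * h⁻¹) * h⁻¹ := by group
        _ = h * (h * (h * x * h⁻¹) * h⁻¹) * h⁻¹ := by rw [hxi]
        _ = h ^ 3 * x * (h ^ 3)⁻¹ := by simp only [pow_succ, pow_zero, one_mul, mul_inv_rev]; group
    have h3J : h ^ 3 ∈ D.J := by
      refine (D.ph_J _ (pow_mem hh 3)).1 ?_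
      rw [pow_succ, pow_two, D.ph_mul _ (mul_mem hh hh) _ hh, D.ph_mul _ hh _ hh, ← pow_two, ← pow_succ, h3]
    refine ⟨D.pr (h ^ 3), ?_⟩
    obtain ⟨hc, hp, -⟩ := D.image_elem hxz hx2 h3J
    show R.r e (D.pr (h ^ 3)) + D.pr (h ^ 3) = _
    rw [hedef, ← D.act_H0 hx, ← hp]
    have e1 : x * (h ^ 3) * x⁻¹ * (h ^ 3)⁻¹ = i2 := by
      rw [inv_eq_of_mul_eq_one_right hx2, show x * h ^ 3 * x * (h ^ 3)⁻¹ = x * (h ^ 3 * x * (h ^ 3)⁻¹) by group,
        ← hxi2, ← mul_assoc, hx2, one_mul]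
    rw [e1, hi2, D.pr_mul _ (mul_mem hi m1) _ m2, D.pr_mul _ hi _ m1, D.pr_act h hh _ m1, D.pr_act h hh i hi]
  have hdd : R.r e di = di := by
    show R.r e (R.r (D.ph h) (D.pr i)) = R.r (D.ph h) (D.pr i)
    rw [← R.r_mul, ← hd, R.r_mul, hfix]
  obtain ⟨w1, e1⟩ := htriv (D.pr i) hfix
  obtain ⟨w2, e2⟩ := htriv di hdd
  obtain ⟨w3, e3⟩ := hsum
  have e3' : D.pr i + di + R.r (D.ph h) di = R.r e w3 + w3 := e3.symm
  have hW : D.pr i = R.r e (w3 + w2) + (w3 + w2) := by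
    rw [map_add]
    calc D.pr i = (D.pr i + di + R.r (D.ph h) di) + (R.r (D.ph h) di + di) := by
          rw [add_assoc (D.pr i) di, add_assoc (D.pr i), add_comm (R.r (D.ph h) di) di,
            two_self, add_zero]
      _ = (R.r e w3 + w3) + (R.r e w2 + w2) := by rw [e3', e2]
      _ = _ := by abel
  exact ⟨w3 + w2, hW⟩

end St

end CfsgLib.Fi22Cent
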