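import Cfsg.Agent.Fi22Cent.TriS

/-!
A good pair always meets.
-/

set_option autoImplicit false
set_option maxRecDepth 100000
set_option maxHeartbeats 1000000
set_option linter.style.haveILetI false
set_option linter.unusedSectionVars false

namespace CfsgLib.Fi22Cent

open CfsgLib CfsgLib.U62Cent Subgroup

universe v

variable {G : Type*} [Group G] [Finite G] {V : Type v} [AddCommGroup V] [Module (ZMod 2) V]
  {z a : G} {R : Rep V}

namespace St

variable (D : St z a R)

include D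

/-- The main lemma. -/
theorem meet_good {g : G} (hP : D.Good g) : D.Meet g := by
  rcases Rep.shapes (R := R) with hN | hT
  · exact D.meet_nat hN hP
  have norm : ∀ c e : U4, c * D.ph (g * z * g⁻¹) * c⁻¹ = e →
      ∃ h ∈ D.H0, D.ph (h * g * z * (h * g)⁻¹) = e := fun c e hc => by
    obtain ⟨h, hh, rfl⟩ := D.ph_surj c
    refine ⟨h, hh, ?_⟩
    rw [show h * g * z * (h * g)⁻¹ = h * (g * z * g⁻¹) * h⁻¹ by group,
      D.ph_mul _ (mul_mem hh hP.x_mem) _ (inv_mem hh), D.ph_mul _ hh _ hP.x_mem, D.ph_inv hh, hc]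
  rcases invol_cases hP.ph_sq hP.ph_ne with ⟨p, hp, e⟩ | ⟨c, hc⟩
  · obtain ⟨c, hc⟩ := to_p0 hp
    obtain ⟨h, hh, e'⟩ := norm c (tvp p0) (by rw [e, tvp_conj hp, hc])
    exact D.meet_move hh (D.meet_tri_t (St.Good.move D hP hh) hT e')
  · obtain ⟨h, hh, e'⟩ := norm c s0 hc
    exact D.meet_move hh (D.meet_tri_s (St.Good.move D hP hh) hT e')

/-- A conjugate of the centre in the radical. -/
theorem meet_radical (hI : D.Iso) {g : G} (hx : g * z * g⁻¹ ∈ D.J) (hyz : Commute (g * a * g⁻¹) z) : D.Meet g := by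
  rcases Rep.shapes (R := R) with hN | hT
  · obtain ⟨D', eJ, -⟩ := D.exists_natural hN
    exact (D'.meet_inJ mv_nat hI (eJ ▸ hx) hyz :)
  · exact D.meet_inJ (mv_tri hT) hI hx hyz

/-- Both positions at once. -/
theorem meet_inner (hI : D.Iso) {g : G} (hx : g * z * g⁻¹ ∈ D.H0) (hyz : Commute (g * a * g⁻¹) z) : D.Meet g := by
  by_cases hJ : g * z * g⁻¹ ∈ D.J
  · exact D.meet_radical hI hJ hyz
  · exact D.meet_good ⟨hI, hx, hJ, hyz⟩

end St

end CfsgLib.Fi22Cent
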