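import Cfsg.Agent.U62Cent.SigmaPure

/-!
A map of the natural module normalising the unitary group is linear or conjugate-linear.
-/

set_option autoImplicit false
set_option maxRecDepth 100000
set_option maxHeartbeats 1000000
set_option linter.style.haveILetI false
set_option linter.unusedSectionVars false

open scoped Matrix

namespace CfsgLib.Fi22Cent

open CfsgLib CfsgLib.U62Cent
open CfsgLib.FiLarge (F4 om)
open CfsgLib.Unitary (suMat suMat_mul suMat_one su_ext)

theorem f4_scal : ∀ c : F4, c = 0 ∨ c = 1 ∨ c = om ∨ c = om * om := by decide +kernel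

theorem f4_mu : ∀ c : F4, c ≠ 0 → c ≠ 1 → c * c = 1 + c := by decide +kernel

theorem f4_om : om ≠ 0 ∧ om ≠ 1 ∧ om * om = 1 + om := by decide +kernel

/-- Every vector is the sum of two isotropic points. -/
theorem pt_sum : ∀ v : V4, ∃ p : V4, IsPt4 p ∧ IsPt4 (v + p) := by decide +kernel

theorem smul_eq_left {p : V4} (hp : p ≠ 0) {c : F4} : c • p = p ↔ c = 1 := by
  constructor
  · intro h
    rwa [← sub_eq_zero, show c • p - p = (c - 1) • p by rw [sub_smul, one_smul], smul_eq_zero, sub_eq_zero,
      or_iff_left hp] at h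
  · rintro rfl; exact one_smul _ _

variable {f : V4 ≃ₗ[ZMod 2] V4} (hf : ∀ u : U4, ∃ u' : U4, ∀ v, f (suMat u *ᵥ v) = suMat u' *ᵥ f v)

include hf

/-- The line of a point goes to a line. -/
theorem line_map {p : V4} (hp : IsPt4 p) (c : F4) : ∃ d : F4, f (c • p) = d • f p := by
  classical
  obtain ⟨u', hu'⟩ := hf (tvp p)
  have h2 : u' * u' = 1 := su_ext fun x => by
    obtain ⟨v, rfl⟩ := f.surjective x
    rw [suMat_mul, suMat_one, Matrix.one_mulVec, ← Matrix.mulVec_mulVec, ← hu', ← hu', Matrix.mulVec_mulVec,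
      ← suMat_mul, tvp_sq hp, suMat_one, Matrix.one_mulVec]
  have hne : u' ≠ 1 := fun e => by
    obtain ⟨x, hx⟩ := exists_h4_ne hp.1
    have h := hu' x
    rw [e, suMat_one, Matrix.one_mulVec, f.injective.eq_iff, tvp_apply hp, add_eq_left, smul_eq_zero] at h
    exact h.elim hx hp.1
  have him : ∀ w, ∃ d : F4, f (d • p) = suMat u' *ᵥ w + w := fun w => by
    obtain ⟨v, rfl⟩ := f.surjective w
    refine ⟨h4 v p, ?_⟩
    rw [← hu', tvp_apply hp, map_add, add_assoc, add_comm (f (h4 v p • p)), ← add_assoc,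
      v4_self, zero_add]
  -- the image is a transvection
  obtain ⟨q, hq, rfl⟩ : ∃ q, IsPt4 q ∧ u' = tvp q := by
    rcases invol_cases h2 hne with ⟨q, hq, h⟩ | ⟨g, hg⟩
    · exact ⟨q, hq, h⟩
    exfalso
    have hl : ∀ x : {x : V4 | LS x}, ∃ d : F4, f (d • p) = suMat g⁻¹ *ᵥ x.1 := fun x => by
      obtain ⟨d, hd⟩ := him (suMat g⁻¹ *ᵥ ![x.1 0, 0, x.1 2, 0])
      refine ⟨d, hd.trans ?_⟩
      have e : u' = g⁻¹ * s0 * g := by rw [← hg]; group
      rw [e, suMat_mul, suMat_mul, ← Matrix.mulVec_mulVec, ← Matrix.mulVec_mulVec, Matrix.mulVec_mulVec _ (suMat g),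
        ← suMat_mul, mul_inv_cancel, suMat_one, Matrix.one_mulVec, ← Matrix.mulVec_add]
      conv_rhs => rw [← LS_lift x.2, add_comm]
    choose d hd using hl
    have hinj : Function.Injective d := fun x y e => Subtype.ext (by
      have h1 := hd x
      rw [e, hd y] at h1
      have h3 := congrArg (fun t => suMat g *ᵥ t) h1
      simp only [Matrix.mulVec_mulVec, ← suMat_mul, mul_inv_cancel, suMat_one, Matrix.one_mulVec] at h3
      exact h3.symm)
    have h3 := Nat.card_le_card_of_injective d hinj
    rw [Nat.card_coe_set_eq, card_LS, Nat.card_eq_fintype_card] at h3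
    exact absurd h3 (by decide +kernel)
  -- the image is the line of the point
  have key : ∀ d : F4, ∃ e : F4, f (d • p) = e • q := fun d => by
    obtain ⟨x, hx⟩ := exists_h4_ne hp.1
    refine ⟨h4 (f ((d * (h4 x p * h4 x p)) • x)) q, ?_⟩
    have h := hu' ((d * (h4 x p * h4 x p)) • x)
    rw [tvp_apply hp, tvp_apply hq, map_add, h4_smul_left, mul_assoc, f4_inv _ hx, mul_one] at h
    exact add_left_cancel h
  obtain ⟨e1, he1⟩ := key 1
  rw [one_smul] at he1
  obtain ⟨e, he⟩ := key c
  have h1 : e1 ≠ 0 := fun q0 => hp.1 (by rw [q0, zero_smul] at he1; exact f.map_eq_zero_iff.1 he1)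
  exact ⟨e * (e1 * e1), by rw [he, he1, smul_smul, mul_assoc, f4_inv _ h1, mul_one]⟩

/-- The multiplier of a point. -/
theorem point_mu {p : V4} (hp : IsPt4 p) :
    ∃ μ : F4, μ ≠ 0 ∧ μ ≠ 1 ∧ ∀ c : F4, f (c • p) = (if c = om then μ else if c = om * om then μ * μ else c) • f p := by
  obtain ⟨μ, hμ⟩ := line_map hf hp om
  obtain ⟨o0, o1, o2⟩ := f4_om
  have m0 : μ ≠ 0 := fun e => by
    rw [e, zero_smul, f.map_eq_zero_iff, smul_eq_zero] at hμ
    exact hμ.elim o0 hp.1
  have m1 : μ ≠ 1 := fun e => by
    rw [e, one_smul, f.injective.eq_iff, smul_eq_left hp.1] at hμ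
    exact o1 hμ
  refine ⟨μ, m0, m1, fun c => ?_⟩
  rcases f4_scal c with rfl | rfl | rfl | rfl
  · simp [o0.symm, show om * om ≠ (0 : F4) from mul_ne_zero o0 o0 |>.symm |>.symm, eq_comm]
  · simp [o1.symm, show (1 : F4) ≠ om * om by decide +kernel]
  · simpa using hμ
  · rw [if_neg (show om * om ≠ om by decide +kernel), if_pos rfl, o2, add_smul, one_smul, map_add, hμ,
      f4_mu μ m0 m1, add_smul, one_smul]

/-- A map normalising the unitary group is linear or conjugate-linear. -/
theorem semilinear : (∀ (c : F4) (v : V4), f (c • v) = c • f v) ∨ (∀ (c : F4) (v : V4), f (c • v) = (c * c) • f v) := by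
  classical
  choose μ m0 m1 hm using fun (p : {p : V4 // IsPt4 p}) => point_mu hf p.2
  have hom : ∀ p, f (om • p.1) = μ p • f p.1 := fun p => by simpa using hm p om
  have same : ∀ p q : {p : V4 // IsPt4 p}, h4 p.1 q.1 = 0 → μ p = μ q := by
    intro p q hpq
    by_cases hline : ∃ c : F4, q.1 = c • p.1
    · obtain ⟨c, hc⟩ := hline
      have c0 : c ≠ 0 := fun e => q.2.1 (by rw [hc, e, zero_smul])
      have e1 := hom q
      rw [hc, smul_smul, hm p c, hm p (om * c), mul_comm om c] at e1
      have fp : f p.1 ≠ 0 := fun e => p.2.1 (f.map_eq_zero_iff.1 e)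
      rw [smul_smul] at e1
      have e2 := smul_left_injective F4 fp e1
      revert e2 c0
      have key : ∀ c m n : F4, c ≠ 0 → m ≠ 0 → m ≠ 1 → n ≠ 0 → n ≠ 1 →
          (if c * om = om then m else if c * om = om * om then m * m else c * om) =
            n * (if c = om then m else if c = om * om then m * m else c) → m = n := by decide +kernel
      exact fun c0 e2 => key c (μ p) (μ q) c0 (m0 p) (m1 p) (m0 q) (m1 q) e2
    · push Not at hline
      have hs : IsPt4 (p.1 + q.1) := ⟨fun e => hline 1 (by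
          rw [one_smul]; exact (eq_of_sum_zero e).symm), by
        rw [h4_add_left, h4_add_right, h4_add_right, p.2.2, q.2.2, hpq, h4_zero_iff.1 hpq]; rfl⟩
      have e1 := hom ⟨_, hs⟩
      rw [smul_add, map_add, hom p, hom q, map_add, smul_add] at e1
      set m := μ ⟨_, hs⟩
      by_contra hne
      have e2 : (μ q + m) • f q.1 = (μ p + m) • f p.1 := by
        rw [add_smul, add_smul]
        have : μ p • f p.1 + μ q • f q.1 + (m • f p.1 + m • f q.1) = 0 := by rw [e1, v4_self]
        exact eq_of_sum_zero (by rw [← this]; abel)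
      by_cases hq0 : μ q + m = 0
      · rw [hq0, zero_smul] at e2
        rcases smul_eq_zero.1 e2.symm with e | e
        · exact hne ((eq_of_add_F4 _ _ e).trans (eq_of_add_F4 _ _ hq0).symm)
        · exact p.2.1 (f.map_eq_zero_iff.1 e)
      · set w := μ q + m
        set d : F4 := w * w * (μ p + m)
        have e4 : f q.1 = d • f p.1 := by
          have h := congrArg (fun t => (w * w) • t) e2
          simp only [smul_smul] at h
          rwa [f4_inv w hq0, one_smul] at h
        obtain ⟨c, hc⟩ : ∃ c : F4, (if c = om then μ p else if c = om * om then μ p * μ p else c) = d := by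
          have key : ∀ m d : F4, m ≠ 0 → m ≠ 1 →
              ∃ c : F4, (if c = om then m else if c = om * om then m * m else c) = d := by decide +kernel
          exact key (μ p) d (m0 p) (m1 p)
        exact hline c (f.injective (by rw [hm p c, hc, e4]))
  let p0' : {p : V4 // IsPt4 p} := ⟨p0, p0_pt⟩
  have all : ∀ p, μ p = μ p0' := fun p => by
    obtain ⟨r, hr, h1, h2⟩ := exists_common p.2 p0_pt
    rw [← same ⟨r, hr⟩ p h1, ← same ⟨r, hr⟩ p0' h2]
  have hall : ∀ v : V4, f (om • v) = μ p0' • f v := fun v => by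
    obtain ⟨p, hp, hp'⟩ := pt_sum v
    have e : v = (v + p) + p := by rw [add_assoc, v4_self, add_zero]
    have h1 : f (om • (v + p)) = μ p0' • f (v + p) := by rw [hom ⟨_, hp'⟩, all]
    have h2 : f (om • p) = μ p0' • f p := by rw [hom ⟨_, hp⟩, all]
    rw [e, smul_add, map_add, h1, h2, ← smul_add, ← map_add]
  obtain ⟨o0, o1, o2⟩ := f4_om
  have hμ2 := f4_mu _ (m0 p0') (m1 p0')
  have cases : ∀ v : V4, ∀ c : F4, f (c • v) =
      (if c = om then μ p0' else if c = om * om then μ p0' * μ p0' else c) • f v := fun v c => by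
    rcases f4_scal c with rfl | rfl | rfl | rfl
    · rw [zero_smul, map_zero, if_neg (Ne.symm o0), if_neg (show (0 : F4) ≠ om * om by decide +kernel), zero_smul]
    · rw [one_smul, if_neg (Ne.symm o1), if_neg (show (1 : F4) ≠ om * om by decide +kernel), one_smul]
    · rw [if_pos rfl, hall]
    · rw [if_neg (show om * om ≠ om by decide +kernel), if_pos rfl, o2, add_smul, one_smul, map_add, hall, hμ2,
        add_smul, one_smul]
  rcases f4_scal (μ p0') with e | e | e | e
  · exact absurd e (m0 p0')
  · exact absurd e (m1 p0')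
  · left
    intro c v
    rw [cases, e]
    congr 1
    revert c
    decide +kernel
  · right
    intro c v
    rw [cases, e]
    congr 1
    revert c
    decide +kernel

end CfsgLib.Fi22Cent
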