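import Cfsg.Agent.Fi22Cent.PairBasic
import Cfsg.Agent.Fi22Cent.Semilinear

/-!
A good pair in the natural case: the pairs meet.
-/

set_option autoImplicit false
set_option maxRecDepth 100000
set_option maxHeartbeats 1000000
set_option linter.style.haveILetI false
set_option linter.unusedSectionVars false

open scoped Matrix

namespace CfsgLib.Fi22Cent

open CfsgLib CfsgLib.U62Cent Subgroup
open CfsgLib.FiLarge (F4 om)
open CfsgLib.Unitary (suMat suMat_mul suMat_one su_ext)

universe v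

variable {G : Type*} [Group G] [Finite G] {V : Type v} [AddCommGroup V] [Module (ZMod 2) V]
  {z a : G} {R : Rep V}

namespace St

/-- In the natural case the coordinates are natural. -/
theorem exists_natural (D : St z a R) (hN : R.IsNat) : ∃ D' : St z a R4, D'.J = D.J ∧ D'.H0 = D.H0 := by
  obtain ⟨Φ, α, hq, hr⟩ := Rep.natural (R := R) hN
  have hB : ∀ v w, R.B v w = R4.B (Φ v) (Φ w) := fun v w => by
    simp only [Rep.B, QuadraticMap.polar, R4_q, ← map_add, hq]
  exact ⟨{
    z_sq := D.z_sq, z_ne := D.z_ne, a_sq := D.a_sq, a_ne := D.a_ne, a_ne_z := D.a_ne_z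
    J := D.J, J_comm := D.J_comm, z_mem := D.z_mem, a_mem := D.a_mem, J_comm_a := D.J_comm_a, J_norm := D.J_norm
    H0 := D.H0, H0_comm := D.H0_comm, H0_comm_a := D.H0_comm_a, J_le := D.J_le, H0_two := D.H0_two
    exists_out := D.exists_out
    ph := fun a => α (D.ph a)
    ph_mul := fun a ha b hb => by rw [D.ph_mul a ha b hb, map_mul]
    ph_J := fun a ha => by rw [EmbeddingLike.map_eq_one_iff]; exact D.ph_J a ha
    ph_surj := fun u => by
      obtain ⟨a, ha, e⟩ := D.ph_surj (α.symm u)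
      exact ⟨a, ha, by rw [e, MulEquiv.apply_symm_apply]⟩
    pr := fun a => Φ (D.pr a)
    pr_mul := fun a ha b hb => by rw [D.pr_mul a ha b hb, map_add]
    pr_zero := fun a ha => by rw [LinearEquiv.map_eq_zero_iff]; exact D.pr_zero a ha
    pr_surj := fun w => by
      obtain ⟨a, ha, e⟩ := D.pr_surj (Φ.symm w)
      exact ⟨a, ha, by rw [e, LinearEquiv.apply_symm_apply]⟩
    sq := fun a ha => by rw [D.sq a ha, R4_q, hq]
    comm := fun a ha b hb => by rw [D.comm a ha b hb, hB]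
    pr_act := fun a ha b hb => by rw [D.pr_act a ha b hb, hr, R4_r]
    act_faithful := fun g hg h => D.act_faithful g hg fun j hj => Φ.injective (h j hj) }, rfl, rfl⟩

variable (D : St z a R)

include D

/-- A good pair may be moved by the inner part. -/
theorem Good.move {g h : G} (hP : D.Good g) (hh : h ∈ D.H0) : D.Good (h * g) where
  iso := hP.iso
  x_mem := by
    rw [show h * g * z * (h * g)⁻¹ = h * (g * z * g⁻¹) * h⁻¹ by group]
    exact mul_mem (mul_mem hh hP.x_mem) (inv_mem hh)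
  x_nJ := fun e => hP.x_nJ (by
    have := D.J_norm h⁻¹ (D.H0_comm h hh).inv_left _ e
    simpa [mul_assoc] using this)
  y_comm := by
    have h1 := hP.y_comm.map (MulAut.conj h).toMonoidHom
    simp [MulAut.conj_apply, mul_assoc] at h1
    have h2 : h * (z * h⁻¹) = z := by rw [← mul_assoc, (D.H0_comm h hh).eq, mul_inv_cancel_right]
    rw [h2] at h1
    simpa [mul_assoc] using h1

theorem meet_move {g h : G} (hh : h ∈ D.H0) (hM : D.Meet (h * g)) : D.Meet g := by
  have key : ∀ b c : G, Commute h c → h * g * b * (h * g)⁻¹ = c → g * b * g⁻¹ = c := fun b c hc e => by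
    calc g * b * g⁻¹ = h⁻¹ * (h * g * b * (h * g)⁻¹) * h := by group
      _ = c := by rw [e, mul_assoc, ← hc.eq, inv_mul_cancel_left]
  have ha := D.H0_comm_a h hh
  have haz := ha.mul_right (D.H0_comm h hh)
  exact hM.imp (Or.imp (key _ _ ha) (key _ _ haz)) (Or.imp (key _ _ ha) (key _ _ haz))

end St

theorem v4_split : ∀ v : V4, v = h4 v p0 • (![1, 0, 0, 0] : V4) + (v + h4 v p0 • (![1, 0, 0, 0] : V4)) :=
  fun v => by rw [add_comm v, ← add_assoc, v4_self, zero_add]

theorem t_perp : ∀ u : V4, h4 u p0 = 0 → h4 u ![0, 0, 1, 0] = 0 → h4 u ![0, 0, 0, 1] = 0 → u = u 0 • p0 := by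
  decide +kernel

theorem s_perp : ∀ u : V4, h4 u p0 = 0 → h4 u p1 = 0 → LS u := by decide +kernel

namespace St

variable {z a : G} (D : St z a R4)

/-- The action of an element of the centraliser normalises the unitary group. -/
theorem actL_norm {y : G} (hy : Commute y z) (u : U4) :
    ∃ u' : U4, ∀ v, D.actL y hy (suMat u *ᵥ v) = suMat u' *ᵥ D.actL y hy v := by
  obtain ⟨h, hh, rfl⟩ := D.ph_surj u
  refine ⟨D.ph (y * h * y⁻¹), fun v => ?_⟩
  show D.act y (R4.r (D.ph h) v) = R4.r (D.ph (y * h * y⁻¹)) (D.act y v)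
  have hh' := D.conj_H0 hy hh
  rw [← D.act_H0 hh, ← D.act_H0 hh', ← D.act_mul hy (D.H0_comm h hh), ← D.act_mul (D.H0_comm _ hh') hy]
  congr 1
  group

variable {g : G} (hP : D.Good g)

include hP

/-- A line fixed makes the action linear. -/
theorem linear_of_line (hfix : ∀ c : F4, D.act (g * a * g⁻¹) (c • p0) = c • p0) :
    (∀ (c : F4) (v : V4), D.act (g * a * g⁻¹) (c • v) = c • D.act (g * a * g⁻¹) v) ∧
      ∀ u v : V4, h4 (D.act (g * a * g⁻¹) u) (D.act (g * a * g⁻¹) v) = h4 u v := by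
  have hl : ∀ (c : F4) (v : V4), D.act (g * a * g⁻¹) (c • v) = c • D.act (g * a * g⁻¹) v := by
    rcases semilinear (f := D.actL _ hP.y_comm) (D.actL_norm hP.y_comm) with h | h
    · exact h
    · exfalso
      have h1 : D.act (g * a * g⁻¹) (om • p0) = (om * om) • D.act (g * a * g⁻¹) p0 := h om p0
      have h2 := hfix 1
      rw [one_smul] at h2
      rw [hfix, h2] at h1
      exact absurd h1 (by decide +kernel)
  refine ⟨hl, fun u v => ?_⟩
  exact h4_of_qn4 (f := { toFun := D.act (g * a * g⁻¹), map_add' := D.act_add hP.y_comm, map_smul' := hl })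
    (fun w => D.act_q hP.y_comm w) u v

/-- The transvection case. -/
theorem meet_nat_t (he : D.ph (g * z * g⁻¹) = tvp p0) : D.Meet g := by
  set f := D.act (g * a * g⁻¹) with hf
  have hS0 : ∀ c : F4, D.InS (g * z * g⁻¹) (c • p0) := fun c => by
    have e : D.act (g * z * g⁻¹) (c • (![1, 0, 0, 0] : V4)) + c • (![1, 0, 0, 0] : V4) = c • p0 := by
      rw [D.act_H0 hP.x_mem, he, R4_r, tvp_apply p0_pt, add_comm (c • (![1, 0, 0, 0] : V4)), add_assoc, v4_self,
        add_zero]
      revert c; decide +kernel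
    have hq : ∀ c : F4, qn4 (c • p0) = 0 := by decide +kernel
    have := D.inS_image hP.x_comm hP.x_sq (c • (![1, 0, 0, 0] : V4))
    rw [e, R4_q] at this
    exact this (hq c)
  obtain ⟨hl, hh4⟩ := D.linear_of_line hP fun c => hP.inS_fix_y (hS0 c)
  have hlf : ∀ (c : F4) (v : V4), f (c • v) = c • f v := hl
  have hadd : ∀ v w : V4, f (v + w) = f v + f w := D.act_add hP.y_comm
  obtain ⟨h, hh, eh⟩ := D.ph_surj d3
  have hd : d3 * tvp p0 = tvp p0 * d3 := by
    have h := tvp_conj p0_pt d3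
    rw [d3_pts.1, tvp_smul p0_pt (by decide +kernel)] at h
    exact mul_inv_eq_iff_eq_mul.1 h
  have hF : ∀ v : V4, h4 v p0 = 0 → D.InF (g * z * g⁻¹) v := fun v hv => by
    refine D.inF_all hP.x_mem hP.x_sq hh (by rw [eh, he, hd]) (by rw [eh, d3_cube]) (fun w _ hw => ?_) ?_
    · have e0 : w = 0 := d3_fpf w (by rw [← d3_apply, ← R4_r, ← eh]; exact hw)
      exact ⟨0, 0, fun u => map_zero _, by rw [e0, map_zero, add_zero, add_zero]⟩
    · rw [D.act_H0 hP.x_mem, he, R4_r, tvp_apply p0_pt, hv, zero_smul, add_zero]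
  have hfix : ∀ v : V4, h4 v p0 = 0 → f v = v := fun v hv => by
    by_cases h1 : D.InS (g * z * g⁻¹) v
    · exact hP.inS_fix_y h1
    have hv' : h4 (om • v) p0 = 0 := by rw [h4_smul_left, hv, mul_zero]
    by_cases h2 : D.InS (g * z * g⁻¹) (om • v)
    · exact smul_right_injective V4 f4_om.1 ((hl om v).symm.trans (hP.inS_fix_y h2))
    · have h3 := hP.inS_fix_y (D.inS_of_two (hF v hv) (hF _ hv') h1 h2)
      rw [show v + om • v = (1 + om) • v by rw [add_smul, one_smul], hl] at h3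
      exact smul_right_injective V4 (show (1 + om : F4) ≠ 0 by decide +kernel) h3
  set w1 : V4 := ![1, 0, 0, 0] with hw1
  set u := f w1 + w1 with hu
  have hperp : ∀ v, h4 v p0 = 0 → h4 u v = 0 := fun v hv => by
    have h := hh4 w1 v
    rw [← hf, hfix v hv] at h
    rw [hu, h4_add_left, h]
    exact (by decide +kernel : ∀ c : F4, c + c = 0) _
  have eu : u = u 0 • p0 :=
    t_perp u (hperp p0 (by decide +kernel)) (hperp _ (by decide +kernel)) (hperp _ (by decide +kernel))
  have ef : f w1 = w1 + u 0 • p0 := by rw [← eu, hu, add_comm (f w1), ← add_assoc, v4_self, zero_add]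
  have hc : u 0 = 0 ∨ u 0 = 1 := by
    have h := hh4 w1 w1
    rw [← hf, ef] at h
    have key : ∀ c : F4, h4 ((![1, 0, 0, 0] : V4) + c • p0) ((![1, 0, 0, 0] : V4) + c • p0) =
        h4 (![1, 0, 0, 0] : V4) ![1, 0, 0, 0] → c = 0 ∨ c = 1 := by decide +kernel
    exact key _ h
  have hsum : ∀ v : V4, f v = v + (h4 v p0 * u 0) • p0 := fun v => by
    have h0 : h4 (v + h4 v p0 • w1) p0 = 0 := by
      rw [h4_add_left, h4_smul_left, show h4 w1 p0 = 1 by decide +kernel, mul_one]
      exact (by decide +kernel : ∀ c : F4, c + c = 0) _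
    conv_lhs => rw [v4_split v]
    rw [hadd, hlf, hfix _ h0, ef, smul_add, smul_smul]
    conv_rhs => arg 1; rw [v4_split v]
    abel
  refine hP.meet_of_act ?_
  rcases hc with e | e
  · exact Or.inl fun v => by rw [← hf, hsum, e, mul_zero, zero_smul, add_zero]
  · exact Or.inr fun v => by rw [← hf, hsum, e, mul_one, he, R4_r, tvp_apply p0_pt]

/-- The second class. -/
theorem meet_nat_s (he : D.ph (g * z * g⁻¹) = s0) : D.Meet g := by
  set f := D.act (g * a * g⁻¹) with hf
  have hS : ∀ v : V4, LS v → D.InS (g * z * g⁻¹) v := fun v hv => by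
    have e : D.act (g * z * g⁻¹) (![v 0, 0, v 2, 0] : V4) + ![v 0, 0, v 2, 0] = v := by
      rw [D.act_H0 hP.x_mem, he, R4_r, add_comm]
      exact LS_lift hv
    have := D.inS_image hP.x_comm hP.x_sq (![v 0, 0, v 2, 0] : V4)
    rw [e, R4_q] at this
    exact this (LS_qn4 v hv)
  have hfix : ∀ v : V4, LS v → f v = v := fun v hv => hP.inS_fix_y (hS v hv)
  obtain ⟨hl, hh4⟩ := D.linear_of_line hP fun c => hfix _ (by revert c; decide +kernel)
  have hlf : ∀ (c : F4) (v : V4), f (c • v) = c • f v := hl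
  have hadd : ∀ v w : V4, f (v + w) = f v + f w := D.act_add hP.y_comm
  obtain ⟨h, hh, eh, hhy⟩ := hP.lift_y (d := d3) (by rw [he, d3_s0]) d3_cube fun v hv => by
    rw [he, R4_r, s0_fix] at hv
    have hL : LS (suMat d3 *ᵥ v + v) := by
      rw [d3_apply]
      exact ⟨by simp [hv.1], by simp [hv.2]⟩
    exact ⟨![(suMat d3 *ᵥ v + v) 0, 0, (suMat d3 *ᵥ v + v) 2, 0], by
      rw [he, R4_r, R4_r, add_comm (suMat s0 *ᵥ _), LS_lift hL]⟩
  have hdf : ∀ v, f (suMat d3 *ᵥ v) = suMat d3 *ᵥ f v := fun v => by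
    have := D.act_commute hP.y_comm (D.H0_comm h hh) hhy.symm v
    rwa [D.act_H0 hh, D.act_H0 hh, eh, ← hf, R4_r, R4_r] at this
  set w1 : V4 := ![1, 0, 0, 0] with hw1
  set w2 : V4 := ![0, 0, 1, 0] with hw2
  have base : ∀ w : V4, ∀ k : F4, suMat d3 *ᵥ w = k • w →
      LS (f w + w) ∧ suMat d3 *ᵥ (f w + w) = k • (f w + w) := fun w k hk => by
    refine ⟨s_perp _ ?_ ?_, by rw [Matrix.mulVec_add, ← hdf, hk, hlf, smul_add]⟩
    · have h := hh4 w p0
      rw [← hf, hfix p0 (by decide +kernel)] at h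
      rw [h4_add_left, h]
      exact (by decide +kernel : ∀ c : F4, c + c = 0) _
    · have h := hh4 w p1
      rw [← hf, hfix p1 (by decide +kernel)] at h
      rw [h4_add_left, h]
      exact (by decide +kernel : ∀ c : F4, c + c = 0) _
  have k1 : suMat d3 *ᵥ w1 = om • w1 := by rw [d3_apply]; decide +kernel
  have k2 : suMat d3 *ᵥ w2 = (om * om) • w2 := by rw [d3_apply]; decide +kernel
  obtain ⟨L1, E1⟩ := base w1 om k1
  obtain ⟨L2, E2⟩ := base w2 (om * om) k2
  rw [d3_apply] at E1 E2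
  have key1 : ∀ u : V4, LS u → (![om * u 0, om * u 1, om * om * u 2, om * om * u 3] : V4) = om • u →
      u = u 0 • p0 := by decide +kernel
  have key2 : ∀ u : V4, LS u → (![om * u 0, om * u 1, om * om * u 2, om * om * u 3] : V4) = (om * om) • u →
      u = u 2 • p1 := by decide +kernel
  set c := (f w1 + w1) 0
  set d := (f w2 + w2) 2
  have ef1 : f w1 = w1 + c • p0 := by rw [← key1 _ L1 E1, add_comm (f w1), ← add_assoc, v4_self, zero_add]
  have ef2 : f w2 = w2 + d • p1 := by rw [← key2 _ L2 E2, add_comm (f w2), ← add_assoc, v4_self, zero_add]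
  have hc : (c = 0 ∨ c = 1) ∧ (d = 0 ∨ d = 1) := by
    have h1 := hh4 w1 w1
    have h2 := hh4 w2 w2
    rw [← hf, ef1] at h1
    rw [← hf, ef2] at h2
    have key : ∀ c : F4,
        (h4 ((![1, 0, 0, 0] : V4) + c • p0) ((![1, 0, 0, 0] : V4) + c • p0) = h4 (![1, 0, 0, 0] : V4) ![1, 0, 0, 0] →
          c = 0 ∨ c = 1) ∧
        (h4 ((![0, 0, 1, 0] : V4) + c • p1) ((![0, 0, 1, 0] : V4) + c • p1) = h4 (![0, 0, 1, 0] : V4) ![0, 0, 1, 0] →
          c = 0 ∨ c = 1) := by decide +kernel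
    exact ⟨(key c).1 h1, (key d).2 h2⟩
  have hsum : ∀ v : V4, f v = v + ((v 0 + v 1) * c) • p0 + ((v 2 + v 3) * d) • p1 := fun v => by
    set A := v 0 + v 1 with hA
    set B := v 2 + v 3 with hB
    have hsplit : v = A • w1 + B • w2 + (![v 1, v 1, v 3, v 3] : V4) := by
      have t : ∀ x y : F4, x = x + y + y := fun x y => by rw [add_assoc, (by decide +kernel : ∀ c : F4, c + c = 0) y, add_zero]
      funext i
      fin_cases i <;> simp [hA, hB, hw1, hw2] <;> exact t _ _
    conv_lhs => rw [hsplit]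
    rw [hadd, hadd, hlf, hlf, ef1, ef2, hfix _ ⟨by simp, by simp⟩,
      smul_add, smul_add, smul_smul, smul_smul]
    conv_rhs => arg 1; arg 1; rw [hsplit]
    abel
  have hes : ∀ v : V4, suMat s0 *ᵥ v = v + (v 0 + v 1) • p0 + (v 2 + v 3) • p1 := fun v => by
    have t : ∀ x y : F4, y = x + (x + y) ∧ y = y + x + x ∧ x = y + (x + y) := by decide +kernel
    rw [s0_apply]
    funext i
    fin_cases i <;> simp [p0, p1]
    · exact (t (v 0) (v 1)).1
    · exact (t (v 0) (v 1)).2.2
    · exact (t (v 2) (v 3)).1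
    · exact (t (v 2) (v 3)).2.2
  have hmix : ∀ v : V4, f v = v → suMat d3 *ᵥ v + v ≠ 0 → LS (suMat d3 *ᵥ v + v) := fun v hv _ => by
    have h2 := hP.inS_fix_x (hP.inS_move hh hhy hv)
    rwa [eh, he, R4_r, R4_r, s0_fix] at h2
  refine hP.meet_of_act ?_
  obtain ⟨hc1 | hc1, hd1 | hd1⟩ := hc
  · exact Or.inl fun v => by rw [← hf, hsum, hc1, hd1]; simp
  · exfalso
    have h := hmix w1 (by rw [ef1, hc1, zero_smul, add_zero]) (by rw [d3_apply]; decide +kernel)
    rw [d3_apply] at h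
    exact absurd h (by decide +kernel)
  · exfalso
    have h := hmix w2 (by rw [ef2, hd1, zero_smul, add_zero]) (by rw [d3_apply]; decide +kernel)
    rw [d3_apply] at h
    exact absurd h (by decide +kernel)
  · exact Or.inr fun v => by rw [← hf, hsum, hc1, hd1, mul_one, mul_one, he, R4_r, hes]

end St

namespace St

variable (D : St z a R)

/-- A good pair in the natural case. -/
theorem meet_nat (hN : R.IsNat) {g : G} (hP : D.Good g) : D.Meet g := by
  obtain ⟨D', eJ, eH⟩ := D.exists_natural hN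
  have hP' : D'.Good g := ⟨hP.iso, eH ▸ hP.x_mem, fun e => hP.x_nJ (eJ ▸ e), hP.y_comm⟩
  suffices D'.Meet g from this
  have hcl := invol_cases hP'.ph_sq hP'.ph_ne
  have norm : ∀ c e : U4, c * D'.ph (g * z * g⁻¹) * c⁻¹ = e →
      ∃ h ∈ D'.H0, D'.ph (h * g * z * (h * g)⁻¹) = e := fun c e hc => by
    obtain ⟨h, hh, rfl⟩ := D'.ph_surj c
    refine ⟨h, hh, ?_⟩
    rw [show h * g * z * (h * g)⁻¹ = h * (g * z * g⁻¹) * h⁻¹ by group,
      D'.ph_mul _ (mul_mem hh hP'.x_mem) _ (inv_mem hh), D'.ph_mul _ hh _ hP'.x_mem, D'.ph_inv hh, hc]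
  rcases hcl with ⟨p, hp, e⟩ | ⟨c, hc⟩
  · obtain ⟨c, hc⟩ := to_p0 hp
    obtain ⟨h, hh, e'⟩ := norm c (tvp p0) (by rw [e, tvp_conj hp, hc])
    exact D'.meet_move hh (D'.meet_nat_t (St.Good.move D' hP' hh) e')
  · obtain ⟨h, hh, e'⟩ := norm c s0 hc
    exact D'.meet_move hh (D'.meet_nat_s (St.Good.move D' hP' hh) e')

end St

end CfsgLib.Fi22Cent
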