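import Cfsg.Agent.Fi22Cent.TriBlocks
import Cfsg.Agent.Fi22Cent.Natural

/-!
A conjugate of the centre in the radical, with the matching conjugate of `a` in the centraliser: the pairs meet.
-/

set_option autoImplicit false
set_option maxRecDepth 100000
set_option maxHeartbeats 1000000
set_option linter.style.haveILetI false
set_option linter.unusedSectionVars false

open scoped Matrix

namespace CfsgLib.Fi22Cent

open CfsgLib CfsgLib.U62Cent Subgroup
open CfsgLib.FiLarge (F4 om)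
open CfsgLib.Unitary (suMat suMat_mul suMat_one su_ext)

universe v

variable {G : Type*} [Group G] [Finite G] {V : Type v} [AddCommGroup V] [Module (ZMod 2) V]
  {z a : G} {R : Rep V}

/-- An involution with singular commutators commutes with an element of order three moving each of them. -/
def Mv (R : Rep V) : Prop := ∀ u : U4, u * u = 1 → (∀ w, R.q (R.r u w + w) = 0) → ∀ w, R.r u w + w ≠ 0 →
  ∃ d : U4, d * u = u * d ∧ d ^ 3 = 1 ∧ R.r d (R.r u w + w) ≠ R.r u w + w

theorem mv_conj {R : Rep V} {u u0 c : U4} (hu : c * u * c⁻¹ = u0) (hq : ∀ w, R.q (R.r u w + w) = 0)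
    (h : (∀ w, R.q (R.r u0 w + w) = 0) → ∀ w, R.r u0 w + w ≠ 0 →
      ∃ d : U4, d * u0 = u0 * d ∧ d ^ 3 = 1 ∧ R.r d (R.r u0 w + w) ≠ R.r u0 w + w)
    (w : V) (hw : R.r u w + w ≠ 0) :
    ∃ d : U4, d * u = u * d ∧ d ^ 3 = 1 ∧ R.r d (R.r u w + w) ≠ R.r u w + w := by
  have key : ∀ w', R.r u0 w' + w' = R.r c (R.r u (R.r c⁻¹ w') + R.r c⁻¹ w') := fun w' => by
    rw [map_add, ← R.r_mul c c⁻¹, mul_inv_cancel, R.r_one, ← R.r_mul, ← R.r_mul, hu]
  have key' : R.r u0 (R.r c w) + R.r c w = R.r c (R.r u w + w) := by rw [key, R.r_inv]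
  obtain ⟨d, hd, h3, hne⟩ := h (fun w' => by rw [key, R.inv]; exact hq _) (R.r c w) (by
    rw [key']; exact fun e => hw ((R.r c).map_eq_zero_iff.1 e))
  refine ⟨c⁻¹ * d * c, ?_, by simpa [inv_inv, h3] using (conj_pow (a := c⁻¹) (b := d) (i := 3)), fun e => hne ?_⟩
  · rw [show u = c⁻¹ * u0 * c by rw [← hu]; group]
    calc c⁻¹ * d * c * (c⁻¹ * u0 * c) = c⁻¹ * (d * u0) * c := by group
      _ = _ := by rw [hd]; group
  · rw [key']
    conv_rhs => rw [← e]
    rw [R.r_mul, R.r_mul, ← R.r_mul c c⁻¹, mul_inv_cancel, R.r_one]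

theorem mv_nat : Mv R4 := by
  intro u h2 hq w hw
  have base : ∀ u0 : U4, d3 * u0 = u0 * d3 → ∀ w, R4.r u0 w + w ≠ 0 →
      ∃ d : U4, d * u0 = u0 * d ∧ d ^ 3 = 1 ∧ R4.r d (R4.r u0 w + w) ≠ R4.r u0 w + w := fun u0 hc w hw =>
    ⟨d3, hc, d3_cube, fun e => hw (d3_fpf _ (by rwa [R4_r d3, d3_apply] at e))⟩
  by_cases h1 : u = 1
  · exact absurd (by rw [h1, R4.r_one]; exact v4_self w) hw
  rcases invol_cases h2 h1 with ⟨p, hp, rfl⟩ | ⟨c, hc⟩
  · obtain ⟨c, hc⟩ := to_p0 hp
    refine mv_conj (u0 := tvp p0) (c := c) (by rw [tvp_conj hp, hc]) hq (fun _ => base _ ?_) w hw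
    have h := tvp_conj p0_pt d3
    rw [d3_pts.1, tvp_smul p0_pt (by decide +kernel)] at h
    exact mul_inv_eq_iff_eq_mul.1 h
  · exact mv_conj hc hq (fun _ => base _ d3_s0) w hw

theorem mv_tri {R : Rep V} (hT : R.IsTri) : Mv R := by
  intro u h2 hq w hw
  by_cases h1 : u = 1
  · exact absurd (by rw [h1, R.r_one]; exact two_self w) hw
  rcases invol_cases h2 h1 with ⟨p, hp, rfl⟩ | ⟨c, hc⟩
  · obtain ⟨c, hc⟩ := to_p0 hp
    refine mv_conj (u0 := tvp p0) (c := c) (by rw [tvp_conj hp, hc]) hq (fun _ w hw => ?_) w hw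
    have hcomm : g3 * tvp p0 = tvp p0 * g3 := by
      have h := tvp_conj p0_pt g3
      rw [g3_p0] at h
      exact mul_inv_eq_iff_eq_mul.1 h
    refine ⟨g3, hcomm, ?_, fun e => hw ?_⟩
    · rw [pow_succ, pow_two, g3, ← dE_add (by decide) (by decide), ← dE_add (by decide) (by decide),
        show (![0, 0, 1, 2] : Fin 4 → ZMod 3) + ![0, 0, 1, 2] + ![0, 0, 1, 2] = 0 by decide, dE_zero]
    set v := R.r (tvp p0) w + w with hv
    have h0 : R.e0 v = 0 := by rw [hv, map_add, Rep.e0_r hT, two_self]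
    have h4 : R.bk 4 v = 0 := by
      have e4 : R.r (tvp p0) (R.bk 4 w) = R.bk 4 w := t_fix4 hT (R.bk_mem 4 w)
      rw [hv]
      conv_lhs => arg 2; arg 1; rw [dec3 hT w]
      simp only [map_add, Rep.tri_fix hT _ _ (R.e0_mem w), e4,
        R.bk_X0 (R.e0_mem w), R.bk_self (R.bk_mem 4 w),
        R.bk_other (show (6 : Fin 13) ≠ 4 by decide) (t_five hT (R.bk_mem 5 w)),
        R.bk_other (show (5 : Fin 13) ≠ 4 by decide) (t_six hT (R.bk_mem 6 w)), zero_add, add_zero]
      exact two_self _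
    have h5 : R.bk 5 v = 0 := R.rot_ne (R.bk_mem 5 v) (by
      rw [← R.act_X_one (R.bk_mem 5 v) pair_L3.2.1, ← bk_act, ← r_L3, e])
    have h6 : R.bk 6 v = 0 := R.rot_ne (R.bk_mem 6 v) (by
      rw [← R.act_X_one (R.bk_mem 6 v) pair_L3.2.2, ← bk_act, ← r_L3, e])
    rw [dec3 hT v, h0, h4, h5, h6]
    simp
  · refine mv_conj hc hq (fun h => ?_) w hw
    obtain ⟨w5, -, hm, hne⟩ := s_y5 hT
    have := h w5
    rw [R.q_block (Rep.tri_card4 hT).2.1 hm hne] at this
    exact absurd this one_ne_zero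

namespace St

variable (D : St z a R)

include D

/-- Elements outside the inner part move `a` if one element does. -/
theorem inner_of_comm {h y : G} (hh : Commute h z) (hm : ¬ Commute h a) (hyz : Commute y z) (hya : Commute y a) :
    y ∈ D.H0 := by
  by_contra hy
  have hn : h ∉ D.H0 := fun e => hm (D.H0_comm_a h e)
  have h1 := D.H0_comm_a _ (D.H0_two y h hyz hh hy hn)
  have := hya.inv_left.mul_left h1
  rw [inv_mul_cancel_left] at this
  exact hm this

/-- If everything fixed has a lift commuting with the involution, all elements of order three commuting with the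
image lift. -/
theorem lift_full {x : G} (hx : x ∈ D.H0) (hx2 : x * x = 1) {d : U4} (hd : d * D.ph x = D.ph x * d) (h3 : d ^ 3 = 1)
    (hfull : ∀ v, R.r (D.ph x) v = v → D.InS x v) : ∃ h ∈ D.H0, D.ph h = d ∧ Commute h x := by
  have hps : D.ph x * D.ph x = 1 := by rw [← D.ph_mul _ hx _ hx, hx2, D.ph_one]
  refine D.lift_cent_of hx hx2 hd h3 fun h hh ehd hi => ?_
  have hhz := D.H0_comm h hh
  set i := x⁻¹ * h * x * h⁻¹ with hidef
  obtain ⟨w, hw⟩ := R.range_of_perp hps (k := D.pr i) fun v hv => by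
    have hv' : R.r (D.ph x) (R.r d⁻¹ v) = R.r d⁻¹ v := by
      rw [← R.r_mul, (show Commute d (D.ph x) from hd).inv_left.symm.eq, R.r_mul, hv]
    obtain ⟨j, hj, ej, hjx⟩ := hfull _ hv'
    obtain ⟨k, hk, ek, hkx⟩ := hfull v hv
    have hj' := D.J_norm h hhz j hj
    have e1 : D.pr (h * j * h⁻¹) = v := by
      rw [D.pr_act h hh j hj, ej, ehd, ← R.r_mul, mul_inv_cancel, R.r_one]
    obtain ⟨c, hc, ec⟩ := D.eq_of_pr hk hj' (ek.trans e1.symm)
    have h1 : Commute (h * j * h⁻¹) x := by rw [ec]; exact hkx.mul_left (D.kk_H0 hc hx).symm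
    have h2 : Commute (h * j * h⁻¹) (h * x * h⁻¹) := by
      simpa [MulAut.conj_apply] using hjx.map (MulAut.conj h).toMonoidHom
    have h3' : Commute (h * j * h⁻¹) i := by
      rw [show i = x⁻¹ * (h * x * h⁻¹) by rw [hidef]; group]
      exact h1.inv_right.mul_right h2
    rw [← e1]
    exact (D.comm_iff hi hj').1 h3'.symm
  exact ⟨w, hw.symm⟩

/-- A conjugate of the centre in the radical with its partner in the centraliser. -/
theorem meet_inJ (hM : Mv R) (hI : D.Iso) {g : G} (hx : g * z * g⁻¹ ∈ D.J) (hyz : Commute (g * a * g⁻¹) z) :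
    D.Meet g := by
  set x := g * z * g⁻¹ with hxdef
  set y := g * a * g⁻¹ with hydef
  by_cases hxz0 : x = z
  · exact Or.inl (D.conj_a (mul_inv_eq_iff_eq_mul.1 hxz0))
  have hxz : Commute x z := D.J_comm x hx
  have hy2 : y * y = 1 := by rw [hydef, conj_mul, D.a_sq]; group
  have hx2 : x * x = 1 := by rw [hxdef, conj_mul, D.z_sq]; group
  set p := D.pr x with hpdef
  have hp0 : p ≠ 0 := fun e => by
    rcases (D.pr_zero x hx).1 e with q | q | q | q
    · exact D.z_ne (conj_eq_one_iff.1 q)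
    · exact hxz0 q
    · exact D.z_not_a g q
    · exact D.z_not_az g q
  have hyx : y * x = g * (a * z) * g⁻¹ := by rw [hydef, hxdef, conj_mul]
  have hmove : ∀ {j : G}, Commute j x → ¬ Commute j y → j * y * j⁻¹ = y * x := fun {j} hjx hjy => by
    have h1 : Commute (g⁻¹ * j * g) z := by
      have := hjx.map (MulAut.conj g⁻¹).toMonoidHom
      simpa [hxdef, MulAut.conj_apply, mul_assoc] using this
    rcases D.conj_a h1 with e | e
    · refine absurd (mul_inv_eq_iff_eq_mul.1 ?_) hjy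
      calc j * y * j⁻¹ = g * (g⁻¹ * j * g * a * (g⁻¹ * j * g)⁻¹) * g⁻¹ := by rw [hydef]; group
        _ = y := by rw [e]
    · calc j * y * j⁻¹ = g * (g⁻¹ * j * g * a * (g⁻¹ * j * g)⁻¹) * g⁻¹ := by rw [hydef]; group
        _ = y * x := by rw [e, hyx]
  by_cases hA : ∀ j ∈ D.J, Commute j x → Commute j y
  · have hyJ : y ∈ D.J := D.hyper hyz hp0 ((D.invol_iff hx).1 hx2) fun v hv => by
      obtain ⟨j, hj, rfl⟩ := D.pr_surj v
      exact D.act_fix hyz hj (hA j hj ((D.comm_iff hj hx).2 hv)).symm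
    by_cases h0 : D.pr y = 0
    · rcases (D.pr_zero y hyJ).1 h0 with e | e | e | e
      · exact absurd (conj_eq_one_iff.1 e) D.a_ne
      · refine absurd (?_ : g⁻¹ * z * g⁻¹⁻¹ = a) (D.z_not_a _)
        rw [show g⁻¹ * z * g⁻¹⁻¹ = g⁻¹ * y * g by rw [e, inv_inv], hydef]; group
      · exact Or.inl (Or.inl e)
      · exact Or.inl (Or.inr e)
    · rcases R.orth_perp (a := D.pr y) (x := p) (fun w hw => by
        obtain ⟨j, hj, rfl⟩ := D.pr_surj w
        exact (D.comm_iff hx hj).1 (D.cent_le hI hxz hyz (D.J_comm j hj) ((D.comm_iff hj hyJ).2 hw)).symm) with e | e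
      · exact absurd e hp0
      · obtain ⟨c, hc, ec⟩ := D.eq_of_pr hyJ hx e.symm
        have e1 : g * (a * z) * g⁻¹ = c := by rw [← hyx, ec, ← mul_assoc, hy2, one_mul]
        rcases hc with q | q | q | q <;> rw [q] at e1
        · exact absurd (conj_eq_one_iff.1 e1) D.az_ne_one
        · refine absurd (?_ : g⁻¹ * z * g⁻¹⁻¹ = a * z) (D.z_not_az _)
          conv_lhs => arg 1; arg 2; rw [← e1]
          group
        · exact Or.inr (Or.inl e1)
        · exact Or.inr (Or.inr e1)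
  exfalso
  push Not at hA
  obtain ⟨j, hj, hjx, hjy⟩ := hA
  have ej := hmove hjx hjy
  have hya : Commute y a := by
    by_contra hna
    have h1 := hmove (D.J_comm_a x hx).symm fun e => hna e.symm
    have h2 := (D.conj_a hyz).resolve_left fun e => hna (mul_inv_eq_iff_eq_mul.1 e)
    apply hxz0
    calc x = y⁻¹ * (a * y * a⁻¹) := by rw [h1, inv_mul_cancel_left]
      _ = y * a * y⁻¹ * a⁻¹ := by rw [inv_eq_of_mul_eq_one_right hy2, D.a_inv]; group
      _ = a * z * a⁻¹ := by rw [h2]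
      _ = z := by rw [D.a_comm_z.eq, mul_inv_cancel_right]
  have hyH : y ∈ D.H0 := by
    have h1 : Commute (g⁻¹ * j * g) z := by
      have := hjx.map (MulAut.conj g⁻¹).toMonoidHom
      simpa [hxdef, MulAut.conj_apply, mul_assoc] using this
    refine D.inner_of_comm h1 (fun e => hjy ?_) hyz hya
    have := e.map (MulAut.conj g).toMonoidHom
    simpa [hydef, MulAut.conj_apply, mul_assoc] using this
  set v0 := D.pr j with hv0
  have hf0 : R.r (D.ph y) v0 + v0 = p := by
    have e1 : y * j * y⁻¹ = x * j := by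
      rw [inv_eq_of_mul_eq_one_right hy2]
      calc y * j * y = y * (j * y * j⁻¹) * j := by group
        _ = x * j := by rw [ej, ← mul_assoc y y x, hy2, one_mul]
    rw [← D.pr_act y hyH j hj, e1, D.pr_mul _ hx _ hj, add_assoc, two_self, add_zero]
  have hu2 : D.ph y * D.ph y = 1 := by rw [← D.ph_mul _ hyH _ hyH, hy2, D.ph_one]
  have hfull : ∀ v, R.r (D.ph y) v = v → D.InS y v := fun v hv => by
    obtain ⟨k, hk, rfl⟩ := D.pr_surj v
    have hkx : Commute k x := (D.comm_iff hk hx).2 (by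
      rw [R.B_comm]
      show R.B p (D.pr k) = 0
      rw [← hf0]; exact R.perp_of_fix hu2 hv v0)
    refine ⟨k, hk, rfl, ?_⟩
    by_contra hky
    have e1 : y * k * y⁻¹ = x * k := by
      rw [inv_eq_of_mul_eq_one_right hy2]
      calc y * k * y = y * (k * y * k⁻¹) * k := by group
        _ = x * k := by rw [hmove hkx hky, ← mul_assoc y y x, hy2, one_mul]
    rw [← D.pr_act y hyH k hk, e1, D.pr_mul _ hx _ hk, add_eq_right] at hv
    exact hp0 hv
  have hsing : ∀ w, R.q (R.r (D.ph y) w + w) = 0 := fun w => by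
    by_contra hq
    rw [← D.act_H0 hyH] at hq
    refine D.not_inS_image hyz hya hy2 hq (hfull _ ?_)
    rw [D.act_H0 hyH, map_add, R.r_invol hu2, add_comm]
  obtain ⟨d, hd, h3, hne⟩ := hM _ hu2 hsing v0 (by rw [hf0]; exact hp0)
  obtain ⟨h, hh, eh, hhy⟩ := D.lift_full hyH hy2 hd h3 hfull
  apply hne
  rw [hf0, ← eh, ← D.act_H0 hh]
  exact D.act_fix (D.H0_comm h hh) hx (D.cent_le hI hxz hyz (D.H0_comm h hh) hhy)

end St

end CfsgLib.Fi22Cent
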