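import Cfsg.Agent.Fi22Cent.TriBlocks

/-!
A good pair of the first class in the reducible case: the pairs meet.
-/

set_option autoImplicit false
set_option maxRecDepth 100000
set_option maxHeartbeats 1000000
set_option linter.style.haveILetI false
set_option linter.unusedSectionVars false

open scoped Matrix

namespace CfsgLib.Fi22Cent

open CfsgLib CfsgLib.U62Cent Subgroup
open CfsgLib.FiLarge (F4 om)
open CfsgLib.Unitary (suMat suMat_mul suMat_one su_ext)

universe v

variable {G : Type*} [Group G] [Finite G] {V : Type v} [AddCommGroup V] [Module (ZMod 2) V]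
  {z a : G} {R : Rep V}

theorem g3_tau : g3 * tvp p0 = tvp p0 * g3 := by
  have h := tvp_conj p0_pt g3
  rw [g3_p0] at h
  exact mul_inv_eq_iff_eq_mul.1 h

theorem g3_cube : g3 ^ 3 = 1 := by
  rw [pow_succ, pow_two, g3, ← dE_add (by decide) (by decide), ← dE_add (by decide) (by decide),
    show (![0, 0, 1, 2] : Fin 4 → ZMod 3) + ![0, 0, 1, 2] + ![0, 0, 1, 2] = 0 by decide, dE_zero]

namespace St

variable (D : St z a R) {g : G} (hP : D.Good g) (hT : R.IsTri)

include hP hT

/-- The transvection case. -/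
theorem meet_tri_t (he : D.ph (g * z * g⁻¹) = tvp p0) : D.Meet g := by
  set y := g * a * g⁻¹ with hy
  set f := D.act y with hf
  set e := R.r (tvp p0) with hedef
  have hadd : ∀ v w : V, f (v + w) = f v + f w := D.act_add hP.y_comm
  have hfe : ∀ v, f (e v) = e (f v) := fun v => by rw [hedef, ← he]; exact hP.act_xy v
  have hee : ∀ v, e (e v) = v := fun v => by rw [hedef, ← R.r_mul, tvp_sq p0_pt, R.r_one]
  have hfB : ∀ v w, R.B (f v) (f w) = R.B v w := D.act_B hP.y_comm
  have hfq : ∀ v, R.q (f v) = R.q v := D.act_q hP.y_comm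
  have e56 : ∀ {b : V}, b ∈ R.X 5 → e b ∈ R.X 6 := fun hb => t_five hT hb
  have e65 : ∀ {b : V}, b ∈ R.X 6 → e b ∈ R.X 5 := fun hb => t_six hT hb
  have h56 : (5 : Fin 13) ≠ 6 := by decide
  have h45 : (4 : Fin 13) ≠ 5 := by decide
  have h46 : (4 : Fin 13) ≠ 6 := by decide
  have eC : ∀ {v : V}, R.bk 5 v = 0 → R.bk 6 v = 0 → e v = v := fun {v} h5 h6 => by
    rw [hedef, dec3 hT v, h5, h6, add_zero, add_zero, map_add, Rep.tri_fix hT _ _ (R.e0_mem v),
      t_fix4 hT (R.bk_mem 4 v)]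
  -- lifts of g3 commuting with y
  obtain ⟨h, hh, eh, hhy⟩ := hP.lift_y (d := g3) (by rw [he, g3_tau]) g3_cube fun v hv => by
    refine ⟨R.act L3 (R.bk 5 v) + R.bk 5 v, ?_⟩
    rw [he] at hv ⊢
    have h6 : R.bk 6 v = e (R.bk 5 v) := by
      have hdec := congrArg e (dec3 hT v)
      rw [map_add, map_add, map_add, hedef, hv, Rep.tri_fix hT _ _ (R.e0_mem v), t_fix4 hT (R.bk_mem 4 v),
        ← hedef] at hdec
      have := congrArg (R.bk 6) hdec
      rwa [map_add, map_add, map_add, R.bk_X0 (R.e0_mem v), R.bk_other h46 (R.bk_mem 4 v),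
        R.bk_self (e56 (R.bk_mem 5 v)), R.bk_other h56 (e65 (R.bk_mem 6 v)), zero_add, zero_add,
        add_zero] at this
    have hc : R.act L3 (e (R.bk 5 v)) = e (R.act L3 (R.bk 5 v)) := by
      rw [← r_L3, ← r_L3, hedef, ← R.r_mul, g3_tau, R.r_mul]
    rw [r_L3]
    conv_lhs => rw [dec3 hT v]
    rw [map_add, map_add, map_add, R.e0_mem v L3, R.act_X_zero (R.bk_mem 4 v) pair_L3.1, h6, hc, map_add]
    calc R.e0 v + (R.bk 4 v + R.act L3 (R.bk 5 v) + e (R.act L3 (R.bk 5 v))) +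
          (R.e0 v + (R.bk 4 v + R.bk 5 v + e (R.bk 5 v)))
        = (R.e0 v + R.e0 v) + (R.bk 4 v + R.bk 4 v) +
          (e (R.act L3 (R.bk 5 v)) + e (R.bk 5 v) + (R.act L3 (R.bk 5 v) + R.bk 5 v)) := by abel
      _ = _ := by rw [two_self, two_self, zero_add, zero_add]
  have hfg : ∀ v, f (R.act L3 v) = R.act L3 (f v) := fun v => by
    have := D.act_commute hP.y_comm (D.H0_comm h hh) hhy.symm v
    rwa [D.act_H0 hh, D.act_H0 hh, eh, r_L3, r_L3] at this
  have hrot : ∀ {b : V}, b ∈ R.X 5 → R.act L3 b = R.rot 5 b := fun hb => R.act_X_one hb pair_L3.2.1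
  have hrot6 : ∀ {b : V}, b ∈ R.X 6 → R.act L3 b = R.rot 6 b := fun hb => R.act_X_one hb pair_L3.2.2
  -- the image of g3 + 1 is preserved
  have hU : ∀ {b : V}, b ∈ R.X 5 → ∃ c ∈ R.X 5, R.act L3 c + c = b := fun {b} hb =>
    ⟨R.rot 5 b, R.rot_mem hb, by
      rw [hrot (R.rot_mem hb), add_comm]
      exact (eq_of_sum_zero (by rw [← add_assoc]; exact R.orb_sum hb)).symm⟩
  have hfU : ∀ {b : V}, b ∈ R.X 5 → f b = R.bk 5 (f b) + R.bk 6 (f b) := fun {b} hb => by
    obtain ⟨c, hc, e1⟩ := hU hb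
    have e2 : f b = R.act L3 (f c) + f c := by rw [← e1, hadd, hfg]
    have h0 : R.e0 (f b) = 0 := by
      rw [e2, map_add, ← r_L3, Rep.e0_r hT, two_self]
    have h4 : R.bk 4 (f b) = 0 := by
      rw [e2, map_add, bk_act, R.act_X_zero (R.bk_mem 4 _) pair_L3.1, two_self]
    conv_lhs => rw [dec3 hT (f b), h0, h4, zero_add, zero_add]
  -- the images
  have hSW : ∀ {c : V}, c ∈ R.X 5 → D.InS (g * z * g⁻¹) (e c + c) := fun {c} hc => by
    have := D.inS_image hP.x_comm hP.x_sq c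
    rw [D.act_H0 hP.x_mem, he, ← hedef] at this
    refine this ?_
    rw [R.q_add, hedef, R.inv, ← hedef, R.blk_orth (Ne.symm h56) (e56 hc) hc, two_self, zero_add]
  have hFW : ∀ {c : V}, c ∈ R.X 5 → f (e c + c) = e c + c := fun hc => hP.inS_fix_y (hSW hc)
  have two : ∀ {b : V}, b ∈ R.X 5 → f b = b ∨ f b = e b := fun {b} hb => by
    by_cases hb0 : b = 0
    · left; rw [hb0, hf, D.act_zero hP.y_comm]
    set p := R.bk 5 (f b)
    set r := e (R.bk 6 (f b))
    have hp : p ∈ R.X 5 := R.bk_mem 5 _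
    have hr : r ∈ R.X 5 := e65 (R.bk_mem 6 _)
    have efb : f b = p + e r := by
      show f b = R.bk 5 (f b) + e (e (R.bk 6 (f b)))
      rw [hee, ← hfU hb]
    have hsum : p + r + b = 0 := block_nondeg R (add_mem (add_mem hp hr) hb) fun w hw => by
      have h1 := hfB b (e w + w)
      rw [hFW hw, efb] at h1
      simp only [R.B_add_left, R.B_add_right, R.blk_orth h56 hb (e56 hw), R.blk_orth h56 hp (e56 hw),
        R.blk_orth (Ne.symm h56) (e56 hr) hw, zero_add, add_zero] at h1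
      rw [hedef, R.B_inv] at h1
      rw [R.B_add_left, R.B_add_left, h1]
      exact (by decide : ∀ c : ZMod 2, c + c = 0) _
    have hq := hfq b
    rw [efb, R.q_add, R.blk_orth h56 hp (e56 hr), add_zero, hedef, R.inv,
      R.q_block (Rep.tri_card4 hT).2.1 hb hb0] at hq
    have hpr : p + r = b := eq_of_sum_zero hsum
    by_cases hp0 : p = 0
    · right; rw [efb, hp0, zero_add, ← hpr, hp0, zero_add]
    · left
      by_cases hr0 : r = 0
      · rw [efb, hr0, map_zero, add_zero, ← hpr, hr0, add_zero]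
      · rw [R.q_block (Rep.tri_card4 hT).2.1 hp hp0, R.q_block (Rep.tri_card4 hT).2.1 hr hr0] at hq
        exact absurd hq (by decide)
  -- the action on the moved part is that of x
  have hU5 : ∀ {b : V}, b ∈ R.X 5 → f b = e b := by
    by_contra hno
    push Not at hno
    obtain ⟨b, hb, hne⟩ := hno
    have hb1 : f b = b := (two hb).resolve_right hne
    have hb0 : b ≠ 0 := fun q => hne (by rw [q, map_zero, hf, D.act_zero hP.y_comm])
    have hall : ∀ {c : V}, c ∈ R.X 5 → f c = c := fun {c} hc => by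
      by_cases hc0 : c = 0
      · rw [hc0, hf, D.act_zero hP.y_comm]
      refine (two hc).resolve_right fun q => ?_
      rcases two (add_mem hb hc) with r | r
      · rw [hadd, hb1, q, add_right_inj] at r
        exact hc0 (X_disjoint R h56 hc (r ▸ e56 hc))
      · rw [hadd, hb1, q, map_add, add_left_inj] at r
        exact hb0 (X_disjoint R h56 hb (r.symm ▸ e56 hb))
    obtain ⟨c, hc, e1⟩ := hU hb
    have hS := hP.inS_move hh hhy (hall hc)
    rw [eh, r_L3, e1] at hS
    have := hP.inS_fix_x hS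
    rw [he, ← hedef] at this
    exact hb0 (X_disjoint R h56 hb (this ▸ e56 hb))
  have hU6 : ∀ {b : V}, b ∈ R.X 6 → f b = e b := fun {b} hb => by
    rw [← hee b, hfe, hU5 (e65 hb)]
  -- the rest is fixed
  obtain ⟨k, hk, ek⟩ := D.ph_surj d1
  have hInF : ∀ {v : V}, R.bk 5 v = 0 → R.bk 6 v = 0 → D.InF (g * z * g⁻¹) v := fun {v} h5 h6 =>
    D.inF_all hP.x_mem hP.x_sq hk (by rw [ek, he, d1_tau]) (by rw [ek, d1_cube])
      (fun w _ hw => ⟨w, 0, fun u => Rep.tri_fix hT u w (Rep.d0_fix hT (by rw [ek] at hw; exact hw)),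
        by rw [map_zero, add_zero, add_zero]⟩)
      (by rw [D.act_H0 hP.x_mem, he, ← hedef]; exact eC h5 h6)
  have hfC : ∀ {v : V}, R.bk 5 v = 0 → R.bk 6 v = 0 → R.bk 5 (f v) = 0 ∧ R.bk 6 (f v) = 0 := fun {v} h5 h6 => by
    have hv : R.act L3 v = v := by
      rw [dec3 hT v, h5, h6, add_zero, add_zero, map_add, R.e0_mem v L3, R.act_X_zero (R.bk_mem 4 v) pair_L3.1]
    have hfv : R.act L3 (f v) = f v := by rw [← hfg, hv]
    constructor
    · refine R.rot_ne (R.bk_mem 5 _) ?_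
      rw [← hrot (R.bk_mem 5 _), ← bk_act, hfv]
    · refine R.rot_ne (R.bk_mem 6 _) ?_
      rw [← hrot6 (R.bk_mem 6 _), ← bk_act, hfv]
  have hC : ∀ {v : V}, R.bk 5 v = 0 → R.bk 6 v = 0 → f v = v := fun {v} h5 h6 => by
    by_contra hne
    set w := f v + v with hw
    have hw0 : w ≠ 0 := fun q => hne (eq_of_sum_zero q)
    obtain ⟨k5, k6⟩ := hfC h5 h6
    have w5 : R.bk 5 w = 0 := by rw [hw, map_add, k5, h5, add_zero]
    have w6 : R.bk 6 w = 0 := by rw [hw, map_add, k6, h6, add_zero]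
    have hvS : ¬ D.InS (g * z * g⁻¹) v := fun q => hne (hP.inS_fix_y q)
    have hfw : f w = w := by rw [hw, hadd, hf, hP.act_y_invol, add_comm]
    have hsame : ∀ {u : V}, R.bk 5 u = 0 → R.bk 6 u = 0 → f u ≠ u → f (u + v) = u + v := fun {u} u5 u6 hu =>
      hP.inS_fix_y (D.inS_of_two (hInF u5 u6) (hInF h5 h6) (fun q => hu (hP.inS_fix_y q)) hvS)
    have hperp : ∀ {u : V}, R.bk 5 u = 0 → R.bk 6 u = 0 → f u = u → R.B w u = 0 := fun {u} _ _ hu => by
      rw [hw, R.B_add_left]
      conv_lhs => arg 1; rw [← hu, hfB]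
      exact (by decide : ∀ c : ZMod 2, c + c = 0) _
    have hqw : R.q w = R.B v w := by
      have h1 := hfq v
      rw [show f v = v + w by rw [hw, add_comm (f v), ← add_assoc, two_self, zero_add], R.q_add,
        add_assoc] at h1
      have h2 := add_eq_left.1 h1
      exact (by decide : ∀ b c : ZMod 2, b + c = 0 → b = c) _ _ h2
    have hB : R.B v w = 1 := by
      refine ((by decide : ∀ b : ZMod 2, b = 0 ∨ b = 1) _).resolve_left fun h0 => hw0 (R.nondeg w fun u => ?_)
      show R.B w u = 0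
      have hw4 : w = R.e0 w + R.bk 4 w := by conv_lhs => rw [dec3 hT w, w5, w6, add_zero, add_zero]
      have hu : u = (R.e0 u + R.bk 4 u) + (R.bk 5 u + R.bk 6 u) := by
        conv_lhs => rw [dec3 hT u]
        abel
      have h56' : R.B w (R.bk 5 u + R.bk 6 u) = 0 := by
        rw [hw4]
        simp only [R.B_add_left, R.B_add_right, R.blk_orth0 (R.e0_mem w) (R.bk_mem 5 u),
          R.blk_orth0 (R.e0_mem w) (R.bk_mem 6 u), R.blk_orth h45 (R.bk_mem 4 w) (R.bk_mem 5 u),
          R.blk_orth h46 (R.bk_mem 4 w) (R.bk_mem 6 u), add_zero]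
      rw [hu, R.B_add_right, h56', add_zero]
      set u' := R.e0 u + R.bk 4 u
      have u5 : R.bk 5 u' = 0 := by
        rw [map_add, R.bk_X0 (R.e0_mem u), R.bk_other h45 (R.bk_mem 4 u), add_zero]
      have u6 : R.bk 6 u' = 0 := by
        rw [map_add, R.bk_X0 (R.e0_mem u), R.bk_other h46 (R.bk_mem 4 u), add_zero]
      by_cases hu' : f u' = u'
      · exact hperp u5 u6 hu'
      · have h1 := hperp (u := u' + v) (by rw [map_add, u5, h5, add_zero]) (by rw [map_add, u6, h6, add_zero])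
          (hsame u5 u6 hu')
        rwa [R.B_add_right, R.B_comm w v, h0, add_zero] at h1
    have hwS : D.InS (g * z * g⁻¹) w := by
      by_contra q
      have h1 := hP.inS_fix_y (D.inS_of_two (hInF w5 w6) (hInF h5 h6) q hvS)
      rw [← hf, hadd, hfw, add_right_inj] at h1
      exact hne h1
    refine hP.not_inS_image_y (w := v) ?_ hwS
    rw [← hf, ← hw, hqw, hB]
    exact one_ne_zero
  refine hP.meet_of_act (Or.inr fun v => ?_)
  rw [← hf, he, ← hedef]
  set u := R.e0 v + R.bk 4 v with hu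
  have u5 : R.bk 5 u = 0 := by rw [hu, map_add, R.bk_X0 (R.e0_mem v), R.bk_other h45 (R.bk_mem 4 v), add_zero]
  have u6 : R.bk 6 u = 0 := by rw [hu, map_add, R.bk_X0 (R.e0_mem v), R.bk_other h46 (R.bk_mem 4 v), add_zero]
  have hv : v = u + R.bk 5 v + R.bk 6 v := by
    conv_lhs => rw [dec3 hT v]
    rw [hu]; abel
  rw [hv, hadd, hadd, map_add, map_add, hC u5 u6, eC u5 u6, hU5 (R.bk_mem 5 v), hU6 (R.bk_mem 6 v)]

end St

end CfsgLib.Fi22Cent
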