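import Cfsg.Agent.Fi22Cent.QuotCoord
import Cfsg.Agent.Fi22Cent.TriT
import Cfsg.Agent.Fi22Cent.Natural
import Cfsg.Agent.U62Cent.SigmaOut

/-!
When the centraliser of `z` fixes `a`, the centre is isolated in the centraliser of `a` or of `az`.
-/

set_option autoImplicit false
set_option maxRecDepth 100000
set_option maxHeartbeats 1000000
set_option linter.style.haveILetI false
set_option linter.unusedSectionVars false

open scoped Matrix

namespace CfsgLib.Fi22Cent

open CfsgLib CfsgLib.U62Cent Subgroup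
open CfsgLib.FiLarge (F4 om)
open CfsgLib.Unitary (suMat suMat_mul suMat_one su_ext)

universe v

theorem g3_fix : ∀ v : V4, (![v 0, v 1, om * v 2, om * om * v 3] : V4) = v → h4 v p0 = 0 → v = v 0 • p0 := by
  decide +kernel

theorem p0_image (c : F4) :
    suMat (tvp p0) *ᵥ (c • (![1, 0, 0, 0] : V4)) + c • (![1, 0, 0, 0] : V4) = c • p0 := by
  rw [tvp_apply p0_pt, (smul_p0_facts c).2, add_comm (c • (![1, 0, 0, 0] : V4)) (c • p0), add_assoc, v4_self,
    add_zero]

namespace St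

section Coord

variable {G : Type*} [Group G] [Finite G] {V : Type v} [AddCommGroup V] [Module (ZMod 2) V]
  {z a : G} {R : Rep V} (D : St z a R)
variable {Q : Type*} [Group Q] [Finite Q] {π : centralizer ({a} : Set G) →* Q}
  (hker : ∀ c, π c = 1 ↔ (c : G) = 1 ∨ (c : G) = a) (hπ : Function.Surjective π)
  {M : Subgroup Q} (hM : ∀ c : centralizer ({a} : Set G), Commute (c : G) z → (π c ∈ M ↔ (c : G) ∈ D.H0))

include hker hπ hM

/-- The coordinates in the subgroup of index two. -/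
theorem quot_cd : ∃ (hzM : π ⟨z, D.z_cent⟩ ∈ M) (Dm : Cd (⟨π ⟨z, D.z_cent⟩, hzM⟩ : M) R),
    (∀ (c : centralizer ({a} : Set G)) (hc : π c ∈ M), (c : G) ∈ D.H0 → Dm.ph ⟨π c, hc⟩ = D.ph c) ∧
      ∀ (c : centralizer ({a} : Set G)) (hc : π c ∈ M), (c : G) ∈ D.J →
        (⟨π c, hc⟩ : M) ∈ Dm.J ∧ Dm.pr ⟨π c, hc⟩ = D.pr c := by
  classical
  have hzM : π ⟨z, D.z_cent⟩ ∈ M := (hM _ (Commute.refl z)).2 D.z_mem_H0
  let σ : Q → centralizer ({a} : Set G) := fun q => (hπ q).choose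
  have hσ : ∀ q, π (σ q) = q := fun q => (hπ q).choose_spec
  have hσc : ∀ c, ((σ (π c) : centralizer ({a} : Set G)) : G) = c ∨
      ((σ (π c) : centralizer ({a} : Set G)) : G) = c * a := fun c => D.pre_eq hker (hσ _).symm
  let ph : M → U4 := fun m => D.ph (σ m)
  have hph : ∀ c (hc : π c ∈ M), (c : G) ∈ D.H0 → ph ⟨π c, hc⟩ = D.ph c := by
    intro c hc hH
    show D.ph (σ (π c) : G) = _
    rcases hσc c with e | e <;> rw [e]
    rw [D.ph_mul _ hH _ D.a_mem_H0, (D.ph_J a D.a_mem_H0).2 D.a_mem, mul_one]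
  let pr : M → V := fun m => D.pr (σ m)
  have hpr : ∀ c (hc : π c ∈ M), (c : G) ∈ D.J → pr ⟨π c, hc⟩ = D.pr c := by
    intro c hc hJ
    show D.pr (σ (π c) : G) = _
    rcases hσc c with e | e <;> rw [e]
    rw [D.pr_mul _ hJ _ D.a_mem, D.pr_a, add_zero]
  have back : ∀ m : M, Commute m ⟨π ⟨z, D.z_cent⟩, hzM⟩ →
      ∃ (c : centralizer ({a} : Set G)) (hc : π c ∈ M), (c : G) ∈ D.H0 ∧ (⟨π c, hc⟩ : M) = m := by
    rintro ⟨q, hq⟩ hm
    obtain ⟨c, rfl⟩ := hπ q
    exact ⟨c, hq, (hM c (D.comm_back hker (congrArg Subtype.val hm.eq))).1 hq, rfl⟩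
  let K : Subgroup M := ((D.J.subgroupOf (centralizer ({a} : Set G))).map π).subgroupOf M
  have memK : ∀ m : M, m ∈ K →
      ∃ (c : centralizer ({a} : Set G)) (hc : π c ∈ M), (c : G) ∈ D.J ∧ (⟨π c, hc⟩ : M) = m := by
    rintro ⟨q, hq⟩ hm
    obtain ⟨c, hc, rfl⟩ := mem_subgroupOf.1 hm
    exact ⟨c, hq, hc, rfl⟩
  refine ⟨hzM, {
    z_sq := Subtype.ext (by
      show π _ * π _ = 1
      rw [← map_mul]
      exact (hker _).2 (Or.inl D.z_sq))
    z_ne := fun e => D.z_ne_quot hker (congrArg Subtype.val e)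
    J := K
    J_comm := fun m hm => by
      obtain ⟨c, hc, hJ, rfl⟩ := memK m hm
      refine Subtype.ext ?_
      show π c * π _ = π _ * π c
      rw [← map_mul, ← map_mul]
      exact congrArg π (Subtype.ext (D.J_comm _ hJ).eq)
    z_mem := mem_subgroupOf.2 ⟨_, D.z_mem, rfl⟩
    ph := ph
    ph_mul := fun x y hx hy => by
      obtain ⟨c, hc, hcH, rfl⟩ := back x hx
      obtain ⟨d, hd, hdH, rfl⟩ := back y hy
      have hcd : π (c * d) ∈ M := by rw [map_mul]; exact mul_mem hc hd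
      rw [show (⟨π c, hc⟩ * ⟨π d, hd⟩ : M) = ⟨π (c * d), hcd⟩ from Subtype.ext (map_mul π c d).symm,
        hph c hc hcH, hph d hd hdH, hph _ hcd (mul_mem hcH hdH)]
      exact D.ph_mul _ hcH _ hdH
    ph_J := fun x hx => by
      obtain ⟨c, hc, hcH, rfl⟩ := back x hx
      rw [hph c hc hcH, D.ph_J _ hcH]
      constructor
      · exact fun h => mem_subgroupOf.2 ⟨c, h, rfl⟩
      · intro h
        obtain ⟨d, hd, e⟩ := mem_subgroupOf.1 h
        rcases D.pre_eq hker e with q | q <;> rw [q]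
        exacts [hd, mul_mem hd D.a_mem]
    ph_surj := fun u => by
      obtain ⟨k, hk, rfl⟩ := D.ph_surj u
      let c : centralizer ({a} : Set G) := ⟨k, mem_centralizer_singleton_iff.2 (D.H0_comm_a k hk).eq⟩
      have hc : π c ∈ M := (hM c (D.H0_comm k hk)).2 hk
      refine ⟨⟨π c, hc⟩, Subtype.ext ?_, hph c hc hk⟩
      show π c * π _ = π _ * π c
      rw [← map_mul, ← map_mul]
      exact congrArg π (Subtype.ext (D.H0_comm k hk).eq)
    pr := pr
    pr_mul := fun x hx y hy => by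
      obtain ⟨c, hc, hcJ, rfl⟩ := memK x hx
      obtain ⟨d, hd, hdJ, rfl⟩ := memK y hy
      have hcd : π (c * d) ∈ M := by rw [map_mul]; exact mul_mem hc hd
      rw [show (⟨π c, hc⟩ * ⟨π d, hd⟩ : M) = ⟨π (c * d), hcd⟩ from Subtype.ext (map_mul π c d).symm,
        hpr c hc hcJ, hpr d hd hdJ, hpr _ hcd (mul_mem hcJ hdJ)]
      exact D.pr_mul _ hcJ _ hdJ
    pr_zero := fun x hx => by
      obtain ⟨c, hc, hcJ, rfl⟩ := memK x hx
      rw [hpr c hc hcJ, D.pr_zero _ hcJ]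
      constructor
      · rintro (e | e | e | e)
        · exact Or.inl (Subtype.ext ((hker c).2 (Or.inl e)))
        · exact Or.inr (Subtype.ext (congrArg π (Subtype.ext e)))
        · exact Or.inl (Subtype.ext ((hker c).2 (Or.inr e)))
        · refine Or.inr (Subtype.ext ?_)
          show π c = π _
          have ha : a ∈ centralizer ({a} : Set G) := D.J_le_cent D.a_mem
          rw [show c = ⟨a, ha⟩ * ⟨z, D.z_cent⟩ from Subtype.ext e, map_mul, (hker ⟨a, ha⟩).2 (Or.inr rfl), one_mul]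
      · rintro (e | e)
        · rcases (hker c).1 (congrArg Subtype.val e) with q | q
          exacts [Or.inl q, Or.inr (Or.inr (Or.inl q))]
        · rcases D.pre_eq hker (c := (⟨z, D.z_cent⟩ : centralizer ({a} : Set G))) (d := c)
            (congrArg Subtype.val e).symm with q | q
          · exact Or.inr (Or.inl q)
          · exact Or.inr (Or.inr (Or.inr (q.trans D.a_comm_z.eq.symm)))
    pr_surj := fun w => by
      obtain ⟨j, hj, rfl⟩ := D.pr_surj w
      have hc : π ⟨j, D.J_le_cent hj⟩ ∈ M := (hM _ (D.J_comm j hj)).2 (D.J_le hj)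
      exact ⟨⟨_, hc⟩, mem_subgroupOf.2 ⟨_, hj, rfl⟩, hpr _ hc hj⟩
    sq := fun x hx => by
      obtain ⟨c, hc, hcJ, rfl⟩ := memK x hx
      rw [hpr c hc hcJ]
      have e := D.sq _ hcJ
      refine Subtype.ext ?_
      split_ifs with hq
      · rw [if_pos hq] at e
        show π c * π c = 1
        rw [← map_mul]
        exact (hker _).2 (Or.inl e)
      · rw [if_neg hq] at e
        show π c * π c = π _
        rw [← map_mul]
        exact congrArg π (Subtype.ext e)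
    comm := fun x hx y hy => by
      obtain ⟨c, hc, hcJ, rfl⟩ := memK x hx
      obtain ⟨d, hd, hdJ, rfl⟩ := memK y hy
      rw [hpr c hc hcJ, hpr d hd hdJ]
      have e := D.comm _ hcJ _ hdJ
      refine Subtype.ext ?_
      split_ifs with hq
      · rw [if_pos hq] at e
        show π c * π d = π d * π c
        rw [← map_mul, ← map_mul]
        exact congrArg π (Subtype.ext e)
      · rw [if_neg hq] at e
        show π c * π d = π d * π c * π _
        rw [← map_mul, ← map_mul, ← map_mul]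
        exact congrArg π (Subtype.ext e)
    pr_act := fun x hx y hy => by
      obtain ⟨c, hc, hcH, rfl⟩ := back x hx
      obtain ⟨d, hd, hdJ, rfl⟩ := memK y hy
      have hcd : π (c * d * c⁻¹) ∈ M := by
        rw [map_mul, map_mul, map_inv]; exact mul_mem (mul_mem hc hd) (inv_mem hc)
      rw [show (⟨π c, hc⟩ * ⟨π d, hd⟩ * ⟨π c, hc⟩⁻¹ : M) = ⟨π (c * d * c⁻¹), hcd⟩ from
          Subtype.ext (by simp [map_mul, map_inv]), hph c hc hcH, hpr d hd hdJ,
        hpr _ hcd (D.J_norm _ (D.H0_comm _ hcH) _ hdJ)]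
      exact D.pr_act _ hcH _ hdJ },
    hph, fun c hc hJ => ⟨mem_subgroupOf.2 ⟨c, hJ, rfl⟩, hpr c hc hJ⟩⟩

end Coord

variable {G : Type*} [Group G] [Finite G] {z a : G} (D : St z a R4)

include D

/-- Over the transvection of the base point the orthogonal hyperplane is moved at most by the centre. -/
theorem inF_hyper {x : G} (hx : x ∈ D.H0) (hx2 : x * x = 1) (he : D.ph x = tvp p0) {v : V4} (hv : h4 v p0 = 0) :
    D.InF x v := by
  obtain ⟨h, hh, eh⟩ := D.ph_surj g3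
  refine D.inF_all hx hx2 hh (by rw [eh, he, g3_tau]) (by rw [eh, g3_cube]) (fun w hw1 hw2 => ?_) ?_
  · rw [he, R4_r, tvp_apply p0_pt, add_eq_left, smul_eq_zero, or_iff_left p0_pt.1] at hw1
    rw [eh, R4_r, g3_apply] at hw2
    refine ⟨0, w 0 • (![1, 0, 0, 0] : V4), fun u => map_zero _, ?_⟩
    rw [zero_add, he, R4_r, p0_image]
    exact g3_fix w hw2 hw1
  · rw [D.act_H0 hx, he, R4_r, tvp_apply p0_pt, hv, zero_smul, add_zero]

variable {Q : Type*} [Group Q] [Finite Q] {π : centralizer ({a} : Set G) →* Q}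
  (hker : ∀ c, π c = 1 ↔ (c : G) = 1 ∨ (c : G) = a) (hπ : Function.Surjective π)
  (hC : ∀ h, Commute h z → Commute h a)
  {M : Subgroup Q} (hMn : M.Normal) (hMi : M.index = 2)
  (hM : ∀ c : centralizer ({a} : Set G), Commute (c : G) z → (π c ∈ M ↔ (c : G) ∈ D.H0))

include hker hπ hC hMn hMi hM

/-- A member in the centraliser of `a` lies over a transvection and centralises its hyperplane. -/
theorem member_facts {g : G} (hga : Commute g a) (hxz : Commute (g * z * g⁻¹) z) (hne : g * z * g⁻¹ ≠ z) :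
    g * z * g⁻¹ ∈ D.H0 ∧ (∃ p, IsPt4 p ∧ D.ph (g * z * g⁻¹) = tvp p) ∧
      (D.ph (g * z * g⁻¹) = tvp p0 → ∀ v, h4 v p0 = 0 → D.InS (g * z * g⁻¹) v) := by
  classical
  obtain ⟨hzM, Dm, hph, hJ⟩ := D.quot_cd hker hπ hM
  let c : centralizer ({a} : Set G) := ⟨g, mem_centralizer_singleton_iff.2 hga.eq⟩
  let zc : centralizer ({a} : Set G) := ⟨z, D.z_cent⟩
  let xc : centralizer ({a} : Set G) := c * zc * c⁻¹
  have hxM : π xc ∈ M := by
    show π (c * zc * c⁻¹) ∈ M
    rw [map_mul, map_mul, map_inv]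
    exact hMn.conj_mem _ hzM _
  have hxH : g * z * g⁻¹ ∈ D.H0 := (hM xc hxz).1 hxM
  set u : M := ⟨π xc, hxM⟩ with hudef
  have hcu : Commute u ⟨π ⟨z, D.z_cent⟩, hzM⟩ := by
    refine Subtype.ext ?_
    show π xc * π zc = π zc * π xc
    rw [← map_mul, ← map_mul]
    exact congrArg π (Subtype.ext hxz.eq)
  have hnu : u ≠ ⟨π ⟨z, D.z_cent⟩, hzM⟩ := fun e => hne (D.eq_z hker (c := c) (by
    have h1 : π xc = π zc := congrArg Subtype.val e
    simpa [xc, map_mul] using h1))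
  have hmem : Mem (⟨π ⟨z, D.z_cent⟩, hzM⟩ : M) u := by
    obtain ⟨h, hh, hn⟩ := D.exists_out
    let d : centralizer ({a} : Set G) := ⟨h, mem_centralizer_singleton_iff.2 (hC h hh).eq⟩
    have hdM : π d ∉ M := fun e => hn ((hM d hh).1 e)
    by_cases hcM : π c ∈ M
    · exact ⟨⟨π c, hcM⟩, Subtype.ext (by simp [u, xc, zc, map_mul])⟩
    · have h1 : π (c * d) ∈ M := by
        rw [map_mul]
        exact (Subgroup.mul_mem_iff_of_index_two hMi).2 (iff_of_false hcM hdM)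
      refine ⟨⟨π (c * d), h1⟩, Subtype.ext ?_⟩
      show π (c * d) * π zc * (π (c * d))⁻¹ = π (c * zc * c⁻¹)
      rw [← map_inv, ← map_mul, ← map_mul]
      refine congrArg π (Subtype.ext ?_)
      show g * h * z * (g * h)⁻¹ = g * z * g⁻¹
      rw [show g * h * z * (g * h)⁻¹ = g * (h * z * h⁻¹) * g⁻¹ by group, D.conj_z hh]
  have hphu : Dm.ph u = D.ph (g * z * g⁻¹) := hph xc hxM hxH
  obtain ⟨p, hp, hup⟩ := Dm.all_T hmem hcu hnu
  refine ⟨hxH, ⟨p, hp, hphu ▸ hup⟩, fun he v hv => ?_⟩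
  obtain ⟨-, -, -, hall⟩ := Dm.cls_T hmem hcu hnu (hphu.trans he)
  set x := g * z * g⁻¹ with hxdef
  have hx2 : x * x = 1 := by rw [hxdef, conj_mul, D.z_sq]; group
  obtain ⟨j, hj, hjv, hjx⟩ := D.inF_hyper hxH hx2 he hv
  refine ⟨j, hj, hjv, (mul_inv_eq_iff_eq_mul.1 ?_ : x * j = j * x).symm⟩
  rcases hjx with e | e
  · exact e
  · exfalso
    let jc : centralizer ({a} : Set G) := ⟨j, D.J_le_cent hj⟩
    have hjM : π jc ∈ M := (hM jc (D.J_comm j hj)).2 (D.J_le hj)
    obtain ⟨hjJ, hjp⟩ := hJ jc hjM hj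
    have h1 : π jc * π xc = π xc * π jc :=
      congrArg Subtype.val (hall ⟨π jc, hjM⟩ hjJ (by rw [hjp]; exact hjv.symm ▸ hv)).eq
    rcases D.pre_eq hker (c := jc) (d := xc * jc * xc⁻¹) (by
        rw [map_mul, map_mul, map_inv, ← h1, mul_inv_cancel_right]) with q | q
    · have q' : x * j * x⁻¹ = j := q
      rw [e] at q'
      exact D.z_ne (mul_eq_left.1 q')
    · have q' : x * j * x⁻¹ = j * a := q
      rw [e] at q'
      exact D.a_ne_z (mul_left_cancel q').symm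

/-- Without isolation some member lies over the base transvection and centralises its hyperplane. -/
theorem exists_over (hI : ¬ D.Iso) : ∃ g, Commute g a ∧ g * z * g⁻¹ ∈ D.H0 ∧ D.ph (g * z * g⁻¹) = tvp p0 ∧
    ∀ v, h4 v p0 = 0 → D.InS (g * z * g⁻¹) v := by
  simp only [Iso, not_forall] at hI
  obtain ⟨g, hga, hxz, hne⟩ := hI
  obtain ⟨hxH, ⟨p, hp, hxp⟩, -⟩ := D.member_facts hker hπ hC hMn hMi hM hga hxz hne
  obtain ⟨u, hu⟩ := to_p0 hp
  obtain ⟨k, hk, rfl⟩ := D.ph_surj u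
  have e : k * g * z * (k * g)⁻¹ = k * (g * z * g⁻¹) * k⁻¹ := by group
  have hx' : k * g * z * (k * g)⁻¹ ∈ D.H0 := e ▸ mul_mem (mul_mem hk hxH) (inv_mem hk)
  have he : D.ph (k * g * z * (k * g)⁻¹) = tvp p0 := by
    rw [e, D.ph_mul _ (mul_mem hk hxH) _ (inv_mem hk), D.ph_mul _ hk _ hxH, D.ph_inv hk, hxp, tvp_conj hp, hu]
  have hxz' : Commute (k * g * z * (k * g)⁻¹) z := D.H0_comm _ hx'
  have hne' : k * g * z * (k * g)⁻¹ ≠ z := fun q => by
    rw [q, (D.ph_J z D.z_mem_H0).2 D.z_mem] at he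
    exact tvp_ne_one p0_pt he.symm
  have hkga : Commute (k * g) a := (D.H0_comm_a k hk).mul_left hga
  obtain ⟨-, -, h3⟩ := D.member_facts hker hπ hC hMn hMi hM hkga hxz' hne'
  exact ⟨k * g, hkga, hx', he, h3 he⟩

end St

namespace St

variable {G : Type*} [Group G] [Finite G] {V : Type v} [AddCommGroup V] [Module (ZMod 2) V]
  {z a : G} {R : Rep V}

/-- The quotient of the centraliser of `a`. -/
theorem over_of_not_iso (D : St z a R) (hC : ∀ h, Commute h z → Commute h a) (hI : ¬ D.Iso) :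
    R.IsNat ∧ ∀ D' : St z a R4, D'.H0 = D.H0 → ∃ g, Commute g a ∧ g * z * g⁻¹ ∈ D'.H0 ∧
      D'.ph (g * z * g⁻¹) = tvp p0 ∧ ∀ v, h4 v p0 = 0 → D'.InS (g * z * g⁻¹) v := by
  classical
  let C := centralizer ({a} : Set G)
  let ac : C := ⟨a, mem_centralizer_singleton_iff.2 rfl⟩
  haveI hn : (Subgroup.zpowers ac).Normal := ⟨fun n hn c => by
    obtain ⟨i, rfl⟩ := mem_zpowers_iff.1 hn
    have hc : Commute c ac := Subtype.ext (mem_centralizer_singleton_iff.1 c.2)
    rw [(hc.zpow_right i).eq, mul_inv_cancel_right]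
    exact zpow_mem (mem_zpowers ac) i⟩
  set π : C →* C ⧸ Subgroup.zpowers ac := QuotientGroup.mk' _ with hπdef
  have hker : ∀ c, π c = 1 ↔ (c : G) = 1 ∨ (c : G) = a := fun c => by
    rw [hπdef, QuotientGroup.mk'_apply, QuotientGroup.eq_one_iff, mem_zpowers_iff]
    constructor
    · rintro ⟨i, rfl⟩
      rcases Int.even_or_odd i with ⟨r, rfl⟩ | ⟨r, rfl⟩
      · left
        rw [Subgroup.coe_zpow, zpow_add, ← (Commute.refl a).mul_zpow, D.a_sq, one_zpow]
      · right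
        rw [Subgroup.coe_zpow, two_mul, zpow_add, zpow_add, zpow_one, ← (Commute.refl a).mul_zpow, D.a_sq, one_zpow,
          one_mul]
    · rintro (e | e)
      · exact ⟨0, Subtype.ext (by simpa using e.symm)⟩
      · exact ⟨1, Subtype.ext (by rw [zpow_one, e])⟩
  have hπ : Function.Surjective π := QuotientGroup.mk'_surjective _
  rcases R.shapes with hN | hT
  · refine ⟨hN, fun D' eH => ?_⟩
    obtain ⟨M, hMn, hMi, hM⟩ := D.exists_M hker hπ hC hN
    exact D'.exists_over hker hπ hC hMn hMi (fun c hc => by rw [eH]; exact hM c hc) hI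
  · exact absurd (D.iso_of_tri hker hπ hC hT) hI

/-- The centre is isolated in the centraliser of `a` or of `az`. -/
theorem not_both (D : St z a R) (hC : ¬D.Swap) (ha : ¬D.Iso) (haz : ¬D.other.Iso) : False := by
  have hCa : ∀ h, Commute h z → Commute h a := fun h hh => by
    by_contra hn
    exact hC ⟨h, hh, fun e => hn (mul_inv_eq_iff_eq_mul.1 e)⟩
  obtain ⟨hN, h1⟩ := D.over_of_not_iso hCa ha
  obtain ⟨-, h2⟩ := D.other.over_of_not_iso (fun h hh => (hCa h hh).mul_right hh) haz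
  obtain ⟨E, -, eH⟩ := D.exists_natural hN
  obtain ⟨g, hga, hx, he, hS⟩ := h1 E eH
  obtain ⟨g', hga', hx', he', hS'⟩ := h2 E.other eH
  change g' * z * g'⁻¹ ∈ E.H0 at hx'
  change E.ph (g' * z * g'⁻¹) = tvp p0 at he'
  set x := g * z * g⁻¹ with hxdef
  set x' := g' * z * g'⁻¹ with hx'def
  have hx2 : x * x = 1 := by rw [hxdef, conj_mul, E.z_sq]; group
  have hxz := E.H0_comm x hx
  have hiJ : x * x' ∈ E.J := (E.ph_J _ (mul_mem hx hx')).1 (by rw [E.ph_mul _ hx _ hx', he, he', tvp_sq p0_pt])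
  obtain ⟨c, hc⟩ := perp_hyper (x := E.pr (x * x')) fun w hw => by
    obtain ⟨j, hj, rfl, hjx⟩ := hS w hw
    obtain ⟨j', hj', ej', hjx'⟩ : E.InS x' (E.pr j) := hS' _ hw
    obtain ⟨d, hd, rfl⟩ := E.eq_of_pr hj' hj ej'
    exact (E.comm_iff hj hiJ).1 (hjx.mul_right (hjx'.mul_left (E.kk_H0 hd hx').symm))
  obtain ⟨k, hk, hkp⟩ := E.pr_surj (c • (![1, 0, 0, 0] : V4))
  obtain ⟨hw, hwp, -⟩ := E.image_elem hxz hx2 hk
  obtain ⟨e, hec, hee⟩ := E.eq_of_pr hw hiJ (by rw [hwp, E.act_H0 hx, he, hkp, R4_r, p0_image, hc])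
  -- `x'` is a conjugate of `x` times a central element of the radical
  set g1 := k * g with hg1def
  set x1 := g1 * z * g1⁻¹ with hx1def
  have e1 : x' = x1 * e := by
    calc x' = (x * x) * x' := by rw [hx2, one_mul]
      _ = x * (x * k * x⁻¹ * k⁻¹ * e) := by rw [mul_assoc, hee]
      _ = (x * x) * (k * x⁻¹ * k⁻¹) * e := by group
      _ = k * x * k⁻¹ * e := by rw [hx2, one_mul, inv_eq_of_mul_eq_one_right hx2]
      _ = x1 * e := by rw [hx1def, hg1def, hxdef]; group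
  have hg1a : Commute g1 a := (E.J_comm_a k hk).mul_left hga
  have hx1z : Commute x1 z := by
    rw [hx1def, hg1def, show k * g * z * (k * g)⁻¹ = k * x * k⁻¹ by rw [hxdef]; group]
    exact ((E.J_comm k hk).mul_left hxz).mul_left (E.J_comm k hk).inv_left
  rcases hec with hec | hec | hec | hec <;> rw [hec] at e1
  · rw [mul_one] at e1
    have h3 : Commute (g1⁻¹ * g') z := mul_inv_eq_iff_eq_mul.1 (by
      calc g1⁻¹ * g' * z * (g1⁻¹ * g')⁻¹ = g1⁻¹ * x' * g1 := by rw [hx'def]; group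
        _ = z := by rw [e1, hx1def]; group)
    have h4 : Commute g' a := by
      have := hg1a.mul_left (hCa _ h3)
      rwa [mul_inv_cancel_left] at this
    have h5 : Commute g' z := by
      have := h4.mul_right hga'
      rwa [← mul_assoc, E.a_sq, one_mul] at this
    rw [hx'def, h5.eq, mul_inv_cancel_right, (E.ph_J z E.z_mem_H0).2 E.z_mem] at he'
    exact tvp_ne_one p0_pt he'.symm
  · -- `a` is fused to `az`
    have h3 : (g1⁻¹ * g') * a * (g1⁻¹ * g')⁻¹ = a * z := by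
      calc g1⁻¹ * g' * a * (g1⁻¹ * g')⁻¹
          = g1⁻¹ * (g' * (a * z) * g'⁻¹ * (g' * z * g'⁻¹)⁻¹) * g1 := by group
        _ = g1⁻¹ * (a * z * (x1 * z)⁻¹) * g1 := by
            rw [hga'.eq, mul_inv_cancel_right, ← hx'def, e1]
        _ = g1⁻¹ * (a * x1⁻¹) * g1 := by rw [show a * z * (x1 * z)⁻¹ = a * x1⁻¹ by group]
        _ = (g1⁻¹ * a * g1) * z⁻¹ := by rw [hx1def]; group
        _ = a * z := by rw [E.z_inv, mul_assoc g1⁻¹ a g1, ← hg1a.eq, inv_mul_cancel_left]
    obtain ⟨h, hh, eh⟩ := E.fus h3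
    rw [(hCa h hh).eq, mul_inv_cancel_right] at eh
    exact E.az_ne_a eh.symm
  · have h3 : (g1⁻¹ * g') * z * (g1⁻¹ * g')⁻¹ = a * z := by
      calc g1⁻¹ * g' * z * (g1⁻¹ * g')⁻¹ = g1⁻¹ * x' * g1 := by rw [hx'def]; group
        _ = g1⁻¹ * g1 * z * (g1⁻¹ * a * g1) := by rw [e1, hx1def]; group
        _ = z * a := by rw [mul_assoc g1⁻¹ a g1, ← hg1a.eq, inv_mul_cancel_left, inv_mul_cancel, one_mul]
        _ = a * z := E.a_comm_z.eq.symm
    exact E.z_not_az _ h3
  · have h3 : (g1⁻¹ * g') * a * (g1⁻¹ * g')⁻¹ = z := by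
      calc g1⁻¹ * g' * a * (g1⁻¹ * g')⁻¹
          = g1⁻¹ * (g' * (a * z) * g'⁻¹ * (g' * z * g'⁻¹)⁻¹) * g1 := by group
        _ = g1⁻¹ * (a * z * (x1 * (a * z))⁻¹) * g1 := by rw [hga'.eq, mul_inv_cancel_right, ← hx'def, e1]
        _ = g1⁻¹ * x1⁻¹ * g1 := by rw [mul_inv_rev x1 (a * z), mul_inv_cancel_left]
        _ = z⁻¹ := by rw [hx1def]; group
        _ = z := E.z_inv
    refine E.z_not_a (g1⁻¹ * g')⁻¹ ?_
    conv_lhs => rw [← h3]
    group

end St

end CfsgLib.Fi22Cent
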