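import Cfsg.Agent.Fi22Cent.Endgame
import Cfsg.Agent.Fi22Cent.NotBoth

/-!
The centralisers of the shape two times an extraspecial group over the automorphism group of `PSp(4,3)`.
-/

set_option autoImplicit false
set_option maxRecDepth 100000
set_option maxHeartbeats 1000000
set_option linter.style.haveILetI false
set_option linter.unusedSectionVars false
set_option linter.unusedVariables false

namespace CfsgLib.Fi22Cent

open CfsgLib CfsgLib.U62Cent Subgroup

variable {G : Type*} [Group G] [Finite G]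

/-- An element of order two of the centre of the radical, as asked for in the second outcome. -/
theorem St.mid_conditions {V : Type*} [AddCommGroup V] [Module (ZMod 2) V] {R : Rep V} {z a : G}
    (D : St z a R)
    (hJ : D.J = (Cfsg.pCore 2 ↥(centralizer ({z} : Set G))).map (centralizer ({z} : Set G)).subtype) :
    orderOf a = 2 ∧ a ∉ zpowers z ∧
      ∃ h₁ : a ∈ centralizer ({z} : Set G),
        (⟨a, h₁⟩ : ↥(centralizer ({z} : Set G))) ∈ Cfsg.pCore 2 ↥(centralizer ({z} : Set G)) ∧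
          ∀ j ∈ Cfsg.pCore 2 ↥(centralizer ({z} : Set G)), j * ⟨a, h₁⟩ = ⟨a, h₁⟩ * j := by
  refine ⟨orderOf_eq_prime (by rw [pow_two]; exact D.a_sq) D.a_ne, fun h => ?_,
    mem_centralizer_singleton_iff.2 D.a_comm_z.eq, ?_, fun j hj => Subtype.ext ?_⟩
  · obtain ⟨i, hi⟩ := mem_zpowers_iff.1 h
    rcases Int.even_or_odd' i with ⟨k, rfl | rfl⟩
    · rw [zpow_mul, zpow_two, D.z_sq, one_zpow] at hi
      exact D.a_ne hi.symm
    · rw [zpow_add, zpow_mul, zpow_two, D.z_sq, one_zpow, one_mul, zpow_one] at hi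
      exact D.a_ne_z hi.symm
  · obtain ⟨y, hy, e'⟩ := (hJ ▸ D.a_mem : a ∈ (Cfsg.pCore 2 ↥(centralizer ({z} : Set G))).map
      (centralizer ({z} : Set G)).subtype)
    exact (show y = ⟨a, _⟩ from Subtype.ext e') ▸ hy
  · exact (D.J_comm_a (j : G) (hJ ▸ mem_map_of_mem _ hj)).eq

theorem main {G : Type*} [Group G] [Finite G] (z : G) (hz : orderOf z = 2)
    {F : Type*} [Field F] [Fintype F] (hF : Fintype.card F = 3) {K : Type*} [Field K] [Fintype K] (hK : Fintype.card K = 4)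
    (A E : Subgroup ↥(centralizer ({z} : Set G)))
    (hAE : Cfsg.IsInternalDirectProduct A E (Cfsg.pCore 2 ↥(centralizer ({z} : Set G)))) (hA : Nat.card ↥A = 2)
    (hE : Cfsg.IsExtraspecial 2 ↥E) (hEc : Nat.card ↥E = 2 ^ 9)
    (zc : ↥(centralizer ({z} : Set G))) (hzc : (zc : G) = z)
    (hJ' : ⁅Cfsg.pCore 2 ↥(centralizer ({z} : Set G)), Cfsg.pCore 2 ↥(centralizer ({z} : Set G))⁆ = zpowers zc)
    (hCJ : centralizer ((Cfsg.pCore 2 ↥(centralizer ({z} : Set G))) : Set ↥(centralizer ({z} : Set G))) ≤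
      Cfsg.pCore 2 ↥(centralizer ({z} : Set G)))
    [hJn : (Cfsg.pCore 2 ↥(centralizer ({z} : Set G))).Normal]
    (e : (↥(centralizer ({z} : Set G)) ⧸ Cfsg.pCore 2 ↥(centralizer ({z} : Set G))) ≃* MulAut (Cfsg.PSp 2 F)) :
    centralizer ({z} : Set G) ⊔ Cfsg.oddCore G = ⊤ ∨
      (∃ z₁ : G, orderOf z₁ = 2 ∧ z₁ ∉ zpowers z ∧
        (∃ h₁ : z₁ ∈ centralizer ({z} : Set G),
          (⟨z₁, h₁⟩ : ↥(centralizer ({z} : Set G))) ∈ Cfsg.pCore 2 ↥(centralizer ({z} : Set G)) ∧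
          ∀ j ∈ Cfsg.pCore 2 ↥(centralizer ({z} : Set G)), j * ⟨z₁, h₁⟩ = ⟨z₁, h₁⟩ * j) ∧
        (zpowers z₁).Normal ∧
        ∃ (G₀ : Subgroup G) (hz₁ : z₁ ∈ G₀), G₀.index = 2 ∧
          ∃ hn : ((zpowers z₁).subgroupOf G₀).Normal,
            Nonempty ((↥G₀ ⧸ (zpowers z₁).subgroupOf G₀) ≃* Cfsg.PSU 6 K 2)) ∨
      Cfsg.Spor.IsoFi22 G := by
  classical
  obtain ⟨a, V, _, _, R, D, hJ, -, E', hE', hE'c, hE'J, haE, hzE, hEa⟩ :=
    exists_st z hz hF A E hAE hA hE hEc zc hzc hJ' hCJ e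
  by_cases hS : D.Swap
  · by_cases hI : D.Iso
    · exact Or.inl (sup_top_of_isolated hz fun g hg => D.isolated_swap hS hI g hg)
    · exact Or.inr (Or.inr (D.fi22_of_swap hS hI hF hJ e E' hE' hE'c hE'J haE hEa))
  have hazz : a * z * z = a := by rw [mul_assoc, D.z_sq, mul_one]
  by_cases hI : D.Iso <;> by_cases hI' : D.other.Iso
  · exact Or.inl (sup_top_of_isolated hz fun g hg => D.isolated_cent hS hI hI' g hg)
  · -- the roles of the two generators exchanged
    have hS' : ¬ D.other.Swap := fun ⟨h, hh, hn⟩ => hn (by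
      have h1 : Commute h a := by
        by_contra hc
        exact hS ⟨h, hh, fun r => hc (mul_inv_eq_iff_eq_mul.1 r)⟩
      rw [(h1.mul_right hh).eq, mul_inv_cancel_right])
    have hIo : D.other.other.Iso := by
      show ∀ g, Commute g (a * z * z) → Commute (g * z * g⁻¹) z → g * z * g⁻¹ = z
      rw [hazz]
      exact hI
    have hazE : a * z ∉ E' := fun h => haE (by
      have := mul_mem h hzE
      rwa [hazz] at this)
    obtain ⟨G₀, hi, ⟨ε⟩, hc0⟩ := (D.other.fix_cases hF hK hS' hJ e E' hE' hE'c hE'J hazE fun j hj =>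
      (hEa j hj).imp id fun h => by
        have := mul_mem h hzE
        rwa [mul_assoc] at this).resolve_left hI'
    refine Or.inr (Or.inl ⟨a * z, ?_⟩)
    obtain ⟨h1, h2, h3⟩ := D.other.mid_conditions hJ
    exact ⟨h1, h2, h3, D.other.unitary_of_isolated hS'
      (fun g hg => D.other.a_isolated hS' hIo g hg) hK G₀ hi ε hc0⟩
  · obtain ⟨G₀, hi, ⟨ε⟩, hc0⟩ := (D.fix_cases hF hK hS hJ e E' hE' hE'c hE'J haE hEa).resolve_left hI
    refine Or.inr (Or.inl ⟨a, ?_⟩)
    obtain ⟨h1, h2, h3⟩ := D.mid_conditions hJ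
    exact ⟨h1, h2, h3, D.unitary_of_isolated hS (fun g hg => D.a_isolated hS hI' g hg) hK G₀ hi ε hc0⟩
  · exact (D.not_both hS hI hI').elim

end CfsgLib.Fi22Cent
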