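import Cfsg.Agent.U62Cent.SigmaPure

/-!
The centraliser of an involution of the second class has no four elements generating an extraspecial group with
that involution as centre.
-/

set_option autoImplicit false
set_option maxRecDepth 100000
set_option maxHeartbeats 1000000
set_option linter.style.haveILetI false
set_option linter.unusedSectionVars false

open scoped Matrix

namespace CfsgLib.Fi22Cent

open CfsgLib CfsgLib.U62Cent
open CfsgLib.FiLarge (F4 om)
open CfsgLib.Unitary (suMat suMat_mul suMat_one su_ext)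

theorem su_mul_apply (g h : U4) (v : V4) : suMat (g * h) *ᵥ v = suMat g *ᵥ (suMat h *ᵥ v) := by
  rw [suMat_mul, Matrix.mulVec_mulVec]

theorem su_one_apply (v : V4) : suMat (1 : U4) *ᵥ v = v := by rw [suMat_one, Matrix.one_mulVec]

/-- A member of the centraliser sends the two points to multiples of themselves or of each other. -/
theorem pts_map {g : U4} (hs : g * s0 = s0 * g) (p w : V4) (hp : suMat s0 *ᵥ w + w = p) (hw : h4 p w = 1) :
    ∃ c : F4, c ≠ 0 ∧ (suMat g *ᵥ p = c • p0 ∨ suMat g *ᵥ p = c • p1) := by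
  have e1 : suMat g *ᵥ p = suMat s0 *ᵥ (suMat g *ᵥ w) + suMat g *ᵥ w := by
    rw [← hp, Matrix.mulVec_add, ← su_mul_apply, hs, su_mul_apply]
  rw [e1, s0_image]
  refine LS_key _ ?_
  rw [← s0_image, ← e1, su_h4, hw]

/-- The points are fixed. -/
def Tr (g : U4) : Prop := suMat g *ᵥ p0 = p0 ∧ suMat g *ᵥ p1 = p1

theorem Tr.LS_fix {g : U4} (h : Tr g) {v : V4} (hv : LS v) : suMat g *ᵥ v = v := by
  have e : v = v 0 • p0 + v 2 • p1 := by
    funext i
    fin_cases i <;> simp [p0, p1, hv.1, hv.2]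
  rw [e, Matrix.mulVec_add, Matrix.mulVec_smul, Matrix.mulVec_smul, h.1, h.2]

theorem Tr.mul {g h : U4} (hg : Tr g) (hh : Tr h) : Tr (g * h) :=
  ⟨by rw [su_mul_apply, hh.1, hg.1], by rw [su_mul_apply, hh.2, hg.2]⟩

theorem Tr.inv {g : U4} (hg : Tr g) : Tr g⁻¹ :=
  ⟨by conv_lhs => rw [← hg.1, su_inv_apply], by conv_lhs => rw [← hg.2, su_inv_apply]⟩

theorem tr_s0 : Tr s0 := ⟨(s0_fix _).2 (by decide +kernel), (s0_fix _).2 (by decide +kernel)⟩

/-- The elements fixing the points commute. -/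
theorem Tr.comm {g h : U4} (hg : Tr g) (hh : Tr h) : g * h = h * g := by
  have img : ∀ {g : U4}, Tr g → ∀ v : V4, LS (suMat g *ᵥ v + v) := fun {g} hg v => by
    refine (fun u h0 h1 => (by decide +kernel : ∀ u : V4, h4 u p0 = 0 → h4 u p1 = 0 → LS u) u h0 h1) _ ?_ ?_
    · have h := su_h4 g v p0
      rw [hg.1] at h
      rw [h4_add_left, h]
      exact (by decide +kernel : ∀ c : F4, c + c = 0) _
    · have h := su_h4 g v p1
      rw [hg.2] at h
      rw [h4_add_left, h]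
      exact (by decide +kernel : ∀ c : F4, c + c = 0) _
  refine su_ext fun v => ?_
  rw [su_mul_apply, su_mul_apply]
  have eg : suMat g *ᵥ v = v + (suMat g *ᵥ v + v) := by
    rw [add_comm (suMat g *ᵥ v), ← add_assoc, v4_self, zero_add]
  have eh : suMat h *ᵥ v = v + (suMat h *ᵥ v + v) := by
    rw [add_comm (suMat h *ᵥ v), ← add_assoc, v4_self, zero_add]
  calc suMat g *ᵥ (suMat h *ᵥ v) = suMat g *ᵥ v + (suMat h *ᵥ v + v) := by
        conv_lhs => rw [eh, Matrix.mulVec_add, hg.LS_fix (img hh v)]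
    _ = suMat h *ᵥ v + (suMat g *ᵥ v + v) := by abel
    _ = suMat h *ᵥ (suMat g *ᵥ v) := by
        conv_rhs => rw [eg, Matrix.mulVec_add, hh.LS_fix (img hg v)]

/-- A member of the centraliser of involutive action fixes the points or interchanges their lines. -/
theorem tr_or_swap {g : U4} (hs : g * s0 = s0 * g) (h2 : Tr (g * g)) :
    Tr g ∨ ∃ c : F4, c ≠ 0 ∧ suMat g *ᵥ p0 = c • p1 ∧ suMat g *ᵥ p1 = (c * c) • p0 := by
  obtain ⟨c0, hc0, a0⟩ := pts_map hs p0 ![1, 0, 0, 0] (by rw [s0_image]; decide +kernel) (by decide +kernel)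
  obtain ⟨c1, hc1, a1⟩ := pts_map hs p1 ![0, 0, 1, 0] (by rw [s0_image]; decide +kernel) (by decide +kernel)
  have q0 := h2.1
  have q1 := h2.2
  rw [su_mul_apply] at q0 q1
  have one : ∀ c : F4, c * c = 1 → c = 1 := by decide +kernel
  have kk0 : ∀ a : F4, a • p0 = p0 → a = 1 := fun a h => by simpa [p0] using congrFun h 0
  have kk1 : ∀ a : F4, a • p1 = p1 → a = 1 := fun a h => by simpa [p1] using congrFun h 2
  have ne : ∀ a : F4, a • p1 ≠ p0 := fun a h => by simpa [p0, p1] using congrFun h 0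
  have ne' : ∀ a : F4, a • p0 ≠ p1 := fun a h => by simpa [p0, p1] using congrFun h 2
  rcases a0 with a0 | a0 <;> rcases a1 with a1 | a1 <;>
    simp only [a0, a1, Matrix.mulVec_smul, smul_smul] at q0 q1
  · exact absurd q1 (ne' _)
  · left
    exact ⟨by rw [a0, one _ (kk0 _ q0), one_smul], by rw [a1, one _ (kk1 _ q1), one_smul]⟩
  · right
    refine ⟨c0, hc0, a0, ?_⟩
    have h := kk0 _ q0
    have key : ∀ x y : F4, x * y = 1 → y = x * x := by decide +kernel
    rw [a1, key _ _ h]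
  · exact absurd q0 (ne _)

/-- Of two commuting members of involutive action, one or their product fixes the points. -/
theorem tr_prod {g h : U4} (hg : g * s0 = s0 * g) (hh : h * s0 = s0 * h) (g2 : Tr (g * g)) (h2 : Tr (h * h))
    (hc : Tr (g * h * (h * g)⁻¹)) : Tr g ∨ Tr h ∨ Tr (g * h) := by
  rcases tr_or_swap hg g2 with t | ⟨c, c0, e0, e1⟩
  · exact Or.inl t
  rcases tr_or_swap hh h2 with t | ⟨d, d0, f0, f1⟩
  · exact Or.inr (Or.inl t)
  right; right
  have hA : suMat (g * h) *ᵥ p0 = (d * (c * c)) • p0 := by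
    rw [su_mul_apply, f0, Matrix.mulVec_smul, e1, smul_smul]
  have hB : suMat (h * g) *ᵥ p0 = (c * (d * d)) • p0 := by
    rw [su_mul_apply, e0, Matrix.mulVec_smul, f1, smul_smul]
  have h3 : suMat (g * h * (h * g)⁻¹) *ᵥ (suMat (h * g) *ᵥ p0) = suMat (h * g) *ᵥ p0 := by
    rw [hB, Matrix.mulVec_smul, hc.1]
  rw [← su_mul_apply, inv_mul_cancel_right, hA, hB] at h3
  have h4' : d * (c * c) = c * (d * d) := by simpa [p0] using congrFun h3 0
  have key : ∀ c d : F4, c ≠ 0 → d ≠ 0 → d * (c * c) = c * (d * d) → d * (c * c) = 1 ∧ c * (d * d) = 1 := by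
    decide +kernel
  obtain ⟨k1, k2⟩ := key c d c0 d0 h4'
  refine ⟨by rw [hA, k1, one_smul], ?_⟩
  rw [su_mul_apply, f1, Matrix.mulVec_smul, e0, smul_smul, mul_comm, k2, one_smul]

/-- No extraspecial pattern centralises the standard involution. -/
theorem no_extra {a1 a2 a3 a4 : U4} (s1 : a1 * a1 = 1 ∨ a1 * a1 = s0) (s2 : a2 * a2 = 1 ∨ a2 * a2 = s0)
    (s3 : a3 * a3 = 1 ∨ a3 * a3 = s0) (s4 : a4 * a4 = 1 ∨ a4 * a4 = s0)
    (c1 : a1 * s0 = s0 * a1) (c2 : a2 * s0 = s0 * a2) (c3 : a3 * s0 = s0 * a3) (c4 : a4 * s0 = s0 * a4)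
    (k12 : a1 * a2 = a2 * a1 * s0) (k34 : a3 * a4 = a4 * a3 * s0) (k13 : a1 * a3 = a3 * a1)
    (k14 : a1 * a4 = a4 * a1) (k23 : a2 * a3 = a3 * a2) (k24 : a2 * a4 = a4 * a2) : False := by
  have hs0 : s0 ≠ (1 : U4) := fun e => by
    have h := (s0_fix ![1, 0, 0, 0]).1 (by rw [e, su_one_apply])
    exact absurd h (by decide +kernel)
  have one : Tr (1 : U4) := ⟨su_one_apply _, su_one_apply _⟩
  have sq : ∀ {g : U4}, (g * g = 1 ∨ g * g = s0) → Tr (g * g) := fun h => by
    rcases h with e | e <;> rw [e]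
    exacts [one, tr_s0]
  -- in each pair exactly one element fixes the points
  have pair : ∀ {g h : U4}, (g * g = 1 ∨ g * g = s0) → (h * h = 1 ∨ h * h = s0) → g * s0 = s0 * g →
      h * s0 = s0 * h → g * h = h * g * s0 →
      ∃ k n : U4, Tr k ∧ ¬ Tr n ∧ Tr (n * n) ∧ n * s0 = s0 * n ∧ ¬ (k * n = n * k) ∧
        ∀ b : U4, g * b = b * g → h * b = b * h → k * b = b * k ∧ n * b = b * n := by
    intro g h sg sh cg ch kg
    have hne : ¬ (g * h = h * g) := fun e => hs0 (mul_eq_left.1 (kg.symm.trans e))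
    have hc : Tr (g * h * (h * g)⁻¹) := by
      rw [kg, show h * g * s0 * (h * g)⁻¹ = h * (g * s0) * g⁻¹ * h⁻¹ by group, cg,
        show h * (s0 * g) * g⁻¹ * h⁻¹ = h * s0 * h⁻¹ by group, ch, mul_inv_cancel_right]
      exact tr_s0
    rcases tr_prod cg ch (sq sg) (sq sh) hc with t | t | t
    · refine ⟨g, h, t, fun t' => hne (t.comm t'), sq sh, ch, hne, fun b e1 e2 => ⟨e1, e2⟩⟩
    · refine ⟨h, g, t, fun t' => hne (t'.comm t), sq sg, cg, fun e => hne e.symm, fun b e1 e2 => ⟨e2, e1⟩⟩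
    · refine ⟨g * h, g, t, fun t' => hne ?_, sq sg, cg, fun e => hne ?_, fun b e1 e2 => ⟨?_, e1⟩⟩
      · have th : Tr h := by simpa using t'.inv.mul t
        exact t'.comm th
      · exact mul_left_cancel (a := g) (by rw [← mul_assoc g h g, e])|>.symm
      · exact (show Commute g b from e1).mul_left e2
  obtain ⟨k1, n1, t1, u1, q1, d1, ne1, f1⟩ := pair s1 s2 c1 c2 k12
  obtain ⟨k2, n2, t2, u2, q2, d2, -, f2⟩ := pair s3 s4 c3 c4 k34
  obtain ⟨a, b⟩ := f2 a1 k13.symm k14.symm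
  obtain ⟨a', b'⟩ := f2 a2 k23.symm k24.symm
  obtain ⟨e1, e2⟩ := f1 n2 b.symm b'.symm
  rcases tr_prod d1 d2 q1 q2 (by rw [← e2, mul_inv_cancel]; exact one) with t | t | t
  · exact u1 t
  · exact u2 t
  · refine ne1 (mul_right_cancel (b := n2) ?_)
    calc k1 * n1 * n2 = n1 * n2 * k1 := by rw [mul_assoc, t1.comm t]
      _ = n1 * k1 * n2 := by rw [mul_assoc, ← e1, ← mul_assoc]

end CfsgLib.Fi22Cent
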