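import Cfsg.Agent.Fi22Cent.PairBasic
import Cfsg.Agent.U62Cent.ExtBuild

/-!
The outer coset of the centraliser contains an element acting as an involution on the quotient of the radical.
-/

set_option autoImplicit false
set_option maxRecDepth 100000
set_option maxHeartbeats 1000000
set_option linter.style.haveILetI false
set_option linter.unusedSectionVars false

open scoped Matrix

namespace CfsgLib.Fi22Cent

open CfsgLib CfsgLib.U62Cent Subgroup
open CfsgLib.FiLarge (F4 om)
open CfsgLib.Unitary (suMat)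

universe v

/-- An inner automorphism turns any automorphism of the unitary group into an involution or the identity. -/
theorem aut_invol (θ : MulAut U4) : ∃ w : U4, (θ * MulAut.conj w) * (θ * MulAut.conj w) = 1 := by
  obtain ⟨θ0, hθ2, -, hθout⟩ := exists_theta
  obtain ⟨φ⟩ := nonempty_psp_iso (F := ZMod 3) (ZMod.card 3)
  have h2 := inn_index_two (F := ZMod 3) (ZMod.card 3)
  let T : MulAut U4 ≃* MulAut (Cfsg.PSp 2 (ZMod 3)) := MulAut.congr φ
  have hT : ∀ w, T (MulAut.conj w) = MulAut.conj (φ w) := fun w => MulEquiv.ext fun p => by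
    obtain ⟨u, rfl⟩ := φ.surjective p
    show φ (MulAut.conj w (φ.symm (φ u))) = _
    simp
  have hback : ∀ β, T β ∈ Cfsg.Inn (Cfsg.PSp 2 (ZMod 3)) → ∃ w, β = MulAut.conj w := by
    rintro β ⟨p, hp⟩
    obtain ⟨w, rfl⟩ := φ.surjective p
    exact ⟨w, T.injective (by rw [hT, ← hp])⟩
  have hn : T θ0 ∉ Cfsg.Inn (Cfsg.PSp 2 (ZMod 3)) := fun h => by
    obtain ⟨w, hw⟩ := hback _ h
    obtain ⟨u, hu⟩ := hθout w
    exact hu (by rw [hw, MulAut.conj_apply])
  by_cases h : T θ ∈ Cfsg.Inn (Cfsg.PSp 2 (ZMod 3))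
  · obtain ⟨w, rfl⟩ := hback _ h
    exact ⟨w⁻¹, by rw [← map_mul, mul_inv_cancel, map_one, one_mul]⟩
  · have h1 : T (θ0 * θ) ∈ Cfsg.Inn (Cfsg.PSp 2 (ZMod 3)) := by
      rw [map_mul]
      exact (Subgroup.mul_mem_iff_of_index_two h2).2 (iff_of_false hn h)
    obtain ⟨w, hw⟩ := hback _ h1
    refine ⟨w⁻¹, ?_⟩
    have e : θ * MulAut.conj w⁻¹ = θ0 := by
      calc θ * MulAut.conj w⁻¹ = (θ0 * θ0) * θ * MulAut.conj w⁻¹ := by rw [hθ2, one_mul]
        _ = θ0 * (MulAut.conj w * MulAut.conj w⁻¹) := by rw [← hw]; group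
        _ = θ0 := by rw [← map_mul, mul_inv_cancel, map_one, mul_one]
    rw [e, hθ2]

/-- In the natural case an outer involution centralises no conjugate of the image. -/
theorem out_natural {V : Type v} [AddCommGroup V] [Module (ZMod 2) V] {R : Rep V} {f0 : V ≃ₗ[ZMod 2] V}
    (hf : IsOuter R f0) (hN : R.IsNat) : ∀ w, ∃ u, f0 * R.r w * R.r u ≠ R.r u * (f0 * R.r w) := by
  intro w
  by_contra hall
  push Not at hall
  obtain ⟨Φ, α, -, hr⟩ := Rep.natural (R := R) hN
  set f := f0 * R.r w with hfdef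
  obtain ⟨w', hw'⟩ := hf.norm w
  have hsq : f * f = R.r (w' * w) := by
    rw [hfdef, map_mul, show f0 * R.r w * (f0 * R.r w) = (f0 * R.r w) * f0 * R.r w by group, hw', mul_assoc _ f0 f0,
      hf.sq, mul_one]
  have hc : w' * w ∈ Subgroup.center U4 := mem_center_iff.2 fun u => R.inj (by
    rw [map_mul R.r u (w' * w), map_mul R.r (w' * w) u, ← hsq]
    rw [← mul_assoc, ← hall u, mul_assoc, ← hall u, ← mul_assoc])
  rw [center_SU4, mem_bot] at hc
  rw [hc, map_one] at hsq
  let T : V4 ≃ₗ[ZMod 2] V4 := Φ.symm.trans (f.trans Φ)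
  obtain ⟨c, -, hT⟩ := cent_natural T fun u x => by
    obtain ⟨g, rfl⟩ := α.surjective u
    obtain ⟨y, rfl⟩ := Φ.surjective x
    show Φ (f (Φ.symm (suMat (α g) *ᵥ Φ y))) = suMat (α g) *ᵥ Φ (f (Φ.symm (Φ y)))
    rw [← hr, Φ.symm_apply_apply, Φ.symm_apply_apply, ← hr]
    exact congrArg Φ (DFunLike.congr_fun (hall g) y)
  have hc1 : c = 1 := by
    have hcc : T (T ![1, 0, 0, 0]) = ![1, 0, 0, 0] := by
      show Φ (f (Φ.symm (Φ (f (Φ.symm ![1, 0, 0, 0]))))) = _
      rw [Φ.symm_apply_apply, ← LinearEquiv.mul_apply, hsq]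
      exact Φ.apply_symm_apply _
    rw [hT, hT, smul_smul] at hcc
    have h1 := congrFun hcc 0
    simp only [Pi.smul_apply, Matrix.cons_val_zero, smul_eq_mul, mul_one] at h1
    have key : ∀ d : F4, d * d = 1 → d = 1 := by decide +kernel
    exact key c h1
  have hf1 : f = 1 := LinearEquiv.ext fun v => Φ.injective (by
    have h1 := hT (Φ v)
    rw [hc1, one_smul] at h1
    simpa [T] using h1)
  exact hf.out w⁻¹ (by rw [map_inv]; exact eq_inv_of_mul_eq_one_left hf1)

variable {G : Type*} [Group G] [Finite G] {V : Type v} [AddCommGroup V] [Module (ZMod 2) V]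
  {z a : G} {R : Rep V}

namespace St

variable (D : St z a R)

include D

/-- The action of an element of the centraliser normalises the image. -/
theorem actL_conj {h k : G} (hh : Commute h z) (hk : k ∈ D.H0) :
    D.actL h hh * R.r (D.ph k) = R.r (D.ph (h * k * h⁻¹)) * D.actL h hh := LinearEquiv.ext fun v => by
  show D.act h (R.r (D.ph k) v) = R.r (D.ph (h * k * h⁻¹)) (D.act h v)
  have hk' := D.conj_H0 hh hk
  rw [← D.act_H0 hk, ← D.act_H0 hk', ← D.act_mul hh (D.H0_comm k hk), ← D.act_mul (D.H0_comm _ hk') hh]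
  congr 1
  group

theorem actL_mul {g h : G} (hg : Commute g z) (hh : Commute h z) :
    D.actL (g * h) (hg.mul_left hh) = D.actL g hg * D.actL h hh :=
  LinearEquiv.ext fun v => D.act_mul hg hh v

theorem actL_H0 {h : G} (hh : h ∈ D.H0) : D.actL h (D.H0_comm h hh) = R.r (D.ph h) :=
  LinearEquiv.ext fun v => D.act_H0 hh v

/-- The outer coset contains an element acting as an outer involution. -/
theorem exists_outer_invol : ∃ (h : G) (hh : Commute h z), h ∉ D.H0 ∧ IsOuter R (D.actL h hh) := by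
  classical
  obtain ⟨h, hh, hn⟩ := D.exists_out
  set f := D.actL h hh with hfdef
  have hnorm : ∀ u, ∃ u', f * R.r u = R.r u' * f := fun u => by
    obtain ⟨k, hk, rfl⟩ := D.ph_surj u
    exact ⟨_, D.actL_conj hh hk⟩
  choose t ht using hnorm
  have htm : ∀ u u', t (u * u') = t u * t u' := fun u u' => R.inj (mul_right_cancel (b := f) (by
    rw [← ht, map_mul, map_mul, ← mul_assoc, ht, mul_assoc, ht, ← mul_assoc]))
  have hti : Function.Injective t := fun u u' e => R.inj (mul_left_cancel (a := f) (by rw [ht, ht, e]))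
  let θ : MulAut U4 := MulEquiv.ofBijective (MonoidHom.mk' t htm) (Finite.injective_iff_bijective.1 hti)
  have hθ : ∀ u, θ u = t u := fun _ => rfl
  obtain ⟨w, hw⟩ := aut_invol θ
  obtain ⟨k, hk, hkw⟩ := D.ph_surj w
  have hkz := D.H0_comm k hk
  set f' := D.actL (h * k) (hh.mul_left hkz) with hf'def
  have hf' : f' = f * R.r w := by rw [hf'def, D.actL_mul hh hkz, D.actL_H0 hk, hkw]
  have hstep : ∀ u, f' * R.r u = R.r ((θ * MulAut.conj w) u) * f' := fun u => by
    rw [MulAut.mul_apply, hθ, MulAut.conj_apply, hf', mul_assoc, ← map_mul, ← mul_assoc (R.r (t _)), ← ht,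
      mul_assoc, ← map_mul, inv_mul_cancel_right]
  have hnH : h * k ∉ D.H0 := fun e => hn (by simpa using mul_mem e (inv_mem hk))
  have hz2 := hh.mul_left hkz
  have hsq : f' * f' = 1 := by
    have hH : h * k * (h * k) ∈ D.H0 := D.sq_mem_H0 hz2
    have e : R.r (D.ph (h * k * (h * k))) = f' * f' := by
      rw [hf'def, ← D.actL_mul hz2 hz2, ← D.actL_H0 hH]
    have hc : D.ph (h * k * (h * k)) ∈ Subgroup.center U4 := mem_center_iff.2 fun u => R.inj (by
      rw [map_mul, map_mul, e, mul_assoc f' f' (R.r u), hstep, ← mul_assoc f', hstep,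
        show (θ * MulAut.conj w) ((θ * MulAut.conj w) u) = u from DFunLike.congr_fun hw u, mul_assoc])
    rw [center_SU4, mem_bot] at hc
    rw [← e, hc, map_one]
  refine ⟨h * k, hz2, hnH, hsq, fun u => ⟨_, hstep u⟩, fun u e => hnH ?_⟩
  obtain ⟨l, hl, rfl⟩ := D.ph_surj u
  have hlz := D.H0_comm l hl
  have hJ : h * k * l⁻¹ ∈ D.J := D.mem_J_of_act (hz2.mul_left hlz.inv_left) fun v => by
    rw [D.act_mul hz2 hlz.inv_left]
    show D.actL (h * k) hz2 (D.act l⁻¹ v) = v
    rw [e, ← D.act_H0 hl, ← D.act_mul hlz hlz.inv_left, mul_inv_cancel, D.act_one]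
  simpa using mul_mem (D.J_le hJ) hl

end St

end CfsgLib.Fi22Cent
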