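import Cfsg.Agent.Fi22Cent.Fixed

/-!
A conjugate `x` of the centre in the inner part of the centraliser, with the matching conjugate `y` of `a` in the
centraliser.
-/

set_option autoImplicit false
set_option maxRecDepth 100000
set_option maxHeartbeats 1000000
set_option linter.style.haveILetI false
set_option linter.unusedSectionVars false

namespace CfsgLib.Fi22Cent

open CfsgLib CfsgLib.U62Cent Subgroup

universe v

variable {G : Type*} [Group G] [Finite G] {V : Type v} [AddCommGroup V] [Module (ZMod 2) V]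
  {z a : G} {R : Rep V}

namespace St

/-- A good pair. -/
structure Good (D : St z a R) (g : G) : Prop where
  iso : D.Iso
  x_mem : g * z * g⁻¹ ∈ D.H0
  x_nJ : g * z * g⁻¹ ∉ D.J
  y_comm : Commute (g * a * g⁻¹) z

variable (D : St z a R)

include D

theorem conj_H0 {g h : G} (hg : Commute g z) (hh : h ∈ D.H0) : g * h * g⁻¹ ∈ D.H0 := by
  by_cases h1 : g ∈ D.H0
  · exact mul_mem (mul_mem h1 hh) (inv_mem h1)
  · refine D.H0_two (g * h) g⁻¹ (hg.mul_left (D.H0_comm h hh)) hg.inv_left (fun e => h1 ?_)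
      fun e => h1 (by simpa using inv_mem e)
    simpa [mul_assoc] using mul_mem e (inv_mem hh)

theorem sq_mem_H0 {g : G} (hg : Commute g z) : g * g ∈ D.H0 := by
  by_cases h : g ∈ D.H0
  · exact mul_mem h h
  · exact D.H0_two g g hg hg h h

theorem ph_one : D.ph 1 = 1 := (D.ph_J 1 (one_mem _)).2 (one_mem _)

theorem ph_inv {g : G} (hg : g ∈ D.H0) : D.ph g⁻¹ = (D.ph g)⁻¹ := eq_inv_of_mul_eq_one_left (by
  rw [← D.ph_mul _ (inv_mem hg) _ hg, inv_mul_cancel, D.ph_one])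

theorem ph_pow {g : G} (hg : g ∈ D.H0) (n : ℕ) : D.ph (g ^ n) = D.ph g ^ n := by
  induction n with
  | zero => rw [pow_zero, pow_zero, D.ph_one]
  | succ n ih => rw [pow_succ, pow_succ, D.ph_mul _ (pow_mem hg n) _ hg, ih]

/-- The action as a linear map. -/
noncomputable def actL (g : G) (hg : Commute g z) : V ≃ₗ[ZMod 2] V where
  toFun := D.act g
  invFun := D.act g⁻¹
  left_inv := D.act_inv hg
  right_inv v := by
    have := D.act_inv hg.inv_left v
    rwa [inv_inv] at this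
  map_add' := D.act_add hg
  map_smul' c v := by
    rcases (by decide : ∀ c : ZMod 2, c = 0 ∨ c = 1) c with rfl | rfl
    · simp only [zero_smul, RingHom.id_apply]; exact D.act_zero hg
    · simp only [one_smul, RingHom.id_apply]

namespace Good

variable {D} {g : G} (hP : D.Good g)

include hP

theorem x_comm : Commute (g * z * g⁻¹) z := D.H0_comm _ hP.x_mem

theorem x_comm_a : Commute (g * z * g⁻¹) a := D.H0_comm_a _ hP.x_mem

theorem x_sq : g * z * g⁻¹ * (g * z * g⁻¹) = 1 := by rw [conj_mul, D.z_sq]; group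

theorem y_sq : g * a * g⁻¹ * (g * a * g⁻¹) = 1 := by rw [conj_mul, D.a_sq]; group

theorem xy_comm : Commute (g * z * g⁻¹) (g * a * g⁻¹) := by
  have := D.a_comm_z.symm.map (MulAut.conj g).toMonoidHom
  simpa [MulAut.conj_apply] using this

theorem ph_sq : D.ph (g * z * g⁻¹) * D.ph (g * z * g⁻¹) = 1 := by
  rw [← D.ph_mul _ hP.x_mem _ hP.x_mem, hP.x_sq, D.ph_one]

theorem ph_ne : D.ph (g * z * g⁻¹) ≠ 1 := fun e => hP.x_nJ ((D.ph_J _ hP.x_mem).1 e)

/-- An element of the radical commutes with both or neither. -/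
theorem cJ_iff {j : G} (hj : j ∈ D.J) : Commute j (g * z * g⁻¹) ↔ Commute j (g * a * g⁻¹) := by
  set x := g * z * g⁻¹ with hx
  set y := g * a * g⁻¹ with hy
  constructor
  · intro h
    have h1 : Commute (g⁻¹ * j * g) z := by
      have := h.map (MulAut.conj g⁻¹).toMonoidHom
      simpa [hx, MulAut.conj_apply, mul_assoc] using this
    rcases D.conj_a h1 with e | e
    · refine mul_inv_eq_iff_eq_mul.1 ?_
      calc j * y * j⁻¹ = g * (g⁻¹ * j * g * a * (g⁻¹ * j * g)⁻¹) * g⁻¹ := by rw [hy]; group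
        _ = y := by rw [e]
    · exfalso
      apply hP.x_nJ
      have e1 : j * y * j⁻¹ = y * x := by
        calc j * y * j⁻¹ = g * (g⁻¹ * j * g * a * (g⁻¹ * j * g)⁻¹) * g⁻¹ := by rw [hy]; group
          _ = y * x := by rw [e, hy, hx]; group
      have e2 : y⁻¹ * j * y * j⁻¹ = x := by
        rw [show y⁻¹ * j * y * j⁻¹ = y⁻¹ * (j * y * j⁻¹) by group, e1, inv_mul_cancel_left]
      rw [← hx, ← e2]
      have := D.J_norm y⁻¹ hP.y_comm.inv_left j hj
      rw [inv_inv] at this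
      exact mul_mem this (inv_mem hj)
  · exact D.cent_le hP.iso hP.x_comm hP.y_comm (D.J_comm j hj)

theorem y_comm_a : Commute (g * a * g⁻¹) a := ((hP.cJ_iff D.a_mem).1 hP.x_comm_a.symm).symm

theorem inS_iff {v : V} : D.InS (g * z * g⁻¹) v ↔ D.InS (g * a * g⁻¹) v :=
  ⟨fun ⟨j, hj, e, h⟩ => ⟨j, hj, e, (hP.cJ_iff hj).1 h⟩, fun ⟨j, hj, e, h⟩ => ⟨j, hj, e, (hP.cJ_iff hj).2 h⟩⟩

theorem inS_fix_y {v : V} (h : D.InS (g * z * g⁻¹) v) : D.act (g * a * g⁻¹) v = v :=
  D.inS_fix hP.y_comm (hP.inS_iff.1 h)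

theorem inS_fix_x {v : V} (h : D.InS (g * z * g⁻¹) v) : R.r (D.ph (g * z * g⁻¹)) v = v := by
  rw [← D.act_H0 hP.x_mem]; exact D.inS_fix hP.x_comm h

theorem act_xy (v : V) : D.act (g * a * g⁻¹) (R.r (D.ph (g * z * g⁻¹)) v) =
    R.r (D.ph (g * z * g⁻¹)) (D.act (g * a * g⁻¹) v) := by
  rw [← D.act_H0 hP.x_mem, ← D.act_H0 hP.x_mem, D.act_commute hP.y_comm hP.x_comm hP.xy_comm.symm]

theorem act_y_invol (v : V) : D.act (g * a * g⁻¹) (D.act (g * a * g⁻¹) v) = v := D.act_invol hP.y_comm hP.y_sq v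

/-- The square of an element commuting with `x` commutes with `y`. -/
theorem sq_comm {h : G} (hhx : Commute h (g * z * g⁻¹)) : Commute (h * h) (g * a * g⁻¹) := by
  have h1 : Commute (g⁻¹ * h * g) z := by
    have := hhx.map (MulAut.conj g⁻¹).toMonoidHom
    simpa [MulAut.conj_apply, mul_assoc] using this
  have := (D.H0_comm_a _ (D.sq_mem_H0 h1)).map (MulAut.conj g).toMonoidHom
  simpa [MulAut.conj_apply, mul_assoc] using this

/-- The lift of an element of order three. -/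
theorem lift_y {d : U4} (hd : d * D.ph (g * z * g⁻¹) = D.ph (g * z * g⁻¹) * d) (h3 : d ^ 3 = 1)
    (htriv : ∀ v, R.r (D.ph (g * z * g⁻¹)) v = v → ∃ w, R.r d v + v = R.r (D.ph (g * z * g⁻¹)) w + w) :
    ∃ h ∈ D.H0, D.ph h = d ∧ Commute h (g * a * g⁻¹) := by
  obtain ⟨h, hh, rfl, hx⟩ := D.lift_cent hP.x_mem hP.x_sq hd h3 htriv
  refine ⟨(h * h) * (h * h), mul_mem (mul_mem hh hh) (mul_mem hh hh), ?_, (hP.sq_comm hx).mul_left (hP.sq_comm hx)⟩
  rw [D.ph_mul _ (mul_mem hh hh) _ (mul_mem hh hh), D.ph_mul _ hh _ hh, ← pow_two, ← pow_two, ← pow_mul,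
    show 2 * 2 = 3 + 1 from rfl, pow_succ, h3, one_mul]

/-- What commutes with `y` moves a vector fixed by `y` into the part centralised. -/
theorem inS_move {h : G} (hh : h ∈ D.H0) (hy : Commute h (g * a * g⁻¹)) {v : V}
    (hv : D.act (g * a * g⁻¹) v = v) : D.InS (g * z * g⁻¹) (R.r (D.ph h) v + v) := by
  rw [hP.inS_iff]
  set y := g * a * g⁻¹ with hydef
  obtain ⟨j, hj, rfl⟩ := D.pr_surj v
  have hhz := D.H0_comm h hh
  rw [D.act_pr hP.y_comm hj] at hv
  have hj' := D.J_norm y hP.y_comm j hj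
  obtain ⟨c, hc, ec⟩ := D.eq_of_pr hj hj' hv.symm
  have hhj := D.J_norm h hhz j hj
  refine ⟨h * j * h⁻¹ * j⁻¹, mul_mem hhj (inv_mem hj), ?_, (mul_inv_eq_iff_eq_mul.1 ?_).symm⟩
  · rw [D.pr_mul _ hhj _ (inv_mem hj), D.pr_inv hj, D.pr_act h hh j hj]
  · calc y * (h * j * h⁻¹ * j⁻¹) * y⁻¹ = (y * h) * j * (y * h)⁻¹ * (y * j * y⁻¹)⁻¹ := by group
      _ = h * (y * j * y⁻¹) * h⁻¹ * (y * j * y⁻¹)⁻¹ := by rw [← hy.eq]; group
      _ = h * j * h⁻¹ * (h * c * h⁻¹) * (c⁻¹ * j⁻¹) := by rw [ec]; group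
      _ = h * j * h⁻¹ * j⁻¹ := by rw [D.H0_kk hh hc]; group

/-- A nonsingular image of `y` has no lift commuting with it. -/
theorem not_inS_image_y {w : V} (hq : R.q (D.act (g * a * g⁻¹) w + w) ≠ 0) :
    ¬ D.InS (g * z * g⁻¹) (D.act (g * a * g⁻¹) w + w) := fun h =>
  D.not_inS_image hP.y_comm hP.y_comm_a hP.y_sq hq (hP.inS_iff.1 h)

/-- The pairs meet when `y` acts trivially or as `x`. -/
theorem meet_of_act (h : (∀ v, D.act (g * a * g⁻¹) v = v) ∨
    ∀ v, D.act (g * a * g⁻¹) v = R.r (D.ph (g * z * g⁻¹)) v) : D.Meet g := by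
  refine D.meet_of_mem hP.iso hP.x_comm hP.x_nJ ?_
  rcases h with h | h
  · exact Or.inl (D.mem_J_of_act hP.y_comm h)
  · refine Or.inr (D.mem_J_of_act ?_ fun v => ?_)
    · rw [← conj_mul]; exact hP.y_comm.mul_left hP.x_comm
    · rw [← conj_mul, D.act_mul hP.y_comm hP.x_comm, D.act_H0 hP.x_mem, ← h, hP.act_y_invol]

end Good

end St

end CfsgLib.Fi22Cent
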