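import Cfsg.Agent.Fi22Cent.Setting
import Cfsg.Agent.U62Cent.ExtBasic
import Cfsg.Agent.Invol.IsolatedApps

/-!
Conjugates of the three involutions in the centre of the radical: no fusion between the classes, covering of
two-subgroups, and the centraliser of a conjugate of `a` centralises the matching conjugate of `z`.
-/

set_option autoImplicit false
set_option maxRecDepth 100000
set_option maxHeartbeats 1000000
set_option linter.style.haveILetI false
set_option linter.unusedSectionVars false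

namespace CfsgLib.Fi22Cent

open CfsgLib CfsgLib.U62Cent Subgroup

universe v

variable {G : Type*} [Group G] [Finite G] {V : Type v} [AddCommGroup V] [Module (ZMod 2) V]
  {z a : G} {R : Rep V}

/-- An element of odd order and of order dividing four is trivial. -/
theorem odd_two {w : G} {k : ℕ} (hk : Odd k) (h1 : w ^ k = 1) (h4 : w * w * (w * w) = 1) : w = 1 := by
  have h2 : w ^ 4 = 1 := by rw [← h4]; simp [pow_succ, mul_assoc]
  have h3 : Nat.Coprime (orderOf w) (orderOf w) := by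
    refine Nat.Coprime.coprime_dvd_left (orderOf_dvd_of_pow_eq_one h2) (Nat.Coprime.coprime_dvd_right
      (orderOf_dvd_of_pow_eq_one h1) ?_)
    have := (Nat.coprime_two_left.2 hk).pow_left 2
    simpa using this
  exact orderOf_eq_one_iff.1 ((Nat.coprime_self _).1 h3)

/-- An element of odd order moving an element by a central two-element fixes it. -/
theorem odd_fix {o j w : G} {k : ℕ} (hk : Odd k) (ho : o ^ k = 1) (e : o * j * o⁻¹ = j * w) (hw : Commute o w)
    (h4 : w * w * (w * w) = 1) : w = 1 := by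
  have h : ∀ n : ℕ, o ^ n * j * (o ^ n)⁻¹ = j * w ^ n := fun n => by
    induction n with
    | zero => simp
    | succ n ih =>
      calc o ^ (n + 1) * j * (o ^ (n + 1))⁻¹ = o * (o ^ n * j * (o ^ n)⁻¹) * o⁻¹ := by rw [pow_succ']; group
        _ = (o * j * o⁻¹) * (o * w ^ n * o⁻¹) := by rw [ih]; group
        _ = j * (w * w ^ n) := by rw [e, (hw.pow_right n).eq, mul_inv_cancel_right, mul_assoc]
        _ = j * w ^ (n + 1) := by rw [pow_succ']
  have h1 := h k
  rw [ho, one_mul, inv_one, mul_one, left_eq_mul] at h1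
  exact odd_two hk h1 h4

namespace St

variable (D : St z a R)

include D

theorem card_V : Nat.card V = 256 := R.card

/-- A centre of the inner part is the centre. -/
theorem centre_unique {g : G} (hH : ∀ h ∈ D.H0, Commute h (g * z * g⁻¹)) : g * z * g⁻¹ = z := by
  classical
  haveI := R.finite
  let E := D.conj g
  by_contra hne
  -- the common inner part
  let K : Subgroup G := D.H0 ⊓ E.H0
  have hKi : ∀ h ∈ D.H0, ∀ h' ∈ D.H0, h ∉ E.H0 → h' ∉ E.H0 → h * h' ∈ E.H0 := fun h hh h' hh' n n' =>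
    E.H0_two h h' (hH h hh) (hH h' hh') n n'
  have hsq : ∀ h ∈ D.H0, h * h ∈ K := fun h hh => ⟨mul_mem hh hh, by
    by_cases e : h ∈ E.H0
    · exact mul_mem e e
    · exact hKi h hh h hh e e⟩
  have hnorm : ∀ h ∈ D.H0, ∀ c ∈ K, h * c * h⁻¹ ∈ K := fun h hh c hc => ⟨D.H0.mul_mem (D.H0.mul_mem hh hc.1) (D.H0.inv_mem hh), by
    by_cases e : h ∈ E.H0
    · exact E.H0.mul_mem (E.H0.mul_mem e hc.2) (E.H0.inv_mem e)
    · have e1 : h * c ∉ E.H0 := fun q => e (by simpa using E.H0.mul_mem q (E.H0.inv_mem hc.2))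
      exact hKi _ (D.H0.mul_mem hh hc.1) _ (D.H0.inv_mem hh) e1 fun q => e (by simpa using E.H0.inv_mem q)⟩
  let ψ : K →* U4 :=
    { toFun := fun k => D.ph k
      map_one' := (D.ph_J 1 (one_mem _)).2 (one_mem _)
      map_mul' := fun x y => D.ph_mul _ x.2.1 _ y.2.1 }
  let ψ' : K →* U4 :=
    { toFun := fun k => E.ph k
      map_one' := (E.ph_J 1 (one_mem _)).2 (one_mem _)
      map_mul' := fun x y => E.ph_mul _ x.2.2 _ y.2.2 }
  -- the image of `K` is everything
  have hψ : Function.Surjective ψ := by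
    haveI := simple_SU4
    have hn : ψ.range.Normal := ⟨fun u hu c => by
      obtain ⟨k, rfl⟩ := hu
      obtain ⟨h, hh, rfl⟩ := D.ph_surj c
      refine ⟨⟨_, hnorm h hh k k.2⟩, ?_⟩
      show D.ph (h * k * h⁻¹) = D.ph h * D.ph k * (D.ph h)⁻¹
      rw [eq_mul_inv_iff_mul_eq, ← D.ph_mul _ (hnorm h hh k k.2).1 _ hh, ← D.ph_mul _ hh _ k.2.1]
      group⟩
    rw [← MonoidHom.range_eq_top]
    refine hn.eq_bot_or_eq_top.resolve_left fun hb => ?_
    have hall : ∀ u : U4, u * u = 1 := fun u => by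
      obtain ⟨h, hh, rfl⟩ := D.ph_surj u
      rw [← D.ph_mul _ hh _ hh]
      have h1 : D.ph (h * h) ∈ ψ.range := ⟨⟨_, hsq h hh⟩, rfl⟩
      rw [hb] at h1
      exact mem_bot.1 h1
    have hdvd : 3 ∣ Nat.card U4 := by rw [show Nat.card U4 = 25920 from card_SU4]; norm_num
    haveI : Fact (Nat.Prime 3) := ⟨Nat.prime_three⟩
    obtain ⟨u, hu⟩ := exists_prime_orderOf_dvd_card' (G := U4) 3 hdvd
    have := orderOf_dvd_of_pow_eq_one (n := 2) (show u ^ 2 = 1 by rw [pow_two]; exact hall u)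
    rw [hu] at this
    norm_num at this
  -- the kernel of the second map is in the kernel of the first
  have hle : ψ'.ker ≤ ψ.ker := by
    have hn : (ψ'.ker.map ψ).Normal := (inferInstance : ψ'.ker.Normal).map ψ hψ
    have h2 : IsPGroup 2 (ψ'.ker.map ψ) := by
      refine IsPGroup.map ?_ ψ
      intro x
      refine ⟨2, Subtype.ext (Subtype.ext ?_)⟩
      have hxJ : ((x : K) : G) ∈ E.J := (E.ph_J _ x.1.2.2).1 x.2
      have := E.pow_four hxJ
      simpa [pow_succ, mul_assoc] using this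
    haveI := simple_SU4
    rcases hn.eq_bot_or_eq_top with e | e
    · exact (Subgroup.map_eq_bot_iff _).1 e
    · exfalso
      rw [e] at h2
      obtain ⟨n, hn'⟩ := (IsPGroup.iff_card (p := 2)).1 h2
      rw [Subgroup.card_top, show Nat.card U4 = 25920 from card_SU4] at hn'
      have h3 : 3 ∣ 2 ^ n := hn' ▸ (by norm_num)
      have := (Nat.prime_dvd_prime_iff_eq Nat.prime_three Nat.prime_two).1 (Nat.prime_three.dvd_of_dvd_pow h3)
      norm_num at this
  have heq : ψ.ker = ψ'.ker := by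
    refine (eq_of_le_of_card_ge hle ?_).symm
    have c1 := Subgroup.card_eq_card_quotient_mul_card_subgroup ψ.ker
    have c2 := Subgroup.card_eq_card_quotient_mul_card_subgroup ψ'.ker
    rw [Nat.card_congr (QuotientGroup.quotientKerEquivOfSurjective ψ hψ).toEquiv] at c1
    rw [Nat.card_congr (QuotientGroup.quotientKerEquivRange ψ').toEquiv] at c2
    have hr : Nat.card ψ'.range ≤ Nat.card U4 := Subgroup.card_le_card_group _
    refine Nat.le_of_mul_le_mul_left ?_ (Nat.card_pos (α := U4))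
    calc Nat.card U4 * Nat.card ψ.ker = Nat.card ψ'.range * Nat.card ψ'.ker := c1.symm.trans c2
      _ ≤ Nat.card U4 * Nat.card ψ'.ker := Nat.mul_le_mul_right _ hr
  have hJ : ∀ j ∈ D.J, j ∈ E.H0 → j ∈ E.J := fun j hj hjE => by
    have hjK : j ∈ K := ⟨D.J_le hj, hjE⟩
    have : (⟨j, hjK⟩ : K) ∈ ψ'.ker := heq ▸ ((D.ph_J j (D.J_le hj)).2 hj : ψ ⟨j, hjK⟩ = 1)
    exact (E.ph_J j hjE).1 this
  -- two elements not commuting
  have key : ∀ i ∈ D.J, ∀ j ∈ D.J, i ∈ E.H0 → j ∈ E.H0 → Commute i j := by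
    intro i hi j hj hiE hjE
    by_contra hc
    have h0 : R.B (D.pr i) (D.pr j) ≠ 0 := fun e => hc ((D.comm_iff hi hj).2 e)
    have e1 := D.comm_z hi hj h0
    have hi' := hJ i hi hiE
    have hj' := hJ j hj hjE
    by_cases h1 : R.B (E.pr i) (E.pr j) = 0
    · exact hc ((E.comm_iff hi' hj').2 h1)
    · exact hne (mul_left_cancel ((E.comm_z hi' hj' h1).symm.trans e1))
  -- a vector outside a hyperplane and partner
  obtain ⟨i, hi, hiE⟩ : ∃ i ∈ D.J, i ∉ E.H0 := by
    by_contra hall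
    push Not at hall
    obtain ⟨v, hv⟩ : ∃ v : V, v ≠ 0 := by
      haveI : Nontrivial V := Finite.one_lt_card_iff_nontrivial.1 (by rw [R.card]; norm_num)
      exact exists_ne 0
    obtain ⟨w, hw⟩ : ∃ w, R.B v w ≠ 0 := by
      by_contra h
      push Not at h
      exact hv (R.nondeg v h)
    obtain ⟨i, hi, rfl⟩ := D.pr_surj v
    obtain ⟨j, hj, rfl⟩ := D.pr_surj w
    exact hw ((D.comm_iff hi hj).1 (key i hi j hj (hall i hi) (hall j hj)))
  have hM : ∀ j ∈ D.J, j ∈ E.H0 ∨ i * j ∈ E.H0 := fun j hj => by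
    by_cases e : j ∈ E.H0
    · exact Or.inl e
    · exact Or.inr (hKi i (D.J_le hi) j (D.J_le hj) hiE e)
  let M : AddSubgroup V :=
    { carrier := {v | ∃ j ∈ D.J, j ∈ E.H0 ∧ D.pr j = v}
      zero_mem' := ⟨1, one_mem _, one_mem _, D.pr_one⟩
      add_mem' := by
        rintro _ _ ⟨x, hx, hx', rfl⟩ ⟨y, hy, hy', rfl⟩
        exact ⟨x * y, mul_mem hx hy, mul_mem hx' hy', D.pr_mul x hx y hy⟩
      neg_mem' := by
        rintro _ ⟨x, hx, hx', rfl⟩
        exact ⟨x, hx, hx', (neg_eq_of_add_eq_zero_left (two_self _)).symm⟩ }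
  have hMb : Nat.card M ≤ 16 := R.isotropic_bound M (by
    rintro _ ⟨x, hx, hx', rfl⟩ _ ⟨y, hy, hy', rfl⟩
    exact (D.comm_iff hx hy).1 (key x hx y hy hx' hy'))
  have hcov : Nat.card V ≤ Nat.card (Bool × M) := by
    refine Nat.card_le_card_of_surjective (fun q : Bool × M => if q.1 then D.pr i + q.2 else (q.2 : V)) fun v => ?_
    obtain ⟨j, hj, rfl⟩ := D.pr_surj v
    rcases hM j hj with e | e
    · exact ⟨(false, ⟨_, j, hj, e, rfl⟩), rfl⟩
    · refine ⟨(true, ⟨_, i * j, mul_mem hi hj, e, rfl⟩), ?_⟩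
      show D.pr i + D.pr (i * j) = D.pr j
      rw [D.pr_mul i hi j hj, ← add_assoc, two_self, zero_add]
  rw [R.card, Nat.card_prod, show Nat.card Bool = 2 by simp] at hcov
  omega

/-- The centre is not conjugate to `a`. -/
theorem z_not_a (g : G) : g * z * g⁻¹ ≠ a := fun e =>
  D.a_ne_z (e.symm.trans (D.centre_unique fun h hh => e ▸ D.H0_comm_a h hh))

theorem z_not_az (g : G) : g * z * g⁻¹ ≠ a * z := D.other.z_not_a g

/-- An element centralising the radical up to the centre lies in it. -/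
theorem mem_kk {c : G} (hc : Commute c z) (h : ∀ j ∈ D.J, Commute c j) :
    c = 1 ∨ c = z ∨ c = a ∨ c = a * z :=
  (D.centre_iff (D.act_faithful c hc fun j hj => by rw [(h j hj).eq, mul_inv_cancel_right])).1 h

/-- A conjugate of the centre centralising the radical is the centre. -/
theorem central_conj {g : G} (hc : Commute (g * z * g⁻¹) z) (h : ∀ j ∈ D.J, Commute (g * z * g⁻¹) j) :
    g * z * g⁻¹ = z := by
  rcases D.mem_kk hc h with e | e | e | e
  exacts [absurd (conj_eq_one_iff.1 e) D.z_ne, e, absurd e (D.z_not_a g), absurd e (D.z_not_az g)]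

/-- A Sylow subgroup of the centraliser of `a` and `z` is a Sylow subgroup of the centraliser of `a`. -/
theorem exists_sylow : ∃ T : Subgroup G, IsPGroup 2 T ∧ D.J ≤ T ∧ (∀ t ∈ T, Commute t z ∧ Commute t a) ∧
    ∀ P : Subgroup G, IsPGroup 2 P → T ≤ P → (∀ t ∈ P, Commute t a) → P = T := by
  classical
  haveI : Fact (Nat.Prime 2) := ⟨Nat.prime_two⟩
  let Ha : Subgroup G := centralizer {z} ⊓ centralizer {a}
  have hmem : ∀ t, t ∈ Ha ↔ Commute t z ∧ Commute t a := fun t => by
    show t ∈ centralizer {z} ∧ t ∈ centralizer {a} ↔ _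
    rw [mem_centralizer_singleton_iff, mem_centralizer_singleton_iff]; rfl
  have hJle : D.J ≤ Ha := fun j hj => (hmem j).2 ⟨D.J_comm j hj, D.J_comm_a j hj⟩
  have hJ2 : IsPGroup 2 D.J := fun x => ⟨2, Subtype.ext (by
    have := D.pow_four x.2
    simpa [pow_succ, mul_assoc] using this)⟩
  obtain ⟨S, hS⟩ := (hJ2.of_equiv (Subgroup.subgroupOfEquivOfLe hJle).symm).exists_le_sylow
  refine ⟨(S : Subgroup Ha).map Ha.subtype, S.isPGroup'.map _,
    fun j hj => ⟨⟨j, hJle hj⟩, hS (mem_subgroupOf.2 hj), rfl⟩, ?_, ?_⟩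
  · rintro _ ⟨t, -, rfl⟩; exact (hmem _).1 t.2
  intro P hP hle hPa
  by_contra hne
  set T := (S : Subgroup Ha).map Ha.subtype with hT
  have hJT : D.J ≤ T := fun j hj => ⟨⟨j, hJle hj⟩, hS (mem_subgroupOf.2 hj), rfl⟩
  haveI := hP.isNilpotent
  have hlt : T.subgroupOf P < ⊤ := by
    refine lt_of_le_of_ne le_top fun e => hne (le_antisymm (fun p hp => ?_) hle)
    exact mem_subgroupOf.1 (e ▸ mem_top (⟨p, hp⟩ : P))
  obtain ⟨n, hn, hnT⟩ := SetLike.exists_of_lt (Group.normalizerCondition_of_isNilpotent _ hlt)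
  have hcz : Commute ((n : G) * z * (n : G)⁻¹) z ∧ ∀ j ∈ D.J, Commute ((n : G) * z * (n : G)⁻¹) j := by
    have key : ∀ t ∈ T, Commute ((n : G) * z * (n : G)⁻¹) t := by
      intro t ht
      have h1 : (n⁻¹ * ⟨t, hle ht⟩ * n : P) ∈ T.subgroupOf P :=
        (mem_normalizer_iff''.1 hn _).1 (mem_subgroupOf.2 ht)
      obtain ⟨s, -, es⟩ := mem_subgroupOf.1 h1
      have h2 : Commute (s : G) z := ((hmem _).1 s.2).1
      have h3 := h2.symm.map (MulAut.conj (n : G)).toMonoidHom
      simp only [MulEquiv.coe_toMonoidHom, MulAut.conj_apply] at h3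
      rw [show ((s : G)) = ((n⁻¹ * ⟨t, hle ht⟩ * n : P) : G) from es] at h3
      simpa [mul_assoc] using h3
    exact ⟨key z (hJT D.z_mem), fun j hj => key j (hJT hj)⟩
  have hnz : Commute (n : G) z := mul_inv_eq_iff_eq_mul.1 (D.central_conj hcz.1 hcz.2)
  have hnH : (n : G) ∈ Ha := (hmem _).2 ⟨hnz, hPa _ n.2⟩
  have hup : (P.subgroupOf Ha) = S := by
    refine S.is_maximal' ?_ fun s hs => mem_subgroupOf.2 (hle ⟨s, hs, rfl⟩)
    exact hP.comap_of_injective _ Ha.subtype_injective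
  exact hnT (mem_subgroupOf.2 ⟨⟨n, hnH⟩, hup ▸ (mem_subgroupOf.2 n.2 : (⟨n, hnH⟩ : Ha) ∈ P.subgroupOf Ha), rfl⟩)

/-- A two-group centralising `a` is centralised by a conjugate of the centre in the centraliser of `a`. -/
theorem cover {P : Subgroup G} (hP : IsPGroup 2 P) (ha : ∀ t ∈ P, Commute t a) :
    ∃ m, Commute m a ∧ ∀ t ∈ P, Commute t (m * z * m⁻¹) := by
  classical
  haveI : Fact (Nat.Prime 2) := ⟨Nat.prime_two⟩
  obtain ⟨T, hT, -, hTc, hmax⟩ := D.exists_sylow
  let C := centralizer ({a} : Set G)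
  have hTle : T ≤ C := fun t ht => mem_centralizer_singleton_iff.2 (hTc t ht).2
  have hPle : P ≤ C := fun t ht => mem_centralizer_singleton_iff.2 (ha t ht)
  obtain ⟨S1, h1⟩ := (hT.of_equiv (Subgroup.subgroupOfEquivOfLe hTle).symm).exists_le_sylow
  obtain ⟨S2, h2⟩ := (hP.of_equiv (Subgroup.subgroupOfEquivOfLe hPle).symm).exists_le_sylow
  obtain ⟨m, hm⟩ := MulAction.exists_smul_eq C S1 S2
  have e1 : (S1 : Subgroup C).map C.subtype = T := hmax _ (S1.isPGroup'.map _)
    (fun t ht => ⟨⟨t, hTle ht⟩, h1 (mem_subgroupOf.2 ht), rfl⟩)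
    (by rintro _ ⟨t, -, rfl⟩; exact mem_centralizer_singleton_iff.1 t.2)
  refine ⟨m, mem_centralizer_singleton_iff.1 m.2, fun t ht => ?_⟩
  have ht' : (⟨t, hPle ht⟩ : C) ∈ (S2 : Subgroup C) := h2 (mem_subgroupOf.2 ht)
  rw [← hm] at ht'
  obtain ⟨s, hs, es⟩ := ht'
  have hsT : (s : G) ∈ T := e1 ▸ ⟨s, hs, rfl⟩
  have h3 := (hTc _ hsT).1.map (MulAut.conj (m : G)).toMonoidHom
  have e2 : (m : G) * s * (m : G)⁻¹ = t := congrArg Subtype.val es
  simp only [MulEquiv.coe_toMonoidHom, MulAut.conj_apply] at h3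
  rwa [e2] at h3

/-- Conjugate members of the centre are conjugate in the centraliser. -/
theorem fus {g : G} (h : g * a * g⁻¹ = a * z) : ∃ c, Commute c z ∧ c * a * c⁻¹ = a * z := by
  classical
  haveI : Fact (Nat.Prime 2) := ⟨Nat.prime_two⟩
  by_contra hno
  push Not at hno
  have hfix : ∀ c, Commute c z → Commute c a := fun c hc =>
    mul_inv_eq_iff_eq_mul.1 ((D.conj_a hc).resolve_right (hno c hc))
  obtain ⟨T, hT, hJT, hTc, hmax⟩ := D.exists_sylow
  obtain ⟨m, hm, hmT⟩ := D.other.cover (P := T.map (MulAut.conj g).toMonoidHom) (hT.map _) (by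
    rintro _ ⟨t, ht, rfl⟩
    have := (hTc t ht).2.map (MulAut.conj g).toMonoidHom
    simp only [MulEquiv.coe_toMonoidHom, MulAut.conj_apply] at this ⊢
    rwa [h] at this)
  set x := g⁻¹ * (m * z * m⁻¹) * g with hx
  have key : ∀ t ∈ T, Commute x t := fun t ht => by
    have h1 := ((hmT _ ⟨t, ht, rfl⟩).symm).map (MulAut.conj g⁻¹).toMonoidHom
    simpa [hx, MulAut.conj_apply, mul_assoc] using h1
  have hxe : x = (g⁻¹ * m) * z * (g⁻¹ * m)⁻¹ := by rw [hx]; group
  have e : (g⁻¹ * m) * z * (g⁻¹ * m)⁻¹ = z :=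
    D.central_conj (hxe ▸ key z (hJT D.z_mem)) fun j hj => hxe ▸ key j (hJT hj)
  have hn : Commute (g⁻¹ * m) z := mul_inv_eq_iff_eq_mul.1 e
  have h2 := hfix _ hn
  have h3 : (g⁻¹ * m) * (a * z) * (g⁻¹ * m)⁻¹ = a := by
    rw [show g⁻¹ * m * (a * z) * (g⁻¹ * m)⁻¹ = g⁻¹ * (m * (a * z) * m⁻¹) * g by group, hm.eq,
      mul_inv_cancel_right, ← h]
    group
  have h4 : Commute (g⁻¹ * m) (a * z) := h2.mul_right hn
  rw [h4.eq, mul_inv_cancel_right] at h3
  exact D.az_ne_a h3

theorem fus_rev {g : G} (h : g * (a * z) * g⁻¹ = a) : ∃ c, Commute c z ∧ c * a * c⁻¹ = a * z := by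
  refine D.fus (g := g⁻¹) ?_
  conv_lhs => rw [← h]
  group

/-- An element of odd order centralising the part of the radical centralised by an involution commuting with it
is trivial. -/
theorem odd_cent {o y : G} (hoz : Commute o z) {k : ℕ} (hk : Odd k) (ho : o ^ k = 1) (hyz : Commute y z)
    (hy2 : y * y = 1) (hoy : Commute o y) (hc : ∀ j ∈ D.J, Commute j y → Commute o j) : o = 1 := by
  have hoa : Commute o a := by
    rcases D.conj_a hoz with e | e
    · exact mul_inv_eq_iff_eq_mul.1 e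
    · exact absurd (odd_fix hk ho e hoz (by simp [D.z_sq])) D.z_ne
  have hkk : ∀ c, (c = 1 ∨ c = z ∨ c = a ∨ c = a * z) → Commute o c := by
    rintro c (rfl | rfl | rfl | rfl)
    exacts [Commute.one_right o, hoz, hoa, hoa.mul_right hoz]
  have hF : ∀ j ∈ D.J, D.act y (D.pr j) = D.pr j → Commute o j := by
    intro j hj hv
    rw [D.act_pr hyz hj] at hv
    obtain ⟨c, hc', ec⟩ := D.eq_of_pr hj (D.J_norm y hyz j hj) hv.symm
    have hc2 := hkk c hc'
    set w := j⁻¹ * (o * j * o⁻¹) with hw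
    have hwJ : w ∈ D.J := mul_mem (inv_mem hj) (D.J_norm o hoz j hj)
    have hwy : Commute w y := by
      refine (mul_inv_eq_iff_eq_mul.1 ?_).symm
      calc y * w * y⁻¹ = (y * j * y⁻¹)⁻¹ * (o * (y * j * y⁻¹) * o⁻¹) := by
            rw [hw, show y * (j⁻¹ * (o * j * o⁻¹)) * y⁻¹ = (y * j * y⁻¹)⁻¹ * ((y * o) * j * (y * o)⁻¹) by group,
              ← hoy.eq]
            group
        _ = c⁻¹ * j⁻¹ * (o * (j * c) * o⁻¹) := by rw [ec]; group
        _ = c⁻¹ * w * (o * c * o⁻¹) := by rw [hw]; group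
        _ = c⁻¹ * w * c := by rw [hc2.eq, mul_inv_cancel_right]
        _ = w := by
            rw [((D.centre_iff (D.kk_mem hc')).2 hc' w hwJ).symm.inv_right.eq.symm]
            group
    have h1 := odd_fix hk ho (j := j) (w := w) (by simp only [hw]; group) (hc w hwJ hwy) (D.pow_four hwJ)
    rw [hw, inv_mul_eq_one] at h1
    exact (mul_inv_eq_iff_eq_mul.1 h1.symm)
  have hall : ∀ j ∈ D.J, Commute o j := by
    intro j hj
    set w := j⁻¹ * (o * j * o⁻¹) with hw
    have hwJ : w ∈ D.J := mul_mem (inv_mem hj) (D.J_norm o hoz j hj)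
    have hpw : D.pr w = D.act o (D.pr j) + D.pr j := by
      rw [hw, D.pr_mul _ (inv_mem hj) _ (D.J_norm o hoz j hj), D.pr_inv hj, D.act_pr hoz hj, add_comm]
    have hfix : D.act y (D.pr w) = D.pr w := by
      rw [hpw, D.act_add hyz, ← D.act_commute hoz hyz hoy]
      set v := D.pr j
      set u := D.act y v + v with hu
      have e1 : D.act o u = u := by
        obtain ⟨i, hi, ei⟩ := D.pr_surj u
        rw [← ei]
        exact D.act_fix hoz hi (hF i hi (by rw [ei, hu, D.act_image hyz hy2]))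
      rw [hu, D.act_add hoz] at e1
      calc D.act o (D.act y v) + D.act y v
          = (D.act o (D.act y v) + D.act o v) + (D.act o v + D.act y v) := by
            rw [add_assoc, ← add_assoc (D.act o v), two_self, zero_add]
        _ = D.act o v + v := by
            rw [e1, add_comm (D.act o v) (D.act y v), add_assoc, ← add_assoc v, add_comm v (D.act y v),
              ← add_assoc (D.act y v), ← add_assoc (D.act y v), two_self, zero_add, add_comm]
    have h1 := odd_fix hk ho (j := j) (w := w) (by simp only [hw]; group) (hF w hwJ hfix) (D.pow_four hwJ)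
    rw [hw, inv_mul_eq_one] at h1
    exact (mul_inv_eq_iff_eq_mul.1 h1.symm)
  have hoJ : o ∈ D.J := D.act_faithful o hoz fun j hj => by rw [(hall j hj).eq, mul_inv_cancel_right]
  exact odd_two hk ho (D.pow_four hoJ)

end St

end CfsgLib.Fi22Cent
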