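import Cfsg.Agent.Fi22Cent.Pairs
import Cfsg.Agent.Fi22Cent.Build
import Cfsg.Agent.Fi23Cent.QuotTri
import Cfsg.Agent.U62Cent.Main
import Cfsg.Agent.S3231

/-!
The centraliser of the second generator of the centre modulo it.
-/

set_option autoImplicit false
set_option maxRecDepth 100000
set_option maxHeartbeats 1000000
set_option linter.style.haveILetI false
set_option linter.unusedSectionVars false
set_option linter.unusedVariables false

namespace CfsgLib.Fi22Cent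

open CfsgLib CfsgLib.U62Cent Subgroup
open CfsgLib.Fi23Cent (Qt QFacts central_normal)

attribute [local instance] central_normal

universe u

variable {G : Type u} [Group G] [Finite G] {V : Type*} [AddCommGroup V] [Module (ZMod 2) V]
  {z a : G} {R : Rep V}

namespace St

variable (D : St z a R)
include D

theorem pow_a {x : G} (hx : x ∈ zpowers a) : x = 1 ∨ x = a := by
  obtain ⟨i, rfl⟩ := mem_zpowers_iff.1 hx
  rcases Int.even_or_odd' i with ⟨k, rfl | rfl⟩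
  · left; rw [zpow_mul, zpow_two, D.a_sq, one_zpow]
  · right; rw [zpow_add, zpow_mul, zpow_two, D.a_sq, one_zpow, one_mul, zpow_one]

/-- The covering of the centraliser of the image of the centre. -/
theorem exists_qfacts : Nonempty (QFacts (z := z) a a) := by
  set C := centralizer ({a} : Set G)
  have hzC : z ∈ C := mem_centralizer_singleton_iff.2 D.a_comm_z.eq.symm
  have hKC : ∀ g ∈ Fi23Cent.Cz.Kc z a, g ∈ C := fun g hg =>
    mem_centralizer_singleton_iff.2 (Fi23Cent.Cz.mem_Kc.1 hg).2.eq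
  let π : ↥C →* Qt a := QuotientGroup.mk' _
  have hπ1 : ∀ x : C, π x = 1 ↔ ((x : G) = 1 ∨ (x : G) = a) := fun x => by
    refine (QuotientGroup.eq_one_iff x).trans ?_
    rw [Subgroup.mem_subgroupOf]
    exact ⟨D.pow_a, fun h => h.elim (fun r => r ▸ one_mem _) fun r => by rw [r]; exact mem_zpowers a⟩
  have hord : orderOf (π ⟨z, hzC⟩) = 2 := orderOf_eq_prime
    (by rw [pow_two, ← map_mul, hπ1]; exact Or.inl D.z_sq)
    (fun h => ((hπ1 _).1 h).elim D.z_ne fun r => D.a_ne_z r.symm)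
  let f : ↥(Fi23Cent.Cz.Kc z a) →* Qt a := π.comp (Subgroup.inclusion hKC)
  let κ : ↥(Fi23Cent.Cz.Kc z a) →* ↥(centralizer ({π ⟨z, hzC⟩} : Set (Qt a))) := f.codRestrict _ fun g =>
    mem_centralizer_singleton_iff.2 (by
      show π _ * π _ = π _ * π _
      rw [← map_mul, ← map_mul]
      exact congrArg π (Subtype.ext (Fi23Cent.Cz.mem_Kc.1 g.2).1.eq))
  refine ⟨{ zq := π ⟨z, hzC⟩, zC := hzC, zq_def := rfl, zq_ord := hord, κ := κ, κ_surj := ?_, KC := hKC,
            κ_val := fun g => rfl, κ_one := fun g => ?_ }⟩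
  · rintro ⟨q, hq⟩
    obtain ⟨g, rfl⟩ := QuotientGroup.mk'_surjective _ q
    have h1 : π (g * ⟨z, hzC⟩ * g⁻¹ * (⟨z, hzC⟩ : C)⁻¹) = 1 := by
      have h2 : π g * π ⟨z, hzC⟩ = π ⟨z, hzC⟩ * π g := mem_centralizer_singleton_iff.1 hq
      rw [map_mul, map_mul, map_mul, map_inv, map_inv, h2]
      group
    have hgz : Commute (g : G) z := by
      rcases (hπ1 _).1 h1 with r | r <;> push_cast at r
      · exact mul_inv_eq_iff_eq_mul.1 (mul_inv_eq_one.1 r)
      · exfalso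
        rw [mul_inv_eq_iff_eq_mul] at r
        exact D.z_not_az _ r
    exact ⟨⟨g, Fi23Cent.Cz.mem_Kc.2 ⟨hgz, mem_centralizer_singleton_iff.1 g.2⟩⟩, Subtype.ext rfl⟩
  · constructor
    · intro h; exact (hπ1 _).1 (congrArg Subtype.val h)
    · intro h; exact Subtype.ext ((hπ1 ⟨g, hKC g g.2⟩).2 h)

theorem iso_of_alpha (h : Fi23Cent.IsAlpha z a) : D.Iso := fun g hg hx => by
  rw [(Fi23Cent.alpha_fix D.z_sq D.a_comm_z.symm h hg hx).eq, mul_inv_cancel_right]

/-- With a swapping element the inner part is the centraliser of `a`. -/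
theorem mem_H0_iff (hS : D.Swap) {g : G} : g ∈ D.H0 ↔ Commute g z ∧ Commute g a := by
  refine ⟨fun h => ⟨D.H0_comm g h, D.H0_comm_a g h⟩, fun ⟨hz, ha⟩ => ?_⟩
  by_contra hg
  obtain ⟨h, hh, hha⟩ := hS
  have hh0 : h ∉ D.H0 := fun q => hha (by rw [(D.H0_comm_a h q).eq, mul_inv_cancel_right])
  have h1 := D.H0_comm_a _ (D.H0_two g h hz hh hg hh0)
  have h2 := ha.inv_left.mul_left h1
  rw [inv_mul_cancel_left] at h2
  exact hha (by rw [h2.eq, mul_inv_cancel_right])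

/-- The quotient in coordinates when `a` is moved. -/
theorem exists_qcd (hS : D.Swap) : ∃ Q : QFacts (z := z) a a, Nonempty (Cd Q.zq R) := by
  classical
  obtain ⟨Q⟩ := D.exists_qfacts
  refine ⟨Q, ?_⟩
  set C := centralizer ({a} : Set G)
  let π : ↥C →* Qt a := QuotientGroup.mk' _
  have hk : ∀ k : Fi23Cent.Cz.Kc z a, (k : G) ∈ D.H0 := fun k =>
    (D.mem_H0_iff hS).2 (Fi23Cent.Cz.mem_Kc.1 k.2)
  have hlift : ∀ q : Qt a, Commute q Q.zq → ∃ k : Fi23Cent.Cz.Kc z a, (Q.κ k : Qt a) = q := fun q hq => by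
    obtain ⟨k, hk⟩ := Q.κ_surj ⟨q, mem_centralizer_singleton_iff.2 hq.eq⟩
    exact ⟨k, congrArg Subtype.val hk⟩
  have heq : ∀ k l : Fi23Cent.Cz.Kc z a, Q.κ k = Q.κ l →
      (k : G) = l ∨ (k : G) = (l : G) * a := fun k l e => by
    have h1 : Q.κ (l⁻¹ * k) = 1 := by rw [map_mul, map_inv, e, inv_mul_cancel]
    rcases (Q.κ_one _).1 h1 with r | r <;> push_cast at r
    · exact Or.inl (inv_mul_eq_one.1 r).symm
    · exact Or.inr (inv_mul_eq_iff_eq_mul.1 r)
  have hphc : ∀ k l : Fi23Cent.Cz.Kc z a, Q.κ k = Q.κ l → D.ph k = D.ph l := fun k l e => by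
    rcases heq k l e with r | r <;> rw [r]
    rw [D.ph_mul _ (hk l) _ D.a_mem_H0, (D.ph_J a D.a_mem_H0).2 D.a_mem, mul_one]
  have hmemJ : ∀ k l : Fi23Cent.Cz.Kc z a, Q.κ k = Q.κ l → (l : G) ∈ D.J → (k : G) ∈ D.J ∧
      D.pr k = D.pr l := fun k l e hl => by
    rcases heq k l e with r | r <;> rw [r]
    · exact ⟨hl, rfl⟩
    · exact ⟨mul_mem hl D.a_mem, by rw [D.pr_mul _ hl _ D.a_mem, D.pr_a, add_zero]⟩
  let ph' : Qt a → U4 := fun q => if h : Commute q Q.zq then D.ph (hlift q h).choose else 1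
  have hval : ∀ k : Fi23Cent.Cz.Kc z a, Commute (Q.κ k : Qt a) Q.zq := fun k =>
    mem_centralizer_singleton_iff.1 (Q.κ k).2
  have hph : ∀ k : Fi23Cent.Cz.Kc z a, ph' (Q.κ k : Qt a) = D.ph k := fun k => by
    show dite _ _ _ = _
    rw [dif_pos (hval k)]
    exact hphc _ _ (Subtype.ext (hlift _ (hval k)).choose_spec)
  let pr' : Qt a → V := fun q => if h : Commute q Q.zq then D.pr (hlift q h).choose else 0
  have hpr : ∀ k : Fi23Cent.Cz.Kc z a, (k : G) ∈ D.J → pr' (Q.κ k : Qt a) = D.pr k := fun k hk => by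
    show dite _ _ _ = _
    rw [dif_pos (hval k)]
    exact (hmemJ _ k (Subtype.ext (hlift _ (hval k)).choose_spec) hk).2
  have hJK : D.J ≤ Fi23Cent.Cz.Kc z a := fun j hj => Fi23Cent.Cz.mem_Kc.2 ⟨D.J_comm j hj, D.J_comm_a j hj⟩
  have hzq : (Q.κ ⟨z, hJK D.z_mem⟩ : Qt a) = Q.zq := (Q.κ_val _).trans Q.zq_def.symm
  set J' : Subgroup (Qt a) := ((D.J.subgroupOf (Fi23Cent.Cz.Kc z a)).map Q.κ).map
    (centralizer ({Q.zq} : Set (Qt a))).subtype
  have hJ' : ∀ x ∈ J', ∃ k : Fi23Cent.Cz.Kc z a, (k : G) ∈ D.J ∧ (Q.κ k : Qt a) = x := by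
    rintro _ ⟨_, ⟨k, hk, rfl⟩, rfl⟩
    exact ⟨k, hk, rfl⟩
  have hmk : ∀ k : Fi23Cent.Cz.Kc z a, (k : G) ∈ D.J → (Q.κ k : Qt a) ∈ J' := fun k hk =>
    mem_map_of_mem _ (mem_map_of_mem _ (mem_subgroupOf.2 hk))
  refine ⟨{
    z_sq := by rw [← pow_two, ← Q.zq_ord, pow_orderOf_eq_one]
    z_ne := fun h => by have := Q.zq_ord; rw [h, orderOf_one] at this; omega
    J := J'
    J_comm := fun x hx => by obtain ⟨k, -, rfl⟩ := hJ' x hx; exact hval k
    z_mem := hzq ▸ hmk ⟨z, hJK D.z_mem⟩ D.z_mem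
    ph := ph'
    ph_mul := fun p q hp hq => by
      obtain ⟨k, rfl⟩ := hlift p hp
      obtain ⟨l, rfl⟩ := hlift q hq
      rw [hph, hph, show (Q.κ k : Qt a) * Q.κ l = (Q.κ (k * l) : Qt a) by rw [map_mul]; rfl, hph]
      exact D.ph_mul _ (hk k) _ (hk l)
    ph_J := fun p hp => by
      obtain ⟨k, rfl⟩ := hlift p hp
      rw [hph, D.ph_J _ (hk k)]
      refine ⟨hmk k, fun h => ?_⟩
      obtain ⟨l, hl, e⟩ := hJ' _ h
      exact (hmemJ k l (Subtype.ext e.symm) hl).1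
    ph_surj := fun u => by
      obtain ⟨g, hg, rfl⟩ := D.ph_surj u
      exact ⟨_, hval ⟨g, Fi23Cent.Cz.mem_Kc.2 ⟨D.H0_comm g hg, D.H0_comm_a g hg⟩⟩, hph _⟩
    pr := pr'
    pr_mul := fun p hp q hq => by
      obtain ⟨k, hk', rfl⟩ := hJ' p hp
      obtain ⟨l, hl', rfl⟩ := hJ' q hq
      rw [hpr k hk', hpr l hl', show (Q.κ k : Qt a) * Q.κ l = (Q.κ (k * l) : Qt a) by rw [map_mul]; rfl,
        hpr (k * l) (mul_mem hk' hl')]
      exact D.pr_mul _ hk' _ hl'
    pr_zero := fun p hp => by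
      obtain ⟨k, hk', rfl⟩ := hJ' p hp
      rw [hpr k hk', D.pr_zero _ hk']
      have h1 : (Q.κ k : Qt a) = 1 ↔ ((k : G) = 1 ∨ (k : G) = a) := by
        rw [← Q.κ_one k]
        exact ⟨fun h => Subtype.ext h, fun h => congrArg Subtype.val h⟩
      have h2 : (Q.κ k : Qt a) = Q.zq ↔ ((k : G) = z ∨ (k : G) = a * z) := by
        refine Iff.trans (b := (Q.κ k : Qt a) = (Q.κ ⟨z, hJK D.z_mem⟩ : Qt a))
          ⟨fun h => h.trans hzq.symm, fun h => h.trans hzq⟩ ?_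
        constructor
        · intro h
          refine (heq k ⟨z, hJK D.z_mem⟩ (Subtype.ext h)).imp id fun r => ?_
          rw [r, D.a_comm_z.eq]
        · rintro (r | r)
          · rw [show k = ⟨z, hJK D.z_mem⟩ from Subtype.ext r]
          · have e : Q.κ ((⟨z, hJK D.z_mem⟩ : Fi23Cent.Cz.Kc z a)⁻¹ * k) = 1 := (Q.κ_one _).2 (Or.inr (by
              push_cast
              rw [r, D.z_inv, ← mul_assoc, ← D.a_comm_z.eq, mul_assoc, D.z_sq, mul_one]))
            rw [map_mul, map_inv, inv_mul_eq_one] at e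
            rw [e]
      rw [h1, h2]
      tauto
    pr_surj := fun v => by
      obtain ⟨j, hj, rfl⟩ := D.pr_surj v
      exact ⟨_, hmk ⟨j, hJK hj⟩ hj, hpr _ hj⟩
    sq := fun p hp => by
      obtain ⟨k, hk', rfl⟩ := hJ' p hp
      rw [hpr k hk']
      have h := D.sq _ hk'
      split_ifs at h ⊢ with hq
      · rw [show (Q.κ k : Qt a) * Q.κ k = (Q.κ (k * k) : Qt a) by rw [map_mul]; rfl,
          (Q.κ_one _).2 (Or.inl h)]
        rfl
      · rw [show (Q.κ k : Qt a) * Q.κ k = (Q.κ (k * k) : Qt a) by rw [map_mul]; rfl,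
          show k * k = ⟨z, hJK D.z_mem⟩ from Subtype.ext h, hzq]
    comm := fun p hp q hq => by
      obtain ⟨k, hk', rfl⟩ := hJ' p hp
      obtain ⟨l, hl', rfl⟩ := hJ' q hq
      rw [hpr k hk', hpr l hl']
      have h := D.comm _ hk' _ hl'
      split_ifs at h ⊢ with hB
      · rw [show (Q.κ k : Qt a) * Q.κ l = (Q.κ (k * l) : Qt a) by rw [map_mul]; rfl,
          show k * l = l * k from Subtype.ext h, map_mul]
        rfl
      · rw [show (Q.κ k : Qt a) * Q.κ l = (Q.κ (k * l) : Qt a) by rw [map_mul]; rfl,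
          show k * l = l * k * ⟨z, hJK D.z_mem⟩ from Subtype.ext h, map_mul, map_mul]
        exact congrArg (fun t : Qt a => (Q.κ l : Qt a) * (Q.κ k : Qt a) * t) hzq
    pr_act := fun p hp q hq => by
      obtain ⟨k, rfl⟩ := hlift p hp
      obtain ⟨l, hl', rfl⟩ := hJ' q hq
      have hm : ((k * l * k⁻¹ : Fi23Cent.Cz.Kc z a) : G) ∈ D.J :=
        D.J_norm _ (Fi23Cent.Cz.mem_Kc.1 k.2).1 _ hl'
      rw [show (Q.κ k : Qt a) * Q.κ l * (Q.κ k : Qt a)⁻¹ = (Q.κ (k * l * k⁻¹) : Qt a) by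
        rw [map_mul, map_mul, map_inv]; rfl, hpr _ hm, hph, hpr l hl']
      exact D.pr_act _ (hk k) _ hl' }⟩

/-- With a swapping element the centre is isolated in the centraliser of `a`, or that is the unitary group. -/
theorem swap_cases (hS : D.Swap) :
    D.Iso ∨ (R.IsNat ∧ ∃ (K : Type) (_ : Field K) (_ : Fintype K), Fintype.card K = 4 ∧
      Nonempty (Qt a ≃* Cfsg.PSU 6 K 2)) := by
  obtain ⟨Q, ⟨Dq⟩⟩ := D.exists_qcd hS
  set π : ↥(centralizer ({a} : Set G)) →* Qt a := QuotientGroup.mk' _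
  have iso : (∀ x, Mem Q.zq x → Commute x Q.zq → x = Q.zq) → D.Iso := by
    intro h g hg hx
    let g' : centralizer ({a} : Set G) := ⟨g, mem_centralizer_singleton_iff.2 hg.eq⟩
    have hzq : π ⟨z, Q.zC⟩ = Q.zq := Q.zq_def.symm
    have h1 : π (g' * ⟨z, Q.zC⟩ * g'⁻¹) = π g' * Q.zq * (π g')⁻¹ := by rw [map_mul, map_mul, map_inv, hzq]
    have h2 := h _ ⟨π g', rfl⟩ (by
      rw [← h1, ← hzq]
      exact Commute.map (show Commute (g' * ⟨z, Q.zC⟩ * g'⁻¹) ⟨z, Q.zC⟩ from Subtype.ext hx.eq) π)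
    rw [← h1, ← hzq, ← inv_mul_eq_one, ← map_inv, ← map_mul] at h2
    have h3 := D.pow_a (mem_subgroupOf.1 ((QuotientGroup.eq_one_iff _).1 h2))
    push_cast at h3
    rcases h3 with r | r
    · exact inv_mul_eq_one.1 r
    · exfalso
      have r1 : (g : G) * z * g⁻¹ = z * a⁻¹ := by
        rw [← r]; show _ = z * ((g * z * g⁻¹)⁻¹ * z)⁻¹; group
      exact D.z_not_az g (by rw [r1, D.a_inv, D.a_comm_z.eq])
  rcases R.shapes with hN | hT
  · obtain ⟨D4⟩ := Dq.exists_natural hN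
    by_cases hn : HasNb Q.zq
    · exact Or.inr ⟨hN, D4.iso_of_nb hn⟩
    · refine Or.inl (iso fun x hx hcx => ?_)
      by_contra hne
      exact hn ⟨x, hx, hcx, hne⟩
  · exact Or.inl (iso fun x hx hcx => Dq.tri_isolated hT hx hcx)

/-- Without a swapping element the centre is isolated in the centraliser of `a`, or that has the unitary group
in index two. -/
theorem fix_cases {F : Type*} [Field F] [Fintype F] (hF : Fintype.card F = 3)
    {K : Type*} [Field K] [Fintype K] (hK : Fintype.card K = 4) (hS : ¬ D.Swap)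
    (hJ : D.J = (Cfsg.pCore 2 ↥(centralizer ({z} : Set G))).map (centralizer ({z} : Set G)).subtype)
    [hJn : (Cfsg.pCore 2 ↥(centralizer ({z} : Set G))).Normal]
    (e : (↥(centralizer ({z} : Set G)) ⧸ Cfsg.pCore 2 ↥(centralizer ({z} : Set G))) ≃* MulAut (Cfsg.PSp 2 F))
    (E : Subgroup G) (hE : Cfsg.IsExtraspecial 2 E) (hEc : Nat.card E = 2 ^ 9) (hEJ : E ≤ D.J) (haE : a ∉ E)
    (hEa : ∀ j ∈ D.J, j ∈ E ∨ j * a ∈ E) :
    D.Iso ∨ ∃ G₀ : Subgroup (Qt a), G₀.index = 2 ∧ Nonempty (↥G₀ ≃* Cfsg.PSU 6 K 2) ∧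
      centralizer (G₀ : Set (Qt a)) = ⊥ := by
  classical
  haveI : Fact (Nat.Prime 2) := ⟨Nat.prime_two⟩
  obtain ⟨Q⟩ := D.exists_qfacts
  have hza : ∀ g, Commute g z → Commute g a := fun g hg => by
    by_contra h
    exact hS ⟨g, hg, fun r => h (mul_inv_eq_iff_eq_mul.1 r)⟩
  set CQ := centralizer ({Q.zq} : Set (Qt a))
  set Kk := Fi23Cent.Cz.Kc z a
  let ι : ↥(centralizer ({z} : Set G)) →* ↥Kk := Subgroup.inclusion fun g hg =>
    Fi23Cent.Cz.mem_Kc.2 ⟨mem_centralizer_singleton_iff.1 hg, hza g (mem_centralizer_singleton_iff.1 hg)⟩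
  let f : ↥(centralizer ({z} : Set G)) →* ↥CQ := Q.κ.comp ι
  have hιs : Function.Surjective ι := fun k => ⟨⟨k, mem_centralizer_singleton_iff.2 (Fi23Cent.Cz.mem_Kc.1 k.2).1.eq⟩,
    Subtype.ext rfl⟩
  have hfs : Function.Surjective f := Q.κ_surj.comp hιs
  set J0 := Cfsg.pCore 2 ↥(centralizer ({z} : Set G))
  have hJ0 : ∀ x : centralizer ({z} : Set G), x ∈ J0 ↔ (x : G) ∈ D.J := fun x => by
    rw [hJ]
    exact ⟨mem_map_of_mem _, fun ⟨y, hy, e'⟩ => (show y = x from Subtype.ext e') ▸ hy⟩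
  have hf1 : ∀ x, f x = 1 ↔ ((x : G) = 1 ∨ (x : G) = a) := fun x => Q.κ_one (ι x)
  have hker : ∀ x, f x = 1 → x ∈ J0 := fun x h => by
    rcases (hf1 x).1 h with r | r
    · exact (show x = 1 from Subtype.ext r) ▸ one_mem _
    · exact (hJ0 x).2 (r ▸ D.a_mem)
  have hcore : Cfsg.pCore 2 ↥CQ = J0.map f := by
    refine le_antisymm (fun q hq => ?_) (Solvable.le_pCore 2 (hJn.map f hfs) ((Solvable.isPGroup_pCore 2).map f))
    obtain ⟨x, rfl⟩ := hfs q
    refine mem_map_of_mem f ?_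
    set S := (Cfsg.pCore 2 ↥CQ).comap f
    refine Solvable.le_pCore 2 (N := S) ((Solvable.pCore_normal 2).comap f) ?_ hq
    intro y
    obtain ⟨n, hn⟩ := Solvable.isPGroup_pCore 2 (G := ↥CQ) ⟨_, y.2⟩
    have h1 : f ((y : ↥(centralizer ({z} : Set G))) ^ (2 ^ n)) = 1 := by rw [map_pow]; exact congrArg Subtype.val hn
    refine ⟨n + 1, Subtype.ext (Subtype.ext ?_)⟩
    rw [pow_succ, pow_mul]
    push_cast
    rcases (hf1 _).1 h1 with r | r <;> push_cast at r <;> rw [r]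
    · simp
    · rw [pow_two]; exact D.a_sq
  have hEC : E ≤ centralizer ({z} : Set G) := fun x hx => mem_centralizer_singleton_iff.2 (D.J_comm x (hEJ hx)).eq
  let fE : ↥E →* ↥CQ := f.comp (Subgroup.inclusion hEC)
  have hfE : Function.Injective fE := (injective_iff_map_eq_one fE).2 fun x hx => Subtype.ext (by
    rcases (hf1 _).1 hx with r | r
    · exact r
    · exact absurd ((show (x : G) = a from r) ▸ x.2) haE)
  have hErange : fE.range = Cfsg.pCore 2 ↥CQ := by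
    rw [hcore]
    refine le_antisymm ?_ ?_
    · rintro _ ⟨x, rfl⟩
      exact mem_map_of_mem f ((hJ0 _).2 (hEJ x.2))
    · rintro _ ⟨x, hx, rfl⟩
      rcases hEa _ ((hJ0 x).1 hx) with r | r
      · exact ⟨⟨x, r⟩, rfl⟩
      · refine ⟨⟨_, r⟩, ?_⟩
        have h1 : f ⟨a, mem_centralizer_singleton_iff.2 D.a_comm_z.eq⟩ = 1 := (hf1 _).2 (Or.inr rfl)
        show f ⟨(x : G) * a, _⟩ = f x
        rw [show (⟨(x : G) * a, hEC r⟩ : centralizer ({z} : Set G)) =
          x * ⟨a, mem_centralizer_singleton_iff.2 D.a_comm_z.eq⟩ from rfl, map_mul, h1, mul_one]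
  let eE : ↥E ≃* ↥(Cfsg.pCore 2 ↥CQ) := (MonoidHom.ofInjective hfE).trans (MulEquiv.subgroupCongr hErange)
  haveI hn : (Cfsg.pCore 2 ↥CQ).Normal := Solvable.pCore_normal 2
  let ψ : ↥(centralizer ({z} : Set G)) →* ↥CQ ⧸ Cfsg.pCore 2 ↥CQ := (QuotientGroup.mk' _).comp f
  have hψ : ψ.ker = J0 := by
    ext x
    rw [MonoidHom.mem_ker]
    refine (QuotientGroup.eq_one_iff (f x)).trans ?_
    rw [hcore]
    refine ⟨fun ⟨y, hy, e'⟩ => ?_, mem_map_of_mem f⟩
    have h1 := hker (y⁻¹ * x) (by rw [map_mul, map_inv, e', inv_mul_cancel])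
    have h2 := mul_mem (show y ∈ J0 from hy) h1
    rwa [mul_inv_cancel_left] at h2
  have hC : centralizer ((Cfsg.pCore 2 ↥CQ) : Set ↥CQ) ≤ Cfsg.pCore 2 ↥CQ := by
    intro q hq
    obtain ⟨x, rfl⟩ := hfs q
    rw [hcore] at hq ⊢
    refine mem_map_of_mem f ((hJ0 x).2 ?_)
    have hxz : Commute (x : G) z := mem_centralizer_singleton_iff.1 x.2
    refine D.act_faithful x hxz fun j hj => ?_
    let j' : centralizer ({z} : Set G) := ⟨j, mem_centralizer_singleton_iff.2 (D.J_comm j hj).eq⟩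
    have h2 := mem_centralizer_iff.1 hq _ (mem_map_of_mem f ((hJ0 j').2 hj))
    have h1 : f (x * j' * x⁻¹ * j'⁻¹) = 1 := by
      rw [map_mul, map_mul, map_mul, map_inv, map_inv, ← h2]; group
    have h3 : D.pr ((x : G) * j * (x : G)⁻¹ * j⁻¹) = 0 := by
      rcases (hf1 _).1 h1 with r | r <;> rw [show (x : G) * j * (x : G)⁻¹ * j⁻¹ = _ from r]
      exacts [D.pr_one, D.pr_a]
    rw [D.pr_mul _ (D.J_norm _ hxz j hj) _ (inv_mem hj), D.pr_inv hj] at h3
    exact eq_of_sum_zero h3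
  rcases Cfsg.Agent.S3231.result Q.zq Q.zq_ord hF hK (LargeExtra.isExtraspecial_equiv eE hE)
      (by rw [← Nat.card_congr eE.toEquiv, hEc]) hC
      (((QuotientGroup.quotientKerEquivOfSurjective ψ ((QuotientGroup.mk'_surjective _).comp hfs)).symm.trans
        (QuotientGroup.quotientMulEquivOfEq hψ)).trans e) with h | h
  · exact Or.inr h
  · exact Or.inl (D.iso_of_alpha (Fi23Cent.alpha_of_cover D.a_sq D.a_ne Q h))

end St

end CfsgLib.Fi22Cent
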