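import Cfsg.Agent.Fi22Cent.OuterInvol
import Cfsg.Agent.U62Cent.ExtSplit
import Cfsg.Agent.U62Cent.ExtTriIsolated

/-!
The centraliser of `a` modulo `a` when the centraliser of `z` fixes `a`: coordinates there, isolation in the
reducible case, and a subgroup of index two in the natural case.
-/

set_option autoImplicit false
set_option maxRecDepth 100000
set_option maxHeartbeats 1000000
set_option linter.style.haveILetI false
set_option linter.unusedSectionVars false

open scoped Matrix

namespace CfsgLib.Fi22Cent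

open CfsgLib CfsgLib.U62Cent Subgroup

universe v

theorem index_two_comm {Q : Type*} [Group Q] {M : Subgroup Q} (hMn : M.Normal) (hMi : M.index = 2) (c i : Q) :
    c * i * c⁻¹ * i⁻¹ ∈ M := by
  by_cases hc : c ∈ M
  · rw [show c * i * c⁻¹ * i⁻¹ = c * (i * c⁻¹ * i⁻¹) by group]
    exact mul_mem hc (hMn.conj_mem _ (inv_mem hc) i)
  · have h1 := Subgroup.mul_mem_iff_of_index_two hMi (a := c * i * c⁻¹) (b := i⁻¹)
    refine h1.2 ⟨fun h => inv_mem ?_, fun h => hMn.conj_mem _ ((inv_mem_iff).1 h) c⟩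
    have := hMn.conj_mem _ h c⁻¹
    simpa [mul_assoc] using this

theorem u4_perfect : commutator U4 = ⊤ := by
  haveI := simple_SU4
  rcases (show (commutator U4).Normal from inferInstance).eq_bot_or_eq_top with e | e
  · exfalso
    have hc := (commutator_eq_bot_iff_center_eq_top (G := U4)).1 e
    rw [show Subgroup.center U4 = ⊥ from center_SU4] at hc
    exact bot_ne_top hc
  · exact e

variable {G : Type*} [Group G] [Finite G] {V : Type v} [AddCommGroup V] [Module (ZMod 2) V]
  {z a : G} {R : Rep V}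

namespace St

variable (D : St z a R)

include D

theorem J_le_cent : D.J ≤ centralizer ({a} : Set G) := fun j hj =>
  mem_centralizer_singleton_iff.2 (D.J_comm_a j hj).eq

theorem z_cent : z ∈ centralizer ({a} : Set G) := D.J_le_cent D.z_mem

variable {Q : Type*} [Group Q] [Finite Q] {π : centralizer ({a} : Set G) →* Q}
  (hker : ∀ c, π c = 1 ↔ (c : G) = 1 ∨ (c : G) = a)

include hker

theorem pre_eq {c d : centralizer ({a} : Set G)} (h : π c = π d) : (d : G) = c ∨ (d : G) = c * a := by
  rcases (hker (c⁻¹ * d)).1 (by rw [map_mul, map_inv, h, inv_mul_cancel]) with e | e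
  · rw [Subgroup.coe_mul, Subgroup.coe_inv, inv_mul_eq_one] at e
    exact Or.inl e.symm
  · rw [Subgroup.coe_mul, Subgroup.coe_inv, inv_mul_eq_iff_eq_mul] at e
    exact Or.inr e

/-- What centralises the image of the centre centralises the centre. -/
theorem comm_back {c : centralizer ({a} : Set G)} (h : Commute (π c) (π ⟨z, D.z_cent⟩)) : Commute (c : G) z := by
  rcases D.pre_eq hker (c := (⟨z, D.z_cent⟩ : centralizer ({a} : Set G))) (d := c * ⟨z, D.z_cent⟩ * c⁻¹)
    (by rw [map_mul, map_mul, map_inv, h.eq, mul_inv_cancel_right]) with e | e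
  · exact mul_inv_eq_iff_eq_mul.1 e
  · exact absurd (e.trans D.a_comm_z.eq.symm) (D.z_not_az _)

/-- A conjugate of the centre with the same image is the centre. -/
theorem eq_z {c : centralizer ({a} : Set G)} (h : π c * π ⟨z, D.z_cent⟩ * (π c)⁻¹ = π ⟨z, D.z_cent⟩) :
    (c : G) * z * (c : G)⁻¹ = z :=
  mul_inv_eq_iff_eq_mul.2 (D.comm_back hker (mul_inv_eq_iff_eq_mul.1 h)).eq

theorem z_ne_quot : π ⟨z, D.z_cent⟩ ≠ 1 := fun e => by
  rcases (hker _).1 e with q | q
  exacts [D.z_ne q, D.a_ne_z q.symm]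

variable (hπ : Function.Surjective π) (hC : ∀ h, Commute h z → Commute h a)
include hπ hC

/-- The coordinates in the quotient. -/
theorem quot_ce {h0 : G} (hh0 : Commute h0 z) (hn0 : h0 ∉ D.H0) (hf : IsOuter R (D.actL h0 hh0)) :
    ∃ Dq : Ce (π ⟨z, D.z_cent⟩) R (D.actL h0 hh0),
      Dq.J = (D.J.subgroupOf (centralizer ({a} : Set G))).map π := by
  classical
  let σ : Q → centralizer ({a} : Set G) := fun q => (hπ q).choose
  have hσ : ∀ q, π (σ q) = q := fun q => (hπ q).choose_spec
  have hσc : ∀ c, ((σ (π c) : centralizer ({a} : Set G)) : G) = c ∨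
      ((σ (π c) : centralizer ({a} : Set G)) : G) = c * a := fun c => D.pre_eq hker (hσ _).symm
  let act : Q → (V ≃ₗ[ZMod 2] V) := fun q => if h : Commute (σ q : G) z then D.actL _ h else 1
  have hact : ∀ c : centralizer ({a} : Set G), ∀ hc : Commute (c : G) z, act (π c) = D.actL c hc := by
    intro c hc
    have hs : Commute (σ (π c) : G) z := by
      rcases hσc c with e | e <;> rw [e]
      exacts [hc, hc.mul_left D.a_comm_z]
    refine (dif_pos hs).trans (LinearEquiv.ext fun v => ?_)
    show D.act (σ (π c) : G) v = D.act c v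
    rcases hσc c with e | e <;> rw [e]
    rw [D.act_mul hc D.a_comm_z, D.act_J D.a_mem]
  let pr : Q → V := fun q => D.pr (σ q)
  have hpr : ∀ c : centralizer ({a} : Set G), (c : G) ∈ D.J → pr (π c) = D.pr c := by
    intro c hc
    show D.pr (σ (π c) : G) = _
    rcases hσc c with e | e <;> rw [e]
    rw [D.pr_mul _ hc _ D.a_mem, D.pr_a, add_zero]
  refine ⟨{
    z_sq := by
      rw [← map_mul]
      exact (hker _).2 (Or.inl D.z_sq)
    z_ne := D.z_ne_quot hker
    J := (D.J.subgroupOf (centralizer ({a} : Set G))).map π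
    J_comm := by
      rintro _ ⟨c, hc, rfl⟩
      show π c * π ⟨z, D.z_cent⟩ = π ⟨z, D.z_cent⟩ * π c
      rw [← map_mul, ← map_mul]
      exact congrArg π (Subtype.ext (D.J_comm _ hc).eq)
    z_mem := ⟨_, D.z_mem, rfl⟩
    act := act
    act_mul := fun x y hx hy => by
      obtain ⟨c, rfl⟩ := hπ x
      obtain ⟨d, rfl⟩ := hπ y
      have hc := D.comm_back hker hx
      have hd := D.comm_back hker hy
      rw [← map_mul, hact _ hc, hact _ hd, hact (c * d) (hc.mul_left hd)]
      exact D.actL_mul hc hd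
    act_J := fun x hx => by
      obtain ⟨c, rfl⟩ := hπ x
      have hc := D.comm_back hker hx
      rw [hact _ hc]
      constructor
      · exact fun h => ⟨c, D.mem_J_of_act hc fun v => DFunLike.congr_fun h v, rfl⟩
      · rintro ⟨d, hd, e⟩
        refine LinearEquiv.ext fun v => D.act_J ?_ v
        rcases D.pre_eq hker e with q | q <;> rw [q]
        exacts [hd, mul_mem hd D.a_mem]
    act_range := fun x hx => by
      obtain ⟨c, rfl⟩ := hπ x
      have hc := D.comm_back hker hx
      rw [hact _ hc]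
      by_cases hH : (c : G) ∈ D.H0
      · exact ⟨_, Or.inl (D.actL_H0 hH)⟩
      · have hH' := D.H0_two _ _ hc hh0 hH hn0
        refine ⟨D.ph ((c : G) * h0), Or.inr ?_⟩
        rw [← D.actL_H0 hH', D.actL_mul hc hh0, mul_assoc, hf.sq, mul_one]
    act_surj := fun u => by
      obtain ⟨k, hk, rfl⟩ := D.ph_surj u
      let c : centralizer ({a} : Set G) := ⟨k, mem_centralizer_singleton_iff.2 (D.H0_comm_a k hk).eq⟩
      refine ⟨π c, ?_, (hact c (D.H0_comm k hk)).trans (D.actL_H0 hk)⟩
      show π c * π _ = π _ * π c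
      rw [← map_mul, ← map_mul]
      exact congrArg π (Subtype.ext (D.H0_comm k hk).eq)
    act_out := by
      let c : centralizer ({a} : Set G) := ⟨h0, mem_centralizer_singleton_iff.2 (hC h0 hh0).eq⟩
      refine ⟨π c, ?_, hact c hh0⟩
      show π c * π _ = π _ * π c
      rw [← map_mul, ← map_mul]
      exact congrArg π (Subtype.ext hh0.eq)
    pr := pr
    pr_mul := by
      rintro _ ⟨c, hc, rfl⟩ _ ⟨d, hd, rfl⟩
      change (c : G) ∈ D.J at hc
      change (d : G) ∈ D.J at hd
      rw [← map_mul, hpr c hc, hpr d hd, hpr (c * d) (mul_mem hc hd)]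
      exact D.pr_mul _ hc _ hd
    pr_zero := by
      rintro _ ⟨c, hc, rfl⟩
      change (c : G) ∈ D.J at hc
      rw [hpr c hc, D.pr_zero _ hc]
      constructor
      · rintro (e | e | e | e)
        · exact Or.inl ((hker c).2 (Or.inl e))
        · exact Or.inr (congrArg π (Subtype.ext e))
        · exact Or.inl ((hker c).2 (Or.inr e))
        · refine Or.inr ?_
          have ha : a ∈ centralizer ({a} : Set G) := D.J_le_cent D.a_mem
          rw [show c = ⟨a, ha⟩ * ⟨z, D.z_cent⟩ from Subtype.ext e, map_mul,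
            (hker ⟨a, ha⟩).2 (Or.inr rfl), one_mul]
      · rintro (e | e)
        · rcases (hker c).1 e with q | q
          exacts [Or.inl q, Or.inr (Or.inr (Or.inl q))]
        · rcases D.pre_eq hker e.symm with q | q
          · exact Or.inr (Or.inl q)
          · exact Or.inr (Or.inr (Or.inr (q.trans D.a_comm_z.eq.symm)))
    pr_surj := fun v => by
      obtain ⟨j, hj, rfl⟩ := D.pr_surj v
      exact ⟨π ⟨j, D.J_le_cent hj⟩, ⟨_, hj, rfl⟩, hpr _ hj⟩
    sq := by
      rintro _ ⟨c, hc, rfl⟩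
      change (c : G) ∈ D.J at hc
      rw [hpr c hc]
      have e := D.sq _ hc
      rw [← map_mul]
      split_ifs with hq
      · rw [if_pos hq] at e
        exact (hker _).2 (Or.inl e)
      · rw [if_neg hq] at e
        exact congrArg π (Subtype.ext e)
    comm := by
      rintro _ ⟨c, hc, rfl⟩ _ ⟨d, hd, rfl⟩
      change (c : G) ∈ D.J at hc
      change (d : G) ∈ D.J at hd
      rw [hpr c hc, hpr d hd]
      have e := D.comm _ hc _ hd
      rw [← map_mul, ← map_mul, ← map_mul]
      split_ifs with hq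
      · rw [if_pos hq] at e
        exact congrArg π (Subtype.ext e)
      · rw [if_neg hq] at e
        exact congrArg π (Subtype.ext e)
    pr_act := by
      intro x hx _ hy
      obtain ⟨d, hd, rfl⟩ := hy
      obtain ⟨c, rfl⟩ := hπ x
      have hc := D.comm_back hker hx
      rw [hact _ hc, ← map_inv, ← map_mul, ← map_mul, hpr d hd, hpr (c * d * c⁻¹) (D.J_norm _ hc _ hd)]
      exact (D.act_pr hc hd).symm }, rfl⟩

/-- In the reducible case the centre is isolated in the centraliser of `a`. -/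
theorem iso_of_tri (hT : R.IsTri) : D.Iso := by
  obtain ⟨h0, hh0, hn0, hf⟩ := D.exists_outer_invol
  obtain ⟨Dq, -⟩ := D.quot_ce hker hπ hC hh0 hn0 hf
  intro g hga hgz
  let c : centralizer ({a} : Set G) := ⟨g, mem_centralizer_singleton_iff.2 hga.eq⟩
  refine D.eq_z hker (c := c) (Dq.tri_isolated hf hT ⟨π c, rfl⟩ ?_)
  rw [← map_inv, ← map_mul, ← map_mul]
  show π _ * π _ = π _ * π _
  rw [← map_mul, ← map_mul]
  exact congrArg π (Subtype.ext hgz.eq)

/-- In the natural case a normal subgroup of index two cuts the centraliser in its inner part. -/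
theorem exists_M (hN : R.IsNat) : ∃ M : Subgroup Q, M.Normal ∧ M.index = 2 ∧
    ∀ c : centralizer ({a} : Set G), Commute (c : G) z → (π c ∈ M ↔ (c : G) ∈ D.H0) := by
  classical
  obtain ⟨h0, hh0, hn0, hf⟩ := D.exists_outer_invol
  obtain ⟨Dq, hJ⟩ := D.quot_ce hker hπ hC hh0 hn0 hf
  obtain ⟨D4, h4⟩ := Dq.exists_natural hf (out_natural hf hN) hN
  obtain ⟨M, hMn, hMi, hJM, d, hd, hdM⟩ := D4.exists_index_two
  rw [h4, hJ] at hJM
  haveI := hMn
  let P : Subgroup U4 :=
    { carrier := {u | ∃ c : centralizer ({a} : Set G), (c : G) ∈ D.H0 ∧ D.ph c = u ∧ π c ∈ M}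
      one_mem' := ⟨1, one_mem _, D.ph_one, by rw [map_one]; exact one_mem M⟩
      mul_mem' := by
        rintro _ _ ⟨c, hc, rfl, hcM⟩ ⟨e, he, rfl, heM⟩
        exact ⟨c * e, mul_mem hc he, D.ph_mul _ hc _ he, by rw [map_mul]; exact mul_mem hcM heM⟩
      inv_mem' := by
        rintro _ ⟨c, hc, rfl, hcM⟩
        exact ⟨c⁻¹, inv_mem hc, D.ph_inv hc, by rw [map_inv]; exact inv_mem hcM⟩ }
  have hP : commutator U4 ≤ P := by
    rw [commutator_def, Subgroup.commutator_le]
    intro p _ q _
    obtain ⟨k, hk, rfl⟩ := D.ph_surj p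
    obtain ⟨l, hl, rfl⟩ := D.ph_surj q
    let c : centralizer ({a} : Set G) := ⟨k, mem_centralizer_singleton_iff.2 (D.H0_comm_a k hk).eq⟩
    let e : centralizer ({a} : Set G) := ⟨l, mem_centralizer_singleton_iff.2 (D.H0_comm_a l hl).eq⟩
    refine ⟨c * e * c⁻¹ * e⁻¹, mul_mem (mul_mem (mul_mem hk hl) (inv_mem hk)) (inv_mem hl), ?_, ?_⟩
    · show D.ph (k * l * k⁻¹ * l⁻¹) = _
      rw [commutatorElement_def, D.ph_mul _ (mul_mem (mul_mem hk hl) (inv_mem hk)) _ (inv_mem hl),
        D.ph_mul _ (mul_mem hk hl) _ (inv_mem hk), D.ph_mul _ hk _ hl, D.ph_inv hk, D.ph_inv hl]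
    · rw [map_mul, map_mul, map_mul, map_inv, map_inv]
      exact index_two_comm hMn hMi _ _
  have hin : ∀ c : centralizer ({a} : Set G), (c : G) ∈ D.H0 → π c ∈ M := by
    intro c hc
    obtain ⟨e, he, hph, heM⟩ := hP (u4_perfect ▸ mem_top (D.ph c) : D.ph c ∈ commutator U4)
    have hJc : ((e⁻¹ * c : centralizer ({a} : Set G)) : G) ∈ D.J := by
      show (e : G)⁻¹ * c ∈ D.J
      refine (D.ph_J _ (mul_mem (inv_mem he) hc)).1 ?_
      rw [D.ph_mul _ (inv_mem he) _ hc, D.ph_inv he, hph, inv_mul_cancel]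
    have h1 : π (e⁻¹ * c) ∈ M := hJM ⟨_, hJc, rfl⟩
    simpa using mul_mem heM h1
  refine ⟨M, hMn, hMi, fun c hc => ⟨fun hcM => ?_, hin c⟩⟩
  by_contra hH
  obtain ⟨e, rfl⟩ := hπ d
  have hez : Commute (e : G) z := D.comm_back hker (mem_centralizer_singleton_iff.1 hd)
  refine hdM ?_
  have heH : (e : G) ∉ D.H0 := fun q => hdM (hin e q)
  have := mul_mem (inv_mem hcM) (hin (c * e) (D.H0_two _ _ hc hez hH heH))
  simpa using this

end St

end CfsgLib.Fi22Cent
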