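import Cfsg.Agent.U62Cent.Pair
import Cfsg.Agent.U62Cent.TriFour

/-!
An involution centraliser whose radical is the product of a group of order two with an extraspecial group of
order `2⁹`, over the unitary group in four variables, possibly extended.
-/

set_option autoImplicit false
set_option maxRecDepth 100000
set_option maxHeartbeats 1000000
set_option linter.style.haveILetI false
set_option linter.unusedSectionVars false

namespace CfsgLib.Fi22Cent

open CfsgLib CfsgLib.U62Cent Subgroup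

universe v

variable {G : Type*} [Group G] {V : Type v} [AddCommGroup V] [Module (ZMod 2) V]

/-- The centraliser of `z` in coordinates; `a` is the second generator of the centre of the radical. -/
structure St (z a : G) (R : Rep V) where
  z_sq : z * z = 1
  z_ne : z ≠ 1
  a_sq : a * a = 1
  a_ne : a ≠ 1
  a_ne_z : a ≠ z
  /-- The radical. -/
  J : Subgroup G
  J_comm : ∀ j ∈ J, Commute j z
  z_mem : z ∈ J
  a_mem : a ∈ J
  J_comm_a : ∀ j ∈ J, Commute j a
  J_norm : ∀ g, Commute g z → ∀ j ∈ J, g * j * g⁻¹ ∈ J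
  /-- The inner part of the centraliser. -/
  H0 : Subgroup G
  H0_comm : ∀ h ∈ H0, Commute h z
  H0_comm_a : ∀ h ∈ H0, Commute h a
  J_le : J ≤ H0
  H0_two : ∀ g h, Commute g z → Commute h z → g ∉ H0 → h ∉ H0 → g * h ∈ H0
  exists_out : ∃ h, Commute h z ∧ h ∉ H0
  /-- The image in the unitary group. -/
  ph : G → U4
  ph_mul : ∀ g ∈ H0, ∀ h ∈ H0, ph (g * h) = ph g * ph h
  ph_J : ∀ h ∈ H0, (ph h = 1 ↔ h ∈ J)
  ph_surj : ∀ u, ∃ h ∈ H0, ph h = u
  /-- The image in the quotient of the radical by its centre. -/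
  pr : G → V
  pr_mul : ∀ i ∈ J, ∀ j ∈ J, pr (i * j) = pr i + pr j
  pr_zero : ∀ j ∈ J, (pr j = 0 ↔ j = 1 ∨ j = z ∨ j = a ∨ j = a * z)
  pr_surj : ∀ v, ∃ j ∈ J, pr j = v
  sq : ∀ j ∈ J, j * j = if R.q (pr j) = 0 then 1 else z
  comm : ∀ i ∈ J, ∀ j ∈ J, i * j = if R.B (pr i) (pr j) = 0 then j * i else j * i * z
  pr_act : ∀ h ∈ H0, ∀ j ∈ J, pr (h * j * h⁻¹) = R.r (ph h) (pr j)
  act_faithful : ∀ g, Commute g z → (∀ j ∈ J, pr (g * j * g⁻¹) = pr j) → g ∈ J

namespace St

variable {z a : G} {R : Rep V} (D : St z a R)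

/-- No other conjugate of the centre commutes with it inside the centraliser of `a`. -/
def Iso (_D : St z a R) : Prop := ∀ g, Commute g a → Commute (g * z * g⁻¹) z → g * z * g⁻¹ = z

/-- Some element of the centraliser moves `a`. -/
def Swap (_D : St z a R) : Prop := ∃ h, Commute h z ∧ h * a * h⁻¹ ≠ a

include D

theorem z_inv : z⁻¹ = z := inv_eq_of_mul_eq_one_right D.z_sq

theorem a_inv : a⁻¹ = a := inv_eq_of_mul_eq_one_right D.a_sq

theorem a_comm_z : Commute a z := D.J_comm a D.a_mem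

theorem az_ne_one : a * z ≠ 1 := fun e => D.a_ne_z ((mul_eq_one_iff_eq_inv.1 e).trans D.z_inv)

theorem az_ne_z : a * z ≠ z := fun e => D.a_ne (mul_eq_right.1 e)

theorem az_ne_a : a * z ≠ a := fun e => D.z_ne (mul_eq_left.1 e)

theorem az_sq : a * z * (a * z) = 1 := by
  calc a * z * (a * z) = a * (z * a) * z := by group
    _ = a * a * (z * z) := by rw [← D.a_comm_z.eq]; group
    _ = 1 := by rw [D.a_sq, D.z_sq, mul_one]

theorem az_mem : a * z ∈ D.J := mul_mem D.a_mem D.z_mem

theorem a_mem_H0 : a ∈ D.H0 := D.J_le D.a_mem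

theorem z_mem_H0 : z ∈ D.H0 := D.J_le D.z_mem

theorem pr_one : D.pr 1 = 0 := (D.pr_zero 1 (one_mem _)).2 (Or.inl rfl)

theorem pr_z : D.pr z = 0 := (D.pr_zero z D.z_mem).2 (Or.inr (Or.inl rfl))

theorem pr_a : D.pr a = 0 := (D.pr_zero a D.a_mem).2 (Or.inr (Or.inr (Or.inl rfl)))

theorem pr_az : D.pr (a * z) = 0 := (D.pr_zero _ D.az_mem).2 (Or.inr (Or.inr (Or.inr rfl)))

theorem pr_inv {j : G} (hj : j ∈ D.J) : D.pr j⁻¹ = D.pr j := by
  have h := D.pr_mul _ (inv_mem hj) _ hj
  rw [inv_mul_cancel, D.pr_one] at h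
  exact eq_of_sum_zero h.symm

theorem sq_cases {j : G} (hj : j ∈ D.J) : j * j = 1 ∨ j * j = z := by
  rw [D.sq j hj]; split_ifs <;> simp

theorem pow_four {j : G} (hj : j ∈ D.J) : j * j * (j * j) = 1 := by
  rcases D.sq_cases hj with e | e <;> simp [e, D.z_sq]

theorem comm_iff {i j : G} (hi : i ∈ D.J) (hj : j ∈ D.J) : Commute i j ↔ R.B (D.pr i) (D.pr j) = 0 := by
  constructor
  · intro h
    by_contra h0
    have e := D.comm i hi j hj
    rw [if_neg h0, h.eq] at e
    exact D.z_ne (mul_eq_left.1 e.symm)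
  · intro h
    have e := D.comm i hi j hj
    rwa [if_pos h] at e

theorem comm_z {i j : G} (hi : i ∈ D.J) (hj : j ∈ D.J) (h : R.B (D.pr i) (D.pr j) ≠ 0) :
    i * j * i⁻¹ = j * z := by
  rw [D.comm i hi j hj, if_neg h, mul_assoc j i z, (D.J_comm i hi).eq]
  group

theorem invol_iff {j : G} (hj : j ∈ D.J) : j * j = 1 ↔ R.q (D.pr j) = 0 := by
  constructor
  · intro h
    by_contra h0
    have e := D.sq j hj
    rw [if_neg h0, h] at e
    exact D.z_ne e.symm
  · intro h
    have e := D.sq j hj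
    rwa [if_pos h] at e

theorem eq_of_pr {i j : G} (hi : i ∈ D.J) (hj : j ∈ D.J) (h : D.pr i = D.pr j) :
    ∃ c, (c = 1 ∨ c = z ∨ c = a ∨ c = a * z) ∧ j = i * c := by
  refine ⟨i⁻¹ * j, (D.pr_zero _ (mul_mem (inv_mem hi) hj)).1 ?_, (mul_inv_cancel_left i j).symm⟩
  rw [D.pr_mul _ (inv_mem hi) _ hj, D.pr_inv hi, h, two_self]

theorem centre_iff {c : G} (hc : c ∈ D.J) : (∀ j ∈ D.J, Commute c j) ↔ c = 1 ∨ c = z ∨ c = a ∨ c = a * z := by
  constructor
  · intro h
    refine (D.pr_zero c hc).1 (R.nondeg _ fun w => ?_)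
    show R.B (D.pr c) w = 0
    obtain ⟨j, hj, rfl⟩ := D.pr_surj w
    exact (D.comm_iff hc hj).1 (h j hj)
  · intro h j hj
    rcases h with rfl | rfl | rfl | rfl
    exacts [Commute.one_left j, (D.J_comm j hj).symm, (D.J_comm_a j hj).symm,
      ((D.J_comm_a j hj).mul_right (D.J_comm j hj)).symm]

theorem kk_mem {c : G} (h : c = 1 ∨ c = z ∨ c = a ∨ c = a * z) : c ∈ D.J := by
  rcases h with rfl | rfl | rfl | rfl
  exacts [one_mem _, D.z_mem, D.a_mem, D.az_mem]

theorem kk_sq {c : G} (h : c = 1 ∨ c = z ∨ c = a ∨ c = a * z) : c * c = 1 := by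
  rcases h with rfl | rfl | rfl | rfl
  exacts [mul_one 1, D.z_sq, D.a_sq, D.az_sq]

theorem kk_pr {c : G} (h : c = 1 ∨ c = z ∨ c = a ∨ c = a * z) : D.pr c = 0 := (D.pr_zero c (D.kk_mem h)).2 h

theorem kk_H0 {c g : G} (h : c = 1 ∨ c = z ∨ c = a ∨ c = a * z) (hg : g ∈ D.H0) : Commute g c := by
  rcases h with rfl | rfl | rfl | rfl
  exacts [Commute.one_right g, D.H0_comm g hg, D.H0_comm_a g hg, (D.H0_comm_a g hg).mul_right (D.H0_comm g hg)]

/-- The centre of the radical is permuted. -/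
theorem conj_kk {g c : G} (hg : Commute g z) (h : c = 1 ∨ c = z ∨ c = a ∨ c = a * z) :
    g * c * g⁻¹ = 1 ∨ g * c * g⁻¹ = z ∨ g * c * g⁻¹ = a ∨ g * c * g⁻¹ = a * z := by
  refine (D.centre_iff (D.J_norm g hg c (D.kk_mem h))).1 fun j hj => ?_
  have hj' : g⁻¹ * j * g ∈ D.J := by simpa using D.J_norm g⁻¹ hg.inv_left j hj
  have := ((D.centre_iff (D.kk_mem h)).2 h _ hj').map (MulAut.conj g).toMonoidHom
  simpa [MulAut.conj_apply, mul_assoc] using this

theorem conj_z {g : G} (hg : Commute g z) : g * z * g⁻¹ = z := by rw [hg.eq, mul_inv_cancel_right]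

/-- An element of the centraliser moves `a` to itself or to `az`. -/
theorem conj_a {g : G} (hg : Commute g z) : g * a * g⁻¹ = a ∨ g * a * g⁻¹ = a * z := by
  rcases D.conj_kk hg (Or.inr (Or.inr (Or.inl rfl))) with e | e | e | e
  · exact absurd (conj_eq_one_iff.1 e) D.a_ne
  · have h : g * a * g⁻¹ = g * z * g⁻¹ := by rw [e, D.conj_z hg]
    exact absurd (mul_left_cancel (mul_right_cancel h)) D.a_ne_z
  · exact Or.inl e
  · exact Or.inr e

/-! ## The action on the quotient of the radical -/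

/-- A representative of a vector. -/
noncomputable def lift (v : V) : G := (D.pr_surj v).choose

theorem lift_mem (v : V) : D.lift v ∈ D.J := (D.pr_surj v).choose_spec.1

theorem pr_lift (v : V) : D.pr (D.lift v) = v := (D.pr_surj v).choose_spec.2

/-- The action of an element of the centraliser. -/
noncomputable def act (g : G) (v : V) : V := D.pr (g * D.lift v * g⁻¹)

theorem act_pr {g j : G} (hg : Commute g z) (hj : j ∈ D.J) : D.act g (D.pr j) = D.pr (g * j * g⁻¹) := by
  obtain ⟨c, hc, e⟩ := D.eq_of_pr (D.lift_mem (D.pr j)) hj (D.pr_lift _)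
  have h1 := D.conj_kk hg hc
  have e2 : g * j * g⁻¹ = g * D.lift (D.pr j) * g⁻¹ * (g * c * g⁻¹) := by
    conv_lhs => rw [e]
    group
  rw [e2, D.pr_mul _ (D.J_norm g hg _ (D.lift_mem _)) _ (D.kk_mem h1), D.kk_pr h1, add_zero]
  rfl

theorem act_add {g : G} (hg : Commute g z) (v w : V) : D.act g (v + w) = D.act g v + D.act g w := by
  obtain ⟨i, hi, rfl⟩ := D.pr_surj v
  obtain ⟨j, hj, rfl⟩ := D.pr_surj w
  rw [← D.pr_mul i hi j hj, D.act_pr hg (mul_mem hi hj), D.act_pr hg hi, D.act_pr hg hj,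
    ← D.pr_mul _ (D.J_norm g hg i hi) _ (D.J_norm g hg j hj)]
  group

theorem act_zero {g : G} (hg : Commute g z) : D.act g 0 = 0 := by
  rw [← D.pr_one, D.act_pr hg (one_mem _)]; group

theorem act_mul {g h : G} (hg : Commute g z) (hh : Commute h z) (v : V) :
    D.act (g * h) v = D.act g (D.act h v) := by
  obtain ⟨j, hj, rfl⟩ := D.pr_surj v
  rw [D.act_pr (hg.mul_left hh) hj, D.act_pr hh hj, D.act_pr hg (D.J_norm h hh j hj)]
  group

theorem act_one (v : V) : D.act 1 v = v := by
  obtain ⟨j, hj, rfl⟩ := D.pr_surj v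
  rw [D.act_pr (Commute.one_left z) hj]
  group

theorem act_inv {g : G} (hg : Commute g z) (v : V) : D.act g⁻¹ (D.act g v) = v := by
  rw [← D.act_mul hg.inv_left hg, inv_mul_cancel, D.act_one]

theorem act_H0 {h : G} (hh : h ∈ D.H0) (v : V) : D.act h v = R.r (D.ph h) v := by
  obtain ⟨j, hj, rfl⟩ := D.pr_surj v
  rw [D.act_pr (D.H0_comm h hh) hj, D.pr_act h hh j hj]

theorem act_q {g : G} (hg : Commute g z) (v : V) : R.q (D.act g v) = R.q v := by
  obtain ⟨j, hj, rfl⟩ := D.pr_surj v
  rw [D.act_pr hg hj]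
  have hj' := D.J_norm g hg j hj
  rcases (by decide : ∀ b : ZMod 2, b = 0 ∨ b = 1) (R.q (D.pr j)) with e | e
  · rw [e]
    refine (D.invol_iff hj').1 ?_
    rw [show g * j * g⁻¹ * (g * j * g⁻¹) = g * (j * j) * g⁻¹ by group, (D.invol_iff hj).2 e]
    group
  · refine (((by decide : ∀ b : ZMod 2, b = 0 ∨ b = 1) _).resolve_left fun e' => ?_).trans e.symm
    have h1 := (D.invol_iff hj').2 e'
    rw [show g * j * g⁻¹ * (g * j * g⁻¹) = g * (j * j) * g⁻¹ by group, conj_eq_one_iff] at h1
    rw [(D.invol_iff hj).1 h1] at e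
    exact zero_ne_one e

theorem act_B {g : G} (hg : Commute g z) (v w : V) : R.B (D.act g v) (D.act g w) = R.B v w := by
  have h := R.q_add (D.act g v) (D.act g w)
  rw [← D.act_add hg, D.act_q hg, D.act_q hg, D.act_q hg, R.q_add] at h
  exact (add_left_cancel h).symm

theorem act_J {j : G} (hj : j ∈ D.J) (v : V) : D.act j v = v := by
  obtain ⟨i, hi, rfl⟩ := D.pr_surj v
  rw [D.act_pr (D.J_comm j hj) hi, D.pr_mul _ (mul_mem hj hi) _ (inv_mem hj), D.pr_mul _ hj _ hi, D.pr_inv hj,
    add_comm (D.pr j), add_assoc, two_self, add_zero]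

theorem mem_J_of_act {g : G} (hg : Commute g z) (h : ∀ v, D.act g v = v) : g ∈ D.J :=
  D.act_faithful g hg fun j hj => by rw [← D.act_pr hg hj, h]

theorem act_commute {g h : G} (hg : Commute g z) (hh : Commute h z) (e : Commute g h) (v : V) :
    D.act g (D.act h v) = D.act h (D.act g v) := by
  rw [← D.act_mul hg hh, e.eq, D.act_mul hh hg]

theorem act_invol {g : G} (hg : Commute g z) (h2 : g * g = 1) (v : V) : D.act g (D.act g v) = v := by
  rw [← D.act_mul hg hg, h2, D.act_one]

/-- The image of an involution lies in the fixed space. -/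
theorem act_image {g : G} (hg : Commute g z) (h2 : g * g = 1) (v : V) :
    D.act g (D.act g v + v) = D.act g v + v := by
  rw [D.act_add hg, D.act_invol hg h2, add_comm]

/-- An element commuting with an element of the radical fixes its vector. -/
theorem act_fix {g j : G} (hg : Commute g z) (hj : j ∈ D.J) (h : Commute g j) : D.act g (D.pr j) = D.pr j := by
  rw [D.act_pr hg hj, h.eq, mul_inv_cancel_right]

/-! ## The other generator, and conjugation -/

/-- The same with `az` in place of `a`. -/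
def other : St z (a * z) R :=
  { D with
    a_sq := D.az_sq
    a_ne := D.az_ne_one
    a_ne_z := D.az_ne_z
    a_mem := D.az_mem
    J_comm_a := fun j hj => (D.J_comm_a j hj).mul_right (D.J_comm j hj)
    H0_comm_a := fun h hh => (D.H0_comm_a h hh).mul_right (D.H0_comm h hh)
    pr_zero := fun j hj => (D.pr_zero j hj).trans (by
      rw [show a * z * z = a by rw [mul_assoc, D.z_sq, mul_one]]
      tauto) }

/-- Transport by conjugation. -/
noncomputable def conj (g : G) : St (g * z * g⁻¹) (g * a * g⁻¹) R where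
  z_sq := by simp [conj_mul, D.z_sq]
  z_ne := fun e => D.z_ne (conj_eq_one_iff.1 e)
  a_sq := by simp [conj_mul, D.a_sq]
  a_ne := fun e => D.a_ne (conj_eq_one_iff.1 e)
  a_ne_z := fun e => D.a_ne_z (mul_left_cancel (mul_right_cancel e))
  J := D.J.comap (MulAut.conj g⁻¹).toMonoidHom
  J_comm := fun j hj => by
    have h := (D.J_comm _ hj).map (MulAut.conj g).toMonoidHom
    simpa [MulAut.conj_apply, mul_assoc] using h
  z_mem := by simpa [mul_assoc] using D.z_mem
  a_mem := by simpa [mul_assoc] using D.a_mem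
  J_comm_a := fun j hj => by
    have h := (D.J_comm_a _ hj).map (MulAut.conj g).toMonoidHom
    simpa [MulAut.conj_apply, mul_assoc] using h
  J_norm := fun h hh j hj => by
    have h1 := hh.map (MulAut.conj g⁻¹).toMonoidHom
    simp [MulAut.conj_apply, mul_assoc] at h1
    have h2 := D.J_norm _ h1 _ hj
    simpa [mul_assoc] using h2
  H0 := D.H0.comap (MulAut.conj g⁻¹).toMonoidHom
  H0_comm := fun h hh => by
    have h := (D.H0_comm _ hh).map (MulAut.conj g).toMonoidHom
    simpa [MulAut.conj_apply, mul_assoc] using h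
  H0_comm_a := fun h hh => by
    have h := (D.H0_comm_a _ hh).map (MulAut.conj g).toMonoidHom
    simpa [MulAut.conj_apply, mul_assoc] using h
  J_le := Subgroup.comap_mono D.J_le
  H0_two := fun x y hx hy nx ny => by
    have h1 := hx.map (MulAut.conj g⁻¹).toMonoidHom
    have h2 := hy.map (MulAut.conj g⁻¹).toMonoidHom
    simp [MulAut.conj_apply, mul_assoc] at h1 h2
    have := D.H0_two _ _ h1 h2 (by simpa [mul_assoc] using nx) (by simpa [mul_assoc] using ny)
    simpa [mul_assoc] using this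
  exists_out := by
    obtain ⟨h, hh, hn⟩ := D.exists_out
    refine ⟨g * h * g⁻¹, ?_, by simpa [mul_assoc] using hn⟩
    simpa [MulAut.conj_apply] using hh.map (MulAut.conj g).toMonoidHom
  ph := fun x => D.ph (g⁻¹ * x * g)
  ph_mul := fun x hx y hy => by
    have := D.ph_mul _ hx _ hy
    simp [MulAut.conj_apply, mul_assoc] at this
    simpa [mul_assoc] using this
  ph_J := fun x hx => by simpa [mul_assoc] using D.ph_J _ hx
  ph_surj := fun u => by
    obtain ⟨h, hh, rfl⟩ := D.ph_surj u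
    exact ⟨g * h * g⁻¹, by simpa [mul_assoc] using hh, by simp [mul_assoc]⟩
  pr := fun x => D.pr (g⁻¹ * x * g)
  pr_mul := fun x hx y hy => by
    have := D.pr_mul _ hx _ hy
    simp [MulAut.conj_apply, mul_assoc] at this
    simpa [mul_assoc] using this
  pr_zero := fun x hx => by
    have h := D.pr_zero _ hx
    simp only [MulEquiv.coe_toMonoidHom, MulAut.conj_apply, inv_inv] at h
    rw [h]
    have key : ∀ c, g⁻¹ * x * g = c ↔ x = g * c * g⁻¹ := fun c => by
      constructor <;> rintro rfl <;> group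
    rw [key, key, key, key]
    simp [mul_assoc]
  pr_surj := fun v => by
    obtain ⟨j, hj, rfl⟩ := D.pr_surj v
    exact ⟨g * j * g⁻¹, by simpa [mul_assoc] using hj, by simp [mul_assoc]⟩
  sq := fun x hx => by
    have h := D.sq _ hx
    simp only [MulEquiv.coe_toMonoidHom, MulAut.conj_apply, inv_inv] at h
    rw [show x * x = g * (g⁻¹ * x * g * (g⁻¹ * x * g)) * g⁻¹ by group, h]
    split_ifs <;> group
  comm := fun x hx y hy => by
    have h := D.comm _ hx _ hy
    simp only [MulEquiv.coe_toMonoidHom, MulAut.conj_apply, inv_inv] at h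
    rw [show x * y = g * (g⁻¹ * x * g * (g⁻¹ * y * g)) * g⁻¹ by group, h]
    split_ifs <;> group
  pr_act := fun x hx y hy => by
    have h := D.pr_act _ hx _ hy
    simp only [MulEquiv.coe_toMonoidHom, MulAut.conj_apply, inv_inv] at h
    rw [← h]
    congr 1
    group
  act_faithful := fun x hx h => by
    have h1 := hx.map (MulAut.conj g⁻¹).toMonoidHom
    simp [MulAut.conj_apply, mul_assoc] at h1
    have h2 := D.act_faithful _ h1 fun j hj => by
      have := h (g * j * g⁻¹) (by simpa [mul_assoc] using hj)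
      simpa [mul_assoc] using this
    simpa [mul_assoc] using h2

end St

end CfsgLib.Fi22Cent
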