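import Cfsg.Agent.Fi22Cent.SplitInvert

/-!
The centraliser of `a` is perfect.
-/

set_option autoImplicit false
set_option maxRecDepth 100000
set_option maxHeartbeats 1000000
set_option linter.style.haveILetI false
set_option linter.unusedSectionVars false
set_option linter.unusedVariables false

open scoped Matrix

namespace CfsgLib.Fi22Cent

open CfsgLib CfsgLib.U62Cent Subgroup
open CfsgLib.FiLarge (F4 om omp)
open CfsgLib.Fi23Cent (Qt central_normal)
open CfsgLib.Unitary (suMat suMat_mul suMat_one su_ext su_preserves)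
open scoped commutatorElement

attribute [local instance] central_normal

variable {G : Type*} [Group G] [Finite G] {z a : G}

namespace St

variable (D : St z a R4)
include D

/-- A subgroup of odd index containing a two-group with the radical centralises the centre. -/
theorem exists_sylow_z (hS : D.Swap) {y : G} (hy : Commute y z) (hyn : y ∉ D.H0) (hy2 : y * y = 1 ∨ y * y = z) :
    ∃ P : Subgroup G, IsPGroup 2 P ∧ Odd P.index ∧ D.J ≤ P ∧ (∀ p ∈ P, Commute p z) := by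
  classical
  haveI : Fact (Nat.Prime 2) := ⟨Nat.prime_two⟩
  set H := centralizer ({z} : Set G)
  have hJH : D.J ≤ H := fun j hj => mem_centralizer_singleton_iff.2 (D.J_comm j hj).eq
  have hJ2 : IsPGroup 2 D.J := fun x => ⟨2, Subtype.ext (by
    have := D.pow_four x.2
    simpa [pow_succ, mul_assoc] using this)⟩
  obtain ⟨S, hSJ⟩ := (hJ2.of_equiv (Subgroup.subgroupOfEquivOfLe hJH).symm).exists_le_sylow
  obtain ⟨P, hP⟩ := (S.isPGroup'.map H.subtype).exists_le_sylow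
  have hJS : D.J ≤ (S : Subgroup H).map H.subtype := fun j hj => ⟨⟨j, hJH hj⟩, hSJ (mem_subgroupOf.2 hj), rfl⟩
  refine ⟨P, P.isPGroup', ?_, hJS.trans hP, ?_⟩
  · rw [Nat.odd_iff]
    have := P.not_dvd_index
    omega
  -- some conjugate of `y` lies in the Sylow subgroup of the centraliser
  obtain ⟨k, hk, hkS⟩ : ∃ k, Commute k z ∧ k * y * k⁻¹ ∈ (S : Subgroup H).map H.subtype := by
    have hy4 : y ^ (2 ^ 2) = 1 := by
      rcases hy2 with e | e
      · rw [show (2 : ℕ) ^ 2 = 2 * 2 by norm_num, pow_mul, pow_two y, e, one_pow]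
      · rw [show (2 : ℕ) ^ 2 = 2 * 2 by norm_num, pow_mul, pow_two y, e, pow_two, D.z_sq]
    obtain ⟨n, -, hn⟩ := (Nat.dvd_prime_pow Nat.prime_two).1 (orderOf_dvd_of_pow_eq_one hy4)
    let y' : H := ⟨y, mem_centralizer_singleton_iff.2 hy.eq⟩
    obtain ⟨S', hS'⟩ := (IsPGroup.of_card (n := n) (by rw [Nat.card_zpowers, ← hn, ← Subgroup.orderOf_coe]) :
      IsPGroup 2 (zpowers y')).exists_le_sylow
    obtain ⟨k, hk⟩ := MulAction.exists_smul_eq H S' S
    refine ⟨k, mem_centralizer_singleton_iff.1 k.2, k * y' * k⁻¹, ?_, rfl⟩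
    rw [← hk, Sylow.coe_subgroup_smul]
    exact ⟨y', hS' (mem_zpowers y'), rfl⟩
  have hout : ∃ s ∈ P, Commute s z ∧ s ∉ D.H0 := by
    refine ⟨k * y * k⁻¹, hP hkS, (hk.mul_left hy).mul_left hk.inv_left, fun e => hyn ?_⟩
    have := D.conj_H0 hk.inv_left e
    simpa [mul_assoc] using this
  obtain ⟨s, hsP, hsz, hs⟩ := hout
  haveI : Nontrivial (P : Subgroup G) := ⟨⟨z, (hJS.trans hP) D.z_mem⟩, 1, fun e => D.z_ne (congrArg Subtype.val e)⟩
  obtain ⟨⟨w, hw⟩, hw1⟩ : ∃ w : Subgroup.center (P : Subgroup G), w ≠ 1 := by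
    haveI := P.isPGroup'.center_nontrivial
    exact exists_ne 1
  have hcw : ∀ p ∈ P, Commute ((w : P) : G) p := fun p hp =>
    (congrArg Subtype.val (mem_center_iff.1 hw ⟨p, hp⟩)).symm
  have hwz : Commute ((w : P) : G) z := hcw z ((hJS.trans hP) D.z_mem)
  rcases D.mem_kk hwz (fun j hj => hcw j ((hJS.trans hP) hj)) with e | e | e | e
  · exact absurd (Subtype.ext (Subtype.ext e)) hw1
  · exact fun p hp => (e ▸ hcw p hp).symm
  · exact absurd ((D.mem_H0_iff hS).2 ⟨hsz, (e ▸ hcw s hsP).symm⟩) hs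
  · have h1 : Commute s (a * z) := (e ▸ hcw s hsP).symm
    have h2 := h1.mul_right hsz
    rw [mul_assoc, D.z_sq, mul_one] at h2
    exact absurd ((D.mem_H0_iff hS).2 ⟨hsz, h2⟩) hs

/-- If `a` is not a product of commutators, a normal subgroup of index two misses it. -/
theorem split_normal (hS : D.Swap) (hQs : IsSimpleGroup (Qt a)) (hQc : Subgroup.center (Qt a) = ⊥)
    (hsplit : ∀ ha : a ∈ centralizer ({a} : Set G), (⟨a, ha⟩ : centralizer ({a} : Set G)) ∉
      commutator ↥(centralizer ({a} : Set G))) :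
    ∃ M : Subgroup G, M.Normal ∧ M.index = 2 ∧ a ∉ M := by
  classical
  haveI : Fact (Nat.Prime 2) := ⟨Nat.prime_two⟩
  set C := centralizer ({a} : Set G)
  have haC : a ∈ C := mem_centralizer_singleton_iff.2 rfl
  set U0 := commutator ↥C
  set U := U0.map C.subtype
  have hUC : ∀ g ∈ U, Commute g a := by
    rintro _ ⟨x, -, rfl⟩; exact mem_centralizer_singleton_iff.1 x.2
  have haU : a ∉ U := by
    rintro ⟨x, hx, e⟩
    exact hsplit haC ((show x = ⟨a, haC⟩ from Subtype.ext e) ▸ hx)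
  have hcomU : ∀ g h, Commute g a → Commute h a → g * h * g⁻¹ * h⁻¹ ∈ U := fun g h hg hh =>
    ⟨⁅(⟨g, mem_centralizer_singleton_iff.2 hg.eq⟩ : C), ⟨h, mem_centralizer_singleton_iff.2 hh.eq⟩⁆,
      commutator_mem_commutator (mem_top _) (mem_top _), by simp [commutatorElement_def]⟩
  set π : ↥C →* Qt a := QuotientGroup.mk' _
  have hπU : U0.map π = ⊤ := by
    haveI := hQs
    show (commutator ↥C).map π = ⊤
    rw [_root_.commutator_def, Subgroup.map_commutator,
      Subgroup.map_top_of_surjective _ (QuotientGroup.mk'_surjective _), ← _root_.commutator_def]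
    refine (inferInstance : (commutator (Qt a)).Normal).eq_bot_or_eq_top.resolve_left fun h => ?_
    have htop : Subgroup.center (Qt a) = ⊤ := eq_top_iff.2 fun q _ => mem_center_iff.2 fun r => by
      have h2 : ⁅r, q⁆ ∈ commutator (Qt a) := commutator_mem_commutator (mem_top r) (mem_top q)
      rwa [h, Subgroup.mem_bot, commutatorElement_eq_one_iff_mul_comm] at h2
    rw [hQc] at htop
    obtain ⟨p, q, hpq⟩ := exists_pair_ne (Qt a)
    exact hpq ((mem_bot.1 (htop ▸ mem_top p : p ∈ (⊥ : Subgroup (Qt a)))).trans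
      (mem_bot.1 (htop ▸ mem_top q : q ∈ (⊥ : Subgroup (Qt a)))).symm)
  have hdich : ∀ g, Commute g a → g ∈ U ∨ g * a ∈ U := by
    intro g hg
    let g' : C := ⟨g, mem_centralizer_singleton_iff.2 hg.eq⟩
    obtain ⟨u, hu, e⟩ : π g' ∈ U0.map π := hπU ▸ mem_top _
    obtain ⟨w, hw, hw'⟩ := (QuotientGroup.mk'_eq_mk' _).1 e
    rcases D.pow_a (mem_subgroupOf.1 hw) with r | r
    · left
      refine ⟨u, hu, ?_⟩
      have := congrArg Subtype.val hw'
      push_cast at this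
      rwa [r, mul_one] at this
    · right
      refine ⟨u, hu, ?_⟩
      have := congrArg Subtype.val hw'
      push_cast at this
      rw [r] at this
      show (u : G) = (g' : G) * a
      rw [← this, mul_assoc, D.a_sq, mul_one]
  have hmulU : ∀ g h, Commute g a → Commute h a → (g * h ∈ U ↔ (g ∈ U ↔ h ∈ U)) := by
    intro g h hg hh
    constructor
    · intro hgh
      constructor <;> intro h1
      · simpa using mul_mem (inv_mem h1) hgh
      · simpa using mul_mem hgh (inv_mem h1)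
    · intro hiff
      by_cases h1 : g ∈ U
      · exact mul_mem h1 (hiff.1 h1)
      · have h2 : h ∉ U := fun q => h1 (hiff.2 q)
        have e : g * h = g * a * (h * a) := by
          rw [show g * a * (h * a) = g * (a * h) * a by group, ← hh.eq,
            show g * (h * a) * a = g * h * (a * a) by group, D.a_sq, mul_one]
        rw [e]
        exact mul_mem ((hdich g hg).resolve_left h1) ((hdich h hh).resolve_left h2)
  obtain ⟨i1, hi1, j1, hj1, hB⟩ : ∃ i ∈ D.J, ∃ j ∈ D.J, R4.B (D.pr i) (D.pr j) ≠ 0 := by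
    obtain ⟨i, hi, ei⟩ := D.pr_surj p0
    by_contra hno
    push Not at hno
    refine Fi23Cent.om_ne ?_
    have h0 : p0 = 0 := R4.nondeg _ fun w => by
      obtain ⟨j, hj, rfl⟩ := D.pr_surj w
      rw [← ei]
      exact hno i hi j hj
    exact absurd h0 p0_pt.1
  have hzU : z ∈ U := by
    have h := hcomU i1 j1 (D.J_comm_a _ hi1) (D.J_comm_a _ hj1)
    rwa [show i1 * j1 * i1⁻¹ = j1 * z from D.comm_z hi1 hj1 hB, mul_assoc j1 z, ← (D.J_comm _ (inv_mem hj1)).eq,
      mul_inv_cancel_left] at h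
  have hazU : a * z ∉ U := fun h => haU (by
    have := mul_mem h hzU
    rwa [mul_assoc, D.z_sq, mul_one] at this)
  obtain ⟨y, hyz, hyn, hy2⟩ := D.exists_outer hS
  have hya : y * a * y⁻¹ = a * z := (D.conj_a hyz).resolve_left fun e =>
    hyn ((D.mem_H0_iff hS).2 ⟨hyz, mul_inv_eq_iff_eq_mul.1 e⟩)
  -- the part in the commutator subgroup is normal in the centraliser
  have hinv : ∀ g ∈ D.H0, g ∈ U → y * g * y⁻¹ ∈ U := by
    let Ds : Subgroup G :=
      { carrier := {g | g ∈ D.H0 ∧ (g ∈ U ↔ y * g * y⁻¹ ∈ U)}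
        one_mem' := ⟨one_mem _, by simp [one_mem]⟩
        mul_mem' := fun {g h} hg hh => ⟨mul_mem hg.1 hh.1, by
          rw [hmulU g h (D.H0_comm_a g hg.1) (D.H0_comm_a h hh.1), show y * (g * h) * y⁻¹ =
            y * g * y⁻¹ * (y * h * y⁻¹) by group,
            hmulU _ _ (D.H0_comm_a _ (D.conj_H0 hyz hg.1)) (D.H0_comm_a _ (D.conj_H0 hyz hh.1)), hg.2, hh.2]⟩
        inv_mem' := fun {g} hg => ⟨inv_mem hg.1, by
          rw [inv_mem_iff, show y * g⁻¹ * y⁻¹ = (y * g * y⁻¹)⁻¹ by group, inv_mem_iff]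
          exact hg.2⟩ }
    have hcomD : ∀ g ∈ D.H0, ∀ h ∈ D.H0, g * h * g⁻¹ * h⁻¹ ∈ Ds := fun g hg h hh =>
      ⟨mul_mem (mul_mem (mul_mem hg hh) (inv_mem hg)) (inv_mem hh),
        iff_of_true (hcomU g h (D.H0_comm_a g hg) (D.H0_comm_a h hh)) (by
          rw [show y * (g * h * g⁻¹ * h⁻¹) * y⁻¹ =
            y * g * y⁻¹ * (y * h * y⁻¹) * (y * g * y⁻¹)⁻¹ * (y * h * y⁻¹)⁻¹ by group]
          exact hcomU _ _ (D.H0_comm_a _ (D.conj_H0 hyz hg)) (D.H0_comm_a _ (D.conj_H0 hyz hh)))⟩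
    have hzD : z ∈ Ds := ⟨D.z_mem_H0, iff_of_true hzU (by rwa [hyz.eq, mul_inv_cancel_right])⟩
    have haD : a ∈ Ds := ⟨D.a_mem_H0, iff_of_false haU (by rwa [hya])⟩
    have hJD : ∀ j ∈ D.J, j ∈ Ds := by
      intro j hj
      obtain ⟨w, hw⟩ := dd_span (D.pr j)
      obtain ⟨i, hi, hiw⟩ := D.pr_surj w
      obtain ⟨g, hg, hgd⟩ := D.ph_surj dd
      have hgi : g * i * g⁻¹ ∈ D.J := D.J_norm g (D.H0_comm g hg) i hi
      have hgi' : g * i * g⁻¹ * i⁻¹ ∈ D.J := mul_mem hgi (inv_mem hi)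
      obtain ⟨c, hc, e⟩ := D.eq_of_pr hgi' hj (by
        rw [D.pr_mul _ hgi _ (inv_mem hi), D.pr_inv hi, D.pr_act g hg i hi, hgd, hiw, R4_r, dd_vec, add_comm, hw])
      rw [e]
      refine mul_mem (hcomD g hg i (D.J_le hi)) ?_
      rcases hc with rfl | rfl | rfl | rfl
      exacts [one_mem _, hzD, haD, mul_mem haD hzD]
    intro g hg hgU
    suffices hgD : g ∈ Ds from hgD.2.1 hgU
    have hperf : D.ph g ∈ commutator U4 := by
      haveI := simple_SU4
      have hc : commutator U4 = ⊤ := by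
        refine (inferInstance : (commutator U4).Normal).eq_bot_or_eq_top.resolve_left fun h => ?_
        have htop : Subgroup.center U4 = ⊤ := eq_top_iff.2 fun q _ => mem_center_iff.2 fun r => by
          have h2 : ⁅r, q⁆ ∈ commutator U4 := commutator_mem_commutator (mem_top r) (mem_top q)
          rwa [h, Subgroup.mem_bot, commutatorElement_eq_one_iff_mul_comm] at h2
        rw [center_SU4] at htop
        have h1 := card_SU4
        rw [← Nat.card_congr (Subgroup.topEquiv (G := U4)).toEquiv, ← htop, Subgroup.card_bot] at h1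
        omega
      rw [hc]; exact mem_top _
    let T : Subgroup U4 :=
      { carrier := {u | ∃ d ∈ Ds, D.ph d = u}
        one_mem' := ⟨1, one_mem _, (D.ph_J 1 (one_mem _)).2 (one_mem _)⟩
        mul_mem' := by
          rintro _ _ ⟨d, hd, rfl⟩ ⟨e, he, rfl⟩
          exact ⟨d * e, mul_mem hd he, D.ph_mul d hd.1 e he.1⟩
        inv_mem' := by
          rintro _ ⟨d, hd, rfl⟩
          exact ⟨d⁻¹, inv_mem hd, D.ph_inv hd.1⟩ }
    have hT : commutator U4 ≤ T := by
      rw [_root_.commutator_def, Subgroup.commutator_le]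
      intro p _ q _
      obtain ⟨g1, h1, rfl⟩ := D.ph_surj p
      obtain ⟨g2, h2, rfl⟩ := D.ph_surj q
      refine ⟨g1 * g2 * g1⁻¹ * g2⁻¹, hcomD g1 h1 g2 h2, ?_⟩
      rw [D.ph_mul _ (mul_mem (mul_mem h1 h2) (inv_mem h1)) _ (inv_mem h2),
        D.ph_mul _ (mul_mem h1 h2) _ (inv_mem h1), D.ph_mul _ h1 _ h2, D.ph_inv h1, D.ph_inv h2,
        commutatorElement_def]
    obtain ⟨d, hd, e⟩ := hT hperf
    have h1 : d⁻¹ * g ∈ D.J := (D.ph_J _ (mul_mem (inv_mem hd.1) hg)).1 (by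
      rw [D.ph_mul _ (inv_mem hd.1) _ hg, D.ph_inv hd.1, e, inv_mul_cancel])
    have := mul_mem hd (hJD _ h1)
    rwa [mul_inv_cancel_left] at this
  have hy2U : y * y ∈ D.H0 ∧ y * y ∈ U := by
    rcases hy2 with e | e <;> rw [e]
    exacts [⟨one_mem _, one_mem _⟩, ⟨D.z_mem_H0, hzU⟩]
  have hinv' : ∀ g ∈ D.H0, g ∈ U → y⁻¹ * g * y ∈ D.H0 ∧ y⁻¹ * g * y ∈ U := fun g hg hgU => by
    have h1 : y * g * y⁻¹ ∈ D.H0 := D.conj_H0 hyz hg
    rw [show y⁻¹ * g * y = (y * y)⁻¹ * (y * g * y⁻¹) * (y * y) by group]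
    exact ⟨mul_mem (mul_mem (inv_mem hy2U.1) h1) hy2U.1,
      mul_mem (mul_mem (inv_mem hy2U.2) (hinv g hg hgU)) hy2U.2⟩
  let Qc : Subgroup G :=
    { carrier := {g | (g ∈ D.H0 ∧ g ∈ U) ∨ (g * y ∈ D.H0 ∧ g * y ∈ U)}
      one_mem' := Or.inl ⟨one_mem _, one_mem _⟩
      mul_mem' := by
        rintro g h (⟨g0, gU⟩ | ⟨g0, gU⟩) (⟨h0, hU⟩ | ⟨h0, hU⟩)
        · exact Or.inl ⟨mul_mem g0 h0, mul_mem gU hU⟩
        · exact Or.inr ⟨by rw [mul_assoc]; exact mul_mem g0 h0, by rw [mul_assoc]; exact mul_mem gU hU⟩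
        · refine Or.inr ?_
          obtain ⟨k0, kU⟩ := hinv' h h0 hU
          rw [show g * h * y = g * y * (y⁻¹ * h * y) by group]
          exact ⟨mul_mem g0 k0, mul_mem gU kU⟩
        · refine Or.inl ?_
          obtain ⟨k0, kU⟩ := hinv' _ h0 hU
          rw [show g * h = g * y * (y⁻¹ * (h * y) * y) * (y * y)⁻¹ by group]
          exact ⟨mul_mem (mul_mem g0 k0) (inv_mem hy2U.1), mul_mem (mul_mem gU kU) (inv_mem hy2U.2)⟩
      inv_mem' := by
        rintro g (⟨g0, gU⟩ | ⟨g0, gU⟩)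
        · exact Or.inl ⟨inv_mem g0, inv_mem gU⟩
        · refine Or.inr ?_
          rw [show g⁻¹ * y = y * (g * y)⁻¹ * y⁻¹ * (y * y) by group]
          exact ⟨mul_mem (D.conj_H0 hyz (inv_mem g0)) hy2U.1,
            mul_mem (hinv _ (inv_mem g0) (inv_mem gU)) hy2U.2⟩ }
  have haQ : a ∉ Qc := by
    rintro (⟨-, h⟩ | ⟨h, -⟩)
    · exact haU h
    · exact hyn (by simpa using mul_mem (inv_mem D.a_mem_H0) h)
  have hcover : ∀ g, Commute g z → g ∈ Qc ∨ g * a ∈ Qc := by
    intro g hg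
    by_cases h0 : g ∈ D.H0
    · exact (hdich g (D.H0_comm_a g h0)).imp (fun h => Or.inl ⟨h0, h⟩)
        fun h => Or.inl ⟨mul_mem h0 D.a_mem_H0, h⟩
    have h1 := D.H0_two g y hg hyz h0 hyn
    rcases hdich _ (D.H0_comm_a _ h1) with h | h
    · exact Or.inl (Or.inr ⟨h1, h⟩)
    · refine Or.inr (Or.inr ?_)
      have e : g * a * y = g * y * a * z := by
        have h2 : y⁻¹ * a * y⁻¹⁻¹ = a * z := (D.conj_a hyz.inv_left).resolve_left fun e =>
          hyn (by simpa using inv_mem ((D.mem_H0_iff hS).2 ⟨hyz.inv_left, mul_inv_eq_iff_eq_mul.1 e⟩))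
        rw [inv_inv] at h2
        rw [show g * y * a * z = g * y * (a * z) by group, ← h2]; group
      rw [e]
      exact ⟨mul_mem (mul_mem h1 D.a_mem_H0) D.z_mem_H0, mul_mem h hzU⟩
  obtain ⟨P, hP2, hPi, hJP, hPz⟩ := D.exists_sylow_z hS hyz hyn hy2
  have hidx : (Qc ⊓ P).relIndex P = 2 := by
    show ((Qc ⊓ P).subgroupOf P).index = 2
    refine Subgroup.index_eq_two_iff.2 ⟨⟨a, hJP D.a_mem⟩, fun b => ?_⟩
    have hb : Commute (b : G) z := hPz b b.2
    simp only [mem_subgroupOf, Subgroup.mem_inf, Subgroup.coe_mul]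
    by_cases h : (b : G) ∈ Qc
    · refine Or.inr ⟨⟨h, b.2⟩, fun ⟨h', _⟩ => haQ ?_⟩
      simpa using mul_mem (inv_mem h) h'
    · exact Or.inl ⟨⟨(hcover b hb).resolve_left h, mul_mem b.2 (hJP D.a_mem)⟩, fun ⟨h', _⟩ => h h'⟩
  rcases U62Cent.extremal_transfer_four P (Qc ⊓ P) hPi inf_le_right hidx (u := a)
      (by rw [show (4 : ℕ) = 2 * 2 by norm_num, pow_mul, pow_two a, D.a_sq, one_pow])
      (fun g _ h => absurd (show g⁻¹ * a ^ 2 * g ∈ Qc ⊓ P by rw [pow_two, D.a_sq]; simp [one_mem]) h) with hM | hM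
  · exact hM
  exfalso
  obtain ⟨g, ⟨hgQ, -⟩, hodd⟩ := hM
  obtain ⟨T, hT, hJT, hTc, -⟩ := D.exists_sylow
  set W := P.map (MulAut.conj g).toMonoidHom ⊓ C with hW
  have hW2 : IsPGroup 2 W := (hP2.map _).to_le inf_le_left
  have hnd : ¬ 2 ∣ (W.subgroupOf C).index := fun h => hodd.not_two_dvd_nat (by
    rw [Subgroup.relIndex]; exact h)
  have hTC : T ≤ C := fun t ht => mem_centralizer_singleton_iff.2 (hTc t ht).2.eq
  obtain ⟨S1, hS1⟩ := (hT.of_equiv (Subgroup.subgroupOfEquivOfLe hTC).symm).exists_le_sylow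
  let S2 : Sylow 2 C := (hW2.comap_of_injective _ C.subtype_injective : IsPGroup 2 (W.subgroupOf C)).toSylow hnd
  obtain ⟨m, hm⟩ := MulAction.exists_smul_eq C S1 S2
  have key : ∀ t ∈ T, Commute t (((g⁻¹ * m : G))⁻¹ * z * (g⁻¹ * m)) := by
    intro t ht
    have h1 : m * ⟨t, hTC ht⟩ * m⁻¹ ∈ (S2 : Subgroup C) := by
      rw [← hm, Sylow.coe_subgroup_smul]
      exact ⟨_, hS1 (mem_subgroupOf.2 ht), rfl⟩
    obtain ⟨p, hp, e⟩ := (mem_subgroupOf.1 (show m * ⟨t, hTC ht⟩ * m⁻¹ ∈ W.subgroupOf C from h1)).1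
    have e' : g * p * g⁻¹ = (m : G) * t * (m : G)⁻¹ := e
    have h2 := (hPz p hp).map (MulAut.conj ((g⁻¹ * m : G))⁻¹).toMonoidHom
    simp only [MulEquiv.coe_toMonoidHom, MulAut.conj_apply, inv_inv] at h2
    rwa [show (g⁻¹ * (m : G))⁻¹ * p * (g⁻¹ * m) = (m : G)⁻¹ * (g * p * g⁻¹) * m by group, e',
      show (m : G)⁻¹ * ((m : G) * t * (m : G)⁻¹) * m = t by group] at h2
  set n := (g⁻¹ * (m : G))⁻¹ with hn
  have hnz : n * z * n⁻¹ = (g⁻¹ * (m : G))⁻¹ * z * (g⁻¹ * m) := by rw [hn, inv_inv]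
  have h3 : n * z * n⁻¹ = z := D.central_conj (by rw [hnz]; exact (key z (hJT D.z_mem)).symm)
    fun j hj => by rw [hnz]; exact (key j (hJT hj)).symm
  have hgm : Commute (g⁻¹ * (m : G)) z := by
    have h4 := (show Commute n z from mul_inv_eq_iff_eq_mul.1 h3).inv_left
    rwa [hn, inv_inv] at h4
  have hv : g⁻¹ * (m : G) * a * (g⁻¹ * (m : G))⁻¹ = g⁻¹ * a * g := by
    rw [show g⁻¹ * (m : G) * a * (g⁻¹ * (m : G))⁻¹ = g⁻¹ * ((m : G) * a * (m : G)⁻¹) * g by group,
      (show Commute (m : G) a from mem_centralizer_singleton_iff.1 m.2).eq, mul_inv_cancel_right]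
  rcases D.conj_a hgm with r | r <;> rw [hv] at r <;> rw [r] at hgQ
  · exact haQ hgQ
  · rcases hgQ with ⟨-, h⟩ | ⟨h, -⟩
    · exact hazU h
    · exact hyn (by
        have := mul_mem (inv_mem (mul_mem D.a_mem_H0 D.z_mem_H0)) h
        rwa [inv_mul_cancel_left] at this)

end St

end CfsgLib.Fi22Cent
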