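import Cfsg.Agent.Fi22Cent.Natural
import Cfsg.Agent.Fi22Cent.Quot
import Cfsg.Agent.U62Cent.ExtSplit
import Cfsg.Agent.U62Cent.Transfer

/-!
An outer element of the centraliser squaring into the centre.
-/

set_option autoImplicit false
set_option maxRecDepth 100000
set_option maxHeartbeats 1000000
set_option linter.style.haveILetI false
set_option linter.unusedSectionVars false
set_option linter.unusedVariables false

open scoped Matrix

namespace CfsgLib.Fi22Cent

open CfsgLib CfsgLib.U62Cent Subgroup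
open CfsgLib.FiLarge (F4 om omp)
open CfsgLib.Unitary (suMat suMat_mul suMat_one su_ext su_preserves)

theorem f4_tr : om + om * om = 1 := by decide +kernel

variable {G : Type*} [Group G] [Finite G] {z a : G}

namespace St

variable (D : St z a R4)
include D

/-- An outer element with square one or the centre. -/
theorem exists_outer (hS : D.Swap) : ∃ y, Commute y z ∧ y ∉ D.H0 ∧ (y * y = 1 ∨ y * y = z) := by
  classical
  obtain ⟨x, hxz, hx⟩ := D.exists_out
  have hlift : ∀ u : U4, ∃ g ∈ D.H0, ∀ v, D.act g v = suMat u *ᵥ v := fun u => by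
    obtain ⟨g, hg, rfl⟩ := D.ph_surj u
    exact ⟨g, hg, fun v => by rw [D.act_H0 hg, R4_r]⟩
  rcases semilinear (f := D.actL x hxz) (D.actL_norm hxz) with hl | hl
  · exfalso
    have hl' : ∀ (c : F4) (v : V4), D.act x (c • v) = c • D.act x v := hl
    obtain ⟨d, u, hd, hL⟩ := linear_natural
      { toFun := D.act x, map_add' := D.act_add hxz, map_smul' := hl' }
      (fun v w e => by
        have h := congrArg (D.act x⁻¹) (show D.act x v = D.act x w from e)
        rwa [D.act_inv hxz, D.act_inv hxz] at h)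
      (fun v => D.act_q hxz v)
    obtain ⟨g, hg, hgu⟩ := hlift u⁻¹
    have hgz := D.H0_comm g hg
    have hy : ∀ v, D.act (g * x) v = d • v := fun v => by
      rw [D.act_mul hgz hxz, hgu, show D.act x v = d • (suMat u *ᵥ v) from hL v, Matrix.mulVec_smul,
        Matrix.mulVec_mulVec, ← suMat_mul, inv_mul_cancel, suMat_one, Matrix.one_mulVec]
    have hyz := hgz.mul_left hxz
    have hy0 : g * x ∉ D.H0 := fun e => hx (by
      have := mul_mem (inv_mem hg) e
      rwa [inv_mul_cancel_left] at this)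
    have h2 := D.sq_mem_H0 hyz
    have hdd : d * d = 1 := Fi23Cent.scalar_elt (u := D.ph (g * x * (g * x))) fun v => by
      rw [← R4_r, ← D.act_H0 h2, D.act_mul hyz hyz, hy, hy, smul_smul]
    have hd1 : d = 1 := by
      exact (show ∀ d : F4, d * d = 1 → d = 1 by decide +kernel) d hdd
    exact hy0 (D.J_le (D.mem_J_of_act hyz fun v => by rw [hy, hd1, one_smul]))
  have hl' : ∀ (c : F4) (v : V4), D.act x (c • v) = (c * c) • D.act x v := hl
  obtain ⟨d, u, hd, hL⟩ := linear_natural
    { toFun := fun v => tauF (D.act x v)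
      map_add' := fun v w => by rw [D.act_add hxz, map_add]
      map_smul' := fun c v => by
        rw [hl', tauF_smul, show c * c * (c * c) = c from (by decide +kernel : ∀ c : F4, c * c * (c * c) = c) c]
        rfl }
    (fun v w e => by
      have h := congrArg (D.act x⁻¹) (tauF.injective (show tauF (D.act x v) = tauF (D.act x w) from e))
      rwa [D.act_inv hxz, D.act_inv hxz] at h)
    (fun v => by
      show qn4 (tauF (D.act x v)) = qn4 v
      rw [tauF_apply, qn4_tauF]
      exact D.act_q hxz v)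
  obtain ⟨g, hg, hgu⟩ := hlift u⁻¹
  have hgz := D.H0_comm g hg
  set y0 := x * g with hy0
  have hy0z : Commute y0 z := hxz.mul_left hgz
  have hy0n : y0 ∉ D.H0 := fun e => hx (by
    have := mul_mem e (inv_mem hg)
    rwa [hy0, mul_inv_cancel_right] at this)
  have hact : ∀ v, D.act y0 v = (d * d) • tauF v := fun v => by
    rw [hy0, D.act_mul hxz hgz, hgu]
    have h := hL (suMat u⁻¹ *ᵥ v)
    rw [Matrix.mulVec_mulVec, ← suMat_mul, mul_inv_cancel, suMat_one, Matrix.one_mulVec] at h
    have h' := congrArg tauF (show tauF (D.act x (suMat u⁻¹ *ᵥ v)) = d • v from h)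
    rwa [show tauF (tauF (D.act x (suMat u⁻¹ *ᵥ v))) = D.act x (suMat u⁻¹ *ᵥ v) from tauF.left_inv _,
      tauF_smul] at h'
  have hinv : ∀ v, D.act y0 (D.act y0 v) = v := fun v => by
    rw [hact, hact, tauF_smul, smul_smul, show tauF (tauF v) = v from tauF.left_inv v,
      (show ∀ d : F4, d ≠ 0 → d * d * (d * d * (d * d)) = 1 by decide +kernel) d hd, one_smul]
  have hsq : y0 * y0 ∈ D.J := D.mem_J_of_act (hy0z.mul_left hy0z) fun v => by rw [D.act_mul hy0z hy0z, hinv]
  set v := D.pr (y0 * y0) with hv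
  have hfix : D.act y0 v = v := by
    rw [hv, D.act_pr hy0z hsq]
    congr 1
    group
  obtain ⟨j, hj, hjv⟩ := D.pr_surj (om • v)
  set y := y0 * j with hy
  have hyz : Commute y z := hy0z.mul_left (D.J_comm j hj)
  have hyn : y ∉ D.H0 := fun e => hy0n (by
    have := mul_mem e (inv_mem (D.J_le hj))
    rwa [hy, mul_inv_cancel_right] at this)
  have hjc : y0⁻¹ * j * y0 ∈ D.J := by
    have := D.J_norm _ hy0z.inv_left j hj
    rwa [inv_inv] at this
  have hprc : D.pr (y0⁻¹ * j * y0) = (om * om) • v := by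
    have h1 := D.act_pr hy0z.inv_left hj
    rw [inv_inv] at h1
    rw [← h1]
    have h2 : D.act y0⁻¹ (D.pr j) = D.act y0 (D.pr j) := by
      conv_lhs => rw [← hinv (D.pr j)]
      exact D.act_inv hy0z _
    rw [h2, hjv, hact, tauF_smul, smul_smul, mul_comm (d * d), ← smul_smul, ← hact, hfix]
  have he : y * y = y0 * y0 * (y0⁻¹ * j * y0) * j := by rw [hy]; group
  have hyJ : y * y ∈ D.J := he ▸ mul_mem (mul_mem hsq hjc) hj
  have hy0' : D.pr (y * y) = 0 := by
    rw [he, D.pr_mul _ (mul_mem hsq hjc) _ hj, D.pr_mul _ hsq _ hjc, hprc, hjv, ← hv, add_assoc, ← add_smul,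
      add_comm (om * om), f4_tr, one_smul, v4_self]
  refine ⟨y, hyz, hyn, ?_⟩
  have hcomm : ∀ c, y * y = c → c ≠ a ∧ c ≠ a * z → c = 1 ∨ c = z := by
    intro c e hc
    rcases (D.pr_zero _ hyJ).1 hy0' with r | r | r | r
    exacts [Or.inl (e.symm.trans r), Or.inr (e.symm.trans r), absurd (e.symm.trans r) hc.1,
      absurd (e.symm.trans r) hc.2]
  refine hcomm _ rfl ⟨fun e => ?_, fun e => ?_⟩
  · exact hyn ((D.mem_H0_iff hS).2 ⟨hyz, e ▸ (Commute.refl y).mul_right (Commute.refl y)⟩)
  · have h1 : Commute y (a * z) := e ▸ (Commute.refl y).mul_right (Commute.refl y)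
    have h2 := h1.mul_right hyz
    rw [mul_assoc, D.z_sq, mul_one] at h2
    exact hyn ((D.mem_H0_iff hS).2 ⟨hyz, h2⟩)

end St

end CfsgLib.Fi22Cent
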