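import Cfsg.Agent.Fi22Cent.Split
import Cfsg.Agent.Invol.IsolatedApps
import Cfsg.Agent.Fi22Cent.Quot
import Cfsg.Agent.Fi23Cent.Endgame
import Cfsg.Agent.S1713
import Cfsg.Agent.S3231

/-!
With a swapping element: the centraliser of `a` is perfect, so the group is the Fischer group.
-/

set_option autoImplicit false
set_option maxRecDepth 100000
set_option maxHeartbeats 1000000
set_option linter.style.haveILetI false
set_option linter.unusedSectionVars false
set_option linter.unusedVariables false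

namespace CfsgLib.Fi22Cent

open CfsgLib CfsgLib.U62Cent Subgroup
open CfsgLib.Fi23Cent (Qt QFacts central_normal)
open scoped commutatorElement

attribute [local instance] central_normal

variable {G : Type*} [Group G] [Finite G] {z a : G}

theorem perfect_of_simple {Q : Type*} [Group Q] [IsSimpleGroup Q] (hc : Subgroup.center Q = ⊥) :
    commutator Q = ⊤ := by
  refine (inferInstance : (commutator Q).Normal).eq_bot_or_eq_top.resolve_left fun h => ?_
  have htop : Subgroup.center Q = ⊤ := eq_top_iff.2 fun q _ => mem_center_iff.2 fun r => by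
    have h2 : ⁅r, q⁆ ∈ commutator Q := commutator_mem_commutator (mem_top r) (mem_top q)
    rwa [h, Subgroup.mem_bot, commutatorElement_eq_one_iff_mul_comm] at h2
  rw [hc] at htop
  obtain ⟨p, q, hpq⟩ := exists_pair_ne Q
  exact hpq ((mem_bot.1 (htop ▸ mem_top p : p ∈ (⊥ : Subgroup Q))).trans
    (mem_bot.1 (htop ▸ mem_top q : q ∈ (⊥ : Subgroup Q))).symm)

namespace St

variable (D : St z a R4)
include D

/-- The second generator is a product of commutators in its centraliser. -/
theorem a_mem_commutator (hS : D.Swap) {F : Type*} [Field F] [Fintype F] (hF : Fintype.card F = 3)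
    {K : Type*} [Field K] [Fintype K] (hK : Fintype.card K = 4) (eQ : Qt a ≃* Cfsg.PSU 6 K 2)
    (hJ : D.J = (Cfsg.pCore 2 ↥(centralizer ({z} : Set G))).map (centralizer ({z} : Set G)).subtype)
    [hJn : (Cfsg.pCore 2 ↥(centralizer ({z} : Set G))).Normal]
    (e : (↥(centralizer ({z} : Set G)) ⧸ Cfsg.pCore 2 ↥(centralizer ({z} : Set G))) ≃* MulAut (Cfsg.PSp 2 F))
    (E : Subgroup G) (hE : Cfsg.IsExtraspecial 2 E) (hEc : Nat.card E = 2 ^ 9) (hEJ : E ≤ D.J) (haE : a ∉ E)
    (hEa : ∀ j ∈ D.J, j ∈ E ∨ j * a ∈ E) :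
    ∀ ha : a ∈ centralizer ({a} : Set G),
      (⟨a, ha⟩ : centralizer ({a} : Set G)) ∈ commutator ↥(centralizer ({a} : Set G)) := by
  classical
  haveI : Fact (Nat.Prime 2) := ⟨Nat.prime_two⟩
  obtain ⟨hs, hcardK, -, hcK⟩ := Fi23Cent.psu_facts hK
  haveI := hs
  haveI : Nontrivial (Qt a) := eQ.toEquiv.nontrivial
  haveI hQs : IsSimpleGroup (Qt a) :=
    IsSimpleGroup.isSimpleGroup_of_surjective eQ.symm.toMonoidHom eQ.symm.surjective
  have hQc : Subgroup.center (Qt a) = ⊥ := eq_bot_iff.2 fun q hq => by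
    have h1 : eQ q ∈ Subgroup.center (Cfsg.PSU 6 K 2) := mem_center_iff.2 fun r => by
      obtain ⟨p, rfl⟩ := eQ.surjective r
      rw [← map_mul, ← map_mul, mem_center_iff.1 hq p]
    rw [hcK, Subgroup.mem_bot, EmbeddingLike.map_eq_one_iff] at h1
    exact Subgroup.mem_bot.2 h1
  intro ha
  by_contra hsplit
  obtain ⟨M, hMn, hMi, haM⟩ := D.split_normal hS hQs hQc fun ha' => hsplit
  haveI := hMn
  set C := centralizer ({a} : Set G) with hC
  set π : ↥C →* Qt a := QuotientGroup.mk' _ with hπ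
  set U0 := commutator ↥C with hU0
  set U := U0.map C.subtype with hU
  have haU0 : ∀ x ∈ U0, (x : G) ≠ a := fun x hx r =>
    hsplit ((show x = ⟨a, ha⟩ from Subtype.ext r) ▸ hx)
  have hπU : U0.map π = ⊤ := by
    show (commutator ↥C).map π = ⊤
    rw [_root_.commutator_def, Subgroup.map_commutator,
      Subgroup.map_top_of_surjective _ (QuotientGroup.mk'_surjective _), ← _root_.commutator_def,
      perfect_of_simple hQc]
  have hπinj : ∀ x ∈ U0, π x = 1 → x = 1 := fun x hx h => Subtype.ext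
    ((D.pow_a (mem_subgroupOf.1 ((QuotientGroup.eq_one_iff x).1 h))).resolve_right (haU0 x hx))
  have hU' : ⁅U, U⁆ = U := by
    rw [hU, ← Subgroup.map_commutator]
    refine le_antisymm (map_mono (commutator_le_self U0)) (map_mono fun x hx => ?_)
    obtain ⟨w, hw, ew⟩ : π x ∈ (⁅U0, U0⁆).map π := by
      rw [Subgroup.map_commutator, hπU, ← _root_.commutator_def, perfect_of_simple hQc]
      exact mem_top _
    have h1 := hπinj _ (mul_mem (inv_mem (commutator_le_self U0 hw)) hx) (by rw [map_mul, map_inv, ew, inv_mul_cancel])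
    rwa [← inv_mul_eq_one.1 h1]
  have hUM : U ≤ ⁅M, M⁆ := by
    have hle : U ≤ M := by
      rintro _ ⟨x, hx, rfl⟩
      let q : ↥C →* G ⧸ M := (QuotientGroup.mk' M).comp C.subtype
      have hab : U0 ≤ q.ker := by
        rw [hU0, _root_.commutator_def, commutator_le]
        intro p _ r _
        rw [MonoidHom.mem_ker, map_commutatorElement, commutatorElement_eq_one_iff_mul_comm]
        haveI : IsCyclic (G ⧸ M) := isCyclic_of_prime_card (p := 2) hMi
        haveI : IsMulCommutative (G ⧸ M) := IsCyclic.isMulCommutative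
        exact mul_comm' _ _
      exact (QuotientGroup.eq_one_iff _).1 (hab hx)
    calc U = ⁅U, U⁆ := hU'.symm
      _ ≤ ⁅M, M⁆ := commutator_mono hle hle
  -- it is enough that the centre fails to be centralised by the derived subgroup
  obtain ⟨Q⟩ := D.exists_qfacts
  have key : (∀ u ∈ U, Commute z u) → False := fun h => by
    have h1 : Q.zq ∈ Subgroup.center (Qt a) := mem_center_iff.2 fun q => by
      obtain ⟨u, hu, rfl⟩ : q ∈ U0.map π := hπU ▸ mem_top q
      have h2 : u * (⟨z, Q.zC⟩ : C) = (⟨z, Q.zC⟩ : C) * u := Subtype.ext (h u (mem_map_of_mem _ hu)).eq.symm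
      have h3 := congrArg π h2
      rw [map_mul, map_mul] at h3
      rw [Q.zq_def]
      exact h3
    rw [hQc, Subgroup.mem_bot] at h1
    have h2 := Q.zq_ord
    rw [h1, orderOf_one] at h2
    omega
  have hzU0 : (⟨z, Q.zC⟩ : C) ∈ U0 := by
    obtain ⟨i, hi, j, hj, hB⟩ : ∃ i ∈ D.J, ∃ j ∈ D.J, R4.B (D.pr i) (D.pr j) ≠ 0 := by
      obtain ⟨i, hi, ei⟩ := D.pr_surj p0
      by_contra hno
      push Not at hno
      have h0 : p0 = 0 := R4.nondeg _ fun w => by
        obtain ⟨j, hj, rfl⟩ := D.pr_surj w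
        rw [← ei]
        exact hno i hi j hj
      exact absurd h0 p0_pt.1
    rw [show (⟨z, Q.zC⟩ : C) = ⁅(⟨i, mem_centralizer_singleton_iff.2 (D.J_comm_a i hi).eq⟩ : C),
      ⟨j, mem_centralizer_singleton_iff.2 (D.J_comm_a j hj).eq⟩⁆ from Subtype.ext (by
        simp only [commutatorElement_def, Subgroup.coe_mul, Subgroup.coe_inv]
        rw [D.comm_z hi hj hB, mul_assoc j z, ← (D.J_comm _ (inv_mem hj)).eq, mul_inv_cancel_left])]
    exact commutator_mem_commutator (mem_top _) (mem_top _)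
  have hzM : z ∈ M := (commutator_le_self M) (hUM (mem_map_of_mem C.subtype hzU0))
  have hMd : ∀ g : G, g ∈ M ∨ g * a ∈ M := fun g => by
    by_cases hg : g ∈ M
    · exact Or.inl hg
    · exact Or.inr ((Subgroup.mul_mem_iff_of_index_two hMi).2 (iff_of_false hg haM))
  -- the centraliser inside the subgroup of index two
  set H := centralizer ({z} : Set G) with hH
  set J0 := Cfsg.pCore 2 ↥H with hJ0d
  have hJ0 : ∀ x : H, x ∈ J0 ↔ (x : G) ∈ D.J := fun x => by
    rw [hJ]
    exact ⟨mem_map_of_mem _, fun ⟨y, hy, e'⟩ => (show y = x from Subtype.ext e') ▸ hy⟩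
  set HM := centralizer ({(⟨z, hzM⟩ : M)} : Set M)
  let ι : ↥HM →* ↥H := (M.subtype.comp HM.subtype).codRestrict _ fun x =>
    mem_centralizer_singleton_iff.2 (congrArg Subtype.val (mem_centralizer_singleton_iff.1 x.2))
  have hιi : Function.Injective ι := fun x y h =>
    Subtype.ext (Subtype.ext (congrArg (fun t : H => (t : G)) h))
  have hlift : ∀ g : G, Commute g z → g ∈ M → ∃ x : HM, ((x : M) : G) = g := fun g hg hgM =>
    ⟨⟨⟨g, hgM⟩, mem_centralizer_singleton_iff.2 (Subtype.ext hg.eq)⟩, rfl⟩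
  set JM := J0.comap ι with hJM
  let ψ : ↥HM →* ↥H ⧸ J0 := (QuotientGroup.mk' J0).comp ι
  have hψk : ψ.ker = JM := by
    rw [show ψ = (QuotientGroup.mk' J0).comp ι from rfl, ← MonoidHom.comap_ker, QuotientGroup.ker_mk']
  have hψs : Function.Surjective ψ := fun q => by
    obtain ⟨x, rfl⟩ := QuotientGroup.mk'_surjective J0 q
    have hxz : Commute (x : G) z := mem_centralizer_singleton_iff.1 x.2
    rcases hMd x with h | h
    · obtain ⟨w, hw⟩ := hlift _ hxz h
      exact ⟨w, congrArg (QuotientGroup.mk' J0) (Subtype.ext hw)⟩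
    · obtain ⟨w, hw⟩ := hlift _ (hxz.mul_left D.a_comm_z) h
      refine ⟨w, (QuotientGroup.mk'_eq_mk' J0).2
        ⟨⟨a, mem_centralizer_singleton_iff.2 D.a_comm_z.eq⟩, (hJ0 _).2 D.a_mem, Subtype.ext ?_⟩⟩
      show ((w : M) : G) * a = (x : G)
      rw [hw, mul_assoc, D.a_sq, mul_one]
  have hcore : Cfsg.pCore 2 ↥HM = JM := by
    refine le_antisymm (fun x hx => ?_) (Solvable.le_pCore 2 (hJn.comap ι)
      ((Solvable.isPGroup_pCore 2).comap_of_injective ι hιi))
    have hn : ((Cfsg.pCore 2 ↥HM).map ψ).Normal := (Solvable.pCore_normal 2).map ψ hψs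
    have h1 := Solvable.le_pCore 2 (hn.comap (QuotientGroup.mk' J0))
      (((Solvable.isPGroup_pCore 2).map ψ).comap_of_ker_isPGroup _
        (by rw [QuotientGroup.ker_mk']; exact Solvable.isPGroup_pCore 2))
      (show ι x ∈ ((Cfsg.pCore 2 ↥HM).map ψ).comap (QuotientGroup.mk' J0) from ⟨x, hx, rfl⟩)
    exact h1
  have hEM : ∀ x : E, ∃ w : JM, ((w : HM) : M).1 = if (x : G) ∈ M then (x : G) else x * a := fun x => by
    have hxJ : (if (x : G) ∈ M then (x : G) else x * a) ∈ D.J := by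
      split_ifs
      exacts [hEJ x.2, mul_mem (hEJ x.2) D.a_mem]
    obtain ⟨w, hw⟩ := hlift _ (D.J_comm _ hxJ) (by
      split_ifs with h
      exacts [h, (hMd x).resolve_left h])
    exact ⟨⟨w, mem_comap.2 ((hJ0 _).2 (show ((w : M) : G) ∈ D.J from hw ▸ hxJ))⟩, hw⟩
  choose f hf using hEM
  have hfmul : ∀ x y : E, f (x * y) = f x * f y := fun x y => by
    refine Subtype.ext (Subtype.ext (Subtype.ext ?_))
    show ((f (x * y) : HM) : M).1 = ((f x : HM) : M).1 * ((f y : HM) : M).1
    rw [hf, hf, hf, Subgroup.coe_mul]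
    have hay : a * (y : G) = y * a := (D.J_comm_a _ (hEJ y.2)).eq.symm
    by_cases hx : (x : G) ∈ M <;> by_cases hy : (y : G) ∈ M
    · rw [if_pos hx, if_pos hy, if_pos (mul_mem hx hy)]
    · rw [if_pos hx, if_neg hy, if_neg (fun h => hy (by simpa using mul_mem (inv_mem hx) h)), mul_assoc]
    · rw [if_neg hx, if_pos hy, if_neg (fun h => hx (by simpa using mul_mem h (inv_mem hy))), mul_assoc (x : G) a,
        hay, ← mul_assoc]
    · rw [if_neg hx, if_neg hy, if_pos ((Subgroup.mul_mem_iff_of_index_two hMi).2 (iff_of_false hx hy)),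
        show (x : G) * a * (y * a) = x * (a * y) * a by group, hay,
        show (x : G) * (y * a) * a = x * y * (a * a) by group, D.a_sq, mul_one]
  let fE : ↥E →* ↥JM := MonoidHom.mk' f hfmul
  have hfb : Function.Bijective fE := by
    refine ⟨(injective_iff_map_eq_one fE).2 fun x hx => ?_, fun w => ?_⟩
    · have h1 := congrArg (fun t : JM => ((t : HM) : M).1) hx
      simp only [fE, MonoidHom.mk'_apply, hf, OneMemClass.coe_one] at h1
      split_ifs at h1 with h
      · exact Subtype.ext h1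
      · refine absurd ?_ haE
        have := inv_mem x.2
        rwa [show (x : G)⁻¹ = a from inv_eq_of_mul_eq_one_right h1] at this
    · set j := ((w : HM) : M).1 with hj
      have hjJ : j ∈ D.J := (hJ0 _).1 (mem_comap.1 w.2)
      have hjM : j ∈ M := ((w : HM) : M).2
      rcases hEa j hjJ with h | h
      · exact ⟨⟨j, h⟩, Subtype.ext (Subtype.ext (Subtype.ext ((hf _).trans (if_pos hjM))))⟩
      · refine ⟨⟨_, h⟩, Subtype.ext (Subtype.ext (Subtype.ext ((hf _).trans ?_)))⟩
        rw [if_neg (fun q => haM (by simpa using mul_mem (inv_mem hjM) q))]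
        show j * a * a = j
        rw [mul_assoc, D.a_sq, mul_one]
  let eE : ↥E ≃* ↥(Cfsg.pCore 2 ↥HM) := (MulEquiv.ofBijective fE hfb).trans (MulEquiv.subgroupCongr hcore.symm)
  haveI hnM : (Cfsg.pCore 2 ↥HM).Normal := Solvable.pCore_normal 2
  have hCJ : centralizer ((Cfsg.pCore 2 ↥HM) : Set ↥HM) ≤ Cfsg.pCore 2 ↥HM := by
    intro x hx
    rw [hcore] at hx ⊢
    refine mem_comap.2 ((hJ0 _).2 ?_)
    set g := ((x : M) : G) with hg
    have hgz : Commute g z := congrArg Subtype.val (mem_centralizer_singleton_iff.1 x.2)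
    have hfix : ∀ j ∈ D.J, j ∈ M → g * j * g⁻¹ = j := fun j hj hjM => by
      obtain ⟨w, hw⟩ := hlift j (D.J_comm j hj) hjM
      have h1 := mem_centralizer_iff.1 hx w (mem_comap.2 ((hJ0 _).2 (show ((w : M) : G) ∈ D.J from hw ▸ hj)))
      have h2 := congrArg (fun t : HM => ((t : M) : G)) h1
      simp only [Subgroup.coe_mul, hw] at h2
      exact mul_inv_eq_iff_eq_mul.2 h2.symm
    refine D.act_faithful g hgz fun j hj => ?_
    rcases hMd j with h | h
    · rw [hfix j hj h]
    · have h1 := congrArg D.pr (hfix _ (mul_mem hj D.a_mem) h)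
      have hga := D.conj_kk hgz (c := a) (Or.inr (Or.inr (Or.inl rfl)))
      rwa [← conj_mul, D.pr_mul _ (D.J_norm g hgz j hj) _ (D.kk_mem hga), D.kk_pr hga, add_zero,
        D.pr_mul _ hj _ D.a_mem, D.pr_a, add_zero] at h1
  have hordM : orderOf (⟨z, hzM⟩ : M) = 2 := by
    rw [← Subgroup.orderOf_coe]
    exact orderOf_eq_prime (by rw [pow_two]; exact D.z_sq) D.z_ne
  rcases Cfsg.Agent.S3231.result (⟨z, hzM⟩ : M) hordM hF hK (LargeExtra.isExtraspecial_equiv eE hE)
      (by rw [← Nat.card_congr eE.toEquiv, hEc]) hCJ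
      (((QuotientGroup.quotientMulEquivOfEq (hψk.trans hcore.symm)).symm.trans
        (QuotientGroup.quotientKerEquivOfSurjective ψ hψs)).trans e) with ⟨G0, hG0i, ⟨ε⟩, -⟩ | hcov
  · -- the derived subgroup of the whole
    obtain ⟨y, hyz, hya⟩ := hS
    have hyaz : y * a * y⁻¹ = a * z := (D.conj_a hyz).resolve_left hya
    have hle : ⁅M, M⁆ ≤ G0.map M.subtype := by
      haveI := Subgroup.normal_of_index_eq_two hG0i
      haveI : IsCyclic (↥M ⧸ G0) := isCyclic_of_prime_card (p := 2) hG0i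
      haveI : IsMulCommutative (↥M ⧸ G0) := IsCyclic.isMulCommutative
      rw [← map_subtype_commutator M, _root_.commutator_def]
      refine map_mono (commutator_le.2 fun p _ r _ => (QuotientGroup.eq_one_iff _).1 ?_)
      show QuotientGroup.mk' G0 _ = 1
      rw [map_commutatorElement, commutatorElement_eq_one_iff_mul_comm]
      exact mul_comm' _ _
    have hcard : Nat.card ↥(G0.map M.subtype) ≤ Nat.card U := by
      rw [Subgroup.card_map_of_injective M.subtype_injective, Nat.card_congr (ε.trans eQ.symm).toEquiv,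
        hU, Subgroup.card_map_of_injective C.subtype_injective]
      refine Nat.card_le_card_of_surjective (fun x : U0 => π x) fun q => ?_
      obtain ⟨u, hu, e'⟩ : q ∈ U0.map π := hπU ▸ mem_top q
      exact ⟨⟨u, hu⟩, e'⟩
    have hUeq : U = ⁅M, M⁆ :=
      le_antisymm hUM (hle.trans (Solvable.eq_of_le_of_card_le (hUM.trans hle) hcard).ge)
    refine key fun u hu => ?_
    have hua : ∀ v ∈ U, Commute v a := by
      rintro _ ⟨v, -, rfl⟩; exact mem_centralizer_singleton_iff.1 v.2
    have h1 : y⁻¹ * u * y⁻¹⁻¹ ∈ U := by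
      rw [hUeq] at hu ⊢
      exact (inferInstance : (⁅M, M⁆).Normal).conj_mem u hu y⁻¹
    have h2 := ((hua _ h1).map (MulAut.conj y).toMonoidHom)
    simp only [MulEquiv.coe_toMonoidHom, MulAut.conj_apply, inv_inv] at h2
    rw [hyaz, show y * (y⁻¹ * u * y) * y⁻¹ = u by group] at h2
    have h3 := (hua u hu).mul_right h2
    rw [← mul_assoc, D.a_sq, one_mul] at h3
    exact h3.symm
  · -- the centre is central modulo the odd core
    refine key fun u hu => ?_
    have huM : u ∈ M := (commutator_le_self M) (hUM hu)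
    haveI hOn : (Cfsg.oddCore ↥M).Normal := Solvable.pPrimeCore_normal 2
    set OC := ((Cfsg.oddCore ↥M).map M.subtype).comap C.subtype with hOC
    haveI : ((Cfsg.oddCore ↥M).map M.subtype).Normal := by
      haveI : (Cfsg.oddCore ↥M).Characteristic := characteristic_iff_map_le.2 fun φ =>
        Solvable.le_pPrimeCore 2 (hOn.map _ φ.surjective) (by
          rw [Subgroup.card_map_of_injective (f := φ.toMonoidHom) φ.injective]
          exact Solvable.coprime_card_pPrimeCore 2)
      infer_instance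
    have hTn : ((U0 ⊓ OC).map π).Normal := Subgroup.Normal.map inferInstance _ (QuotientGroup.mk'_surjective _)
    have hTodd : Odd (Nat.card ↥((U0 ⊓ OC).map π)) := by
      refine (IsoApps.odd_oddCore (G := ↥M)).of_dvd_nat ?_
      refine (Subgroup.card_map_dvd _ π).trans ((Subgroup.card_dvd_of_le inf_le_right).trans ?_)
      rw [← Subgroup.card_map_of_injective M.subtype_injective]
      exact Subgroup.card_comap_dvd_of_injective _ _ C.subtype_injective
    have hT : (U0 ⊓ OC).map π = ⊥ := hTn.eq_bot_or_eq_top.resolve_right fun h => by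
      rw [h, Subgroup.card_top] at hTodd
      have h2 := orderOf_dvd_natCard Q.zq
      rw [Q.zq_ord] at h2
      exact hTodd.not_two_dvd_nat h2
    obtain ⟨c, hc, o, ho, eu⟩ : ∃ c ∈ HM, ∃ o ∈ Cfsg.oddCore ↥M, c * o = (⟨u, huM⟩ : M) :=
      mem_sup_of_normal_right.1 (hcov ▸ mem_top _)
    obtain ⟨u', hu', eu'⟩ := hu
    have hcz : c * ⟨z, hzM⟩ = ⟨z, hzM⟩ * c := mem_centralizer_singleton_iff.1 hc
    have h1 : ((⟨z, Q.zC⟩ : C) * u' * (⟨z, Q.zC⟩ : C)⁻¹ * u'⁻¹) ∈ U0 ⊓ OC := by
      refine Subgroup.mem_inf.2 ⟨mul_mem (mul_mem (mul_mem hzU0 hu') (inv_mem hzU0)) (inv_mem hu'), ?_⟩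
      refine ⟨⟨z, hzM⟩ * ⟨u, huM⟩ * (⟨z, hzM⟩ : M)⁻¹ * (⟨u, huM⟩ : M)⁻¹, ?_, ?_⟩
      · rw [SetLike.mem_coe, ← eu,
          show (⟨z, hzM⟩ : M) * (c * o) * (⟨z, hzM⟩ : M)⁻¹ * (c * o)⁻¹ =
            (⟨z, hzM⟩ * c) * o * (⟨z, hzM⟩ : M)⁻¹ * o⁻¹ * c⁻¹ by group, ← hcz,
          show c * ⟨z, hzM⟩ * o * (⟨z, hzM⟩ : M)⁻¹ * o⁻¹ * c⁻¹ =
            c * (⟨z, hzM⟩ * o * (⟨z, hzM⟩ : M)⁻¹ * o⁻¹) * c⁻¹ by group]
        exact hOn.conj_mem _ (mul_mem (hOn.conj_mem o ho _) (inv_mem ho)) c
      · simp only [Subgroup.coe_mul, Subgroup.coe_inv, Subgroup.coe_subtype]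
        rw [← eu']
        rfl
    have h2 := hπinj _ h1.1 (Subgroup.mem_bot.1 (hT ▸ mem_map_of_mem π h1))
    have h3 := congrArg Subtype.val (mul_inv_eq_iff_eq_mul.1 (mul_inv_eq_one.1 h2))
    rw [← eu']
    exact h3

end St

/-- With a swapping element and fusion of the centre beside `a` the group is the Fischer group. -/
theorem St.fi22_of_swap {V : Type*} [AddCommGroup V] [Module (ZMod 2) V] {R : Rep V} (D : St z a R)
    (hS : D.Swap) (hI : ¬ D.Iso) {F : Type*} [Field F] [Fintype F] (hF : Fintype.card F = 3)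
    (hJ : D.J = (Cfsg.pCore 2 ↥(centralizer ({z} : Set G))).map (centralizer ({z} : Set G)).subtype)
    [hJn : (Cfsg.pCore 2 ↥(centralizer ({z} : Set G))).Normal]
    (e : (↥(centralizer ({z} : Set G)) ⧸ Cfsg.pCore 2 ↥(centralizer ({z} : Set G))) ≃* MulAut (Cfsg.PSp 2 F))
    (E : Subgroup G) (hE : Cfsg.IsExtraspecial 2 E) (hEc : Nat.card E = 2 ^ 9) (hEJ : E ≤ D.J) (haE : a ∉ E)
    (hEa : ∀ j ∈ D.J, j ∈ E ∨ j * a ∈ E) : Cfsg.Spor.IsoFi22 G := by
  classical
  obtain ⟨hN, K, _, _, hK, ⟨eQ⟩⟩ := (D.swap_cases hS).resolve_left hI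
  obtain ⟨D', hJ', -⟩ := D.exists_natural hN
  obtain ⟨hs, hcardK, -, hcK⟩ := Fi23Cent.psu_facts hK
  haveI := hs
  set C := centralizer ({a} : Set G) with hC
  have haC : a ∈ C := mem_centralizer_singleton_iff.2 rfl
  have haK := D'.a_mem_commutator (z := z) hS hF hK eQ (hJ'.trans hJ) e E hE hEc (hJ'.symm ▸ hEJ) haE
    (fun j hj => hEa j (hJ' ▸ hj)) haC
  set Z := (zpowers a).subgroupOf C
  haveI : Nontrivial (↥C ⧸ Z) := eQ.toEquiv.nontrivial
  haveI hQs : IsSimpleGroup (↥C ⧸ Z) :=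
    IsSimpleGroup.isSimpleGroup_of_surjective eQ.symm.toMonoidHom eQ.symm.surjective
  have hQc : Subgroup.center (↥C ⧸ Z) = ⊥ := eq_bot_iff.2 fun q hq => by
    have h1 : eQ q ∈ Subgroup.center (Cfsg.PSU 6 K 2) := mem_center_iff.2 fun r => by
      obtain ⟨p, rfl⟩ := eQ.surjective r
      rw [← map_mul, ← map_mul, mem_center_iff.1 hq p]
    rw [hcK, Subgroup.mem_bot, EmbeddingLike.map_eq_one_iff] at h1
    exact Subgroup.mem_bot.2 h1
  have hperfQ := perfect_of_simple hQc
  have hZK : Z ≤ commutator ↥C := by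
    intro x hx
    rcases D.pow_a (Subgroup.mem_subgroupOf.1 hx) with r | r
    · rw [show x = 1 from Subtype.ext r]; exact one_mem _
    · rw [show x = ⟨a, haC⟩ from Subtype.ext r]; exact haK
  have hperf : commutator ↥C = ⊤ := by
    refine eq_top_iff.2 fun x _ => ?_
    have h1 : QuotientGroup.mk' Z x ∈ (commutator ↥C).map (QuotientGroup.mk' Z) := by
      rw [_root_.commutator_def, Subgroup.map_commutator,
        Subgroup.map_top_of_surjective _ (QuotientGroup.mk'_surjective Z), ← _root_.commutator_def, hperfQ]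
      exact mem_top _
    obtain ⟨y, hy, hxy⟩ := h1
    obtain ⟨w, hw, rfl⟩ := (QuotientGroup.mk'_eq_mk' Z).1 hxy
    exact mul_mem hy (hZK hw)
  have hcen : Subgroup.center ↥C = Z := by
    refine le_antisymm (fun x hx => ?_) fun x hx => ?_
    · have h1 : QuotientGroup.mk' Z x ∈ Subgroup.center (↥C ⧸ Z) := mem_center_iff.2 fun q => by
        obtain ⟨y, rfl⟩ := QuotientGroup.mk'_surjective Z q
        rw [← map_mul, ← map_mul, mem_center_iff.1 hx y]
      rw [hQc, Subgroup.mem_bot] at h1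
      exact (QuotientGroup.eq_one_iff x).1 h1
    · obtain ⟨i, hi⟩ := mem_zpowers_iff.1 (Subgroup.mem_subgroupOf.1 hx)
      refine mem_center_iff.2 fun y => Subtype.ext ?_
      push_cast
      rw [← hi]
      exact ((show Commute (y : G) a from mem_centralizer_singleton_iff.1 y.2).zpow_right i).eq
  have hq : Cfsg.IsQuasisimple ↥C := by
    refine ⟨⟨hperf⟩, ?_⟩
    haveI : Nontrivial (↥C ⧸ Subgroup.center ↥C) :=
      (QuotientGroup.quotientMulEquivOfEq hcen).toEquiv.nontrivial
    exact IsSimpleGroup.isSimpleGroup_of_surjective (QuotientGroup.quotientMulEquivOfEq hcen).symm.toMonoidHom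
      (QuotientGroup.quotientMulEquivOfEq hcen).symm.surjective
  refine Cfsg.Agent.S1713.result a (orderOf_eq_prime (by rw [pow_two]; exact D.a_sq) D.a_ne) hq K hK eQ ?_
  obtain ⟨h, hh, hha⟩ := hS
  have r := (D.conj_a hh).resolve_left hha
  refine ⟨h, mem_centralizer_singleton_iff.2 ?_, hha⟩
  rw [r]
  exact ((Commute.refl a).mul_right D.a_comm_z).eq.symm

end CfsgLib.Fi22Cent
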