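import Cfsg.Agent.Fi22Cent.PairBasic

/-!
The blocks of the reducible module under the standard involutions and the diagonal elements of order three.
-/

set_option autoImplicit false
set_option maxRecDepth 100000
set_option maxHeartbeats 1000000
set_option linter.style.haveILetI false
set_option linter.unusedSectionVars false

open scoped Matrix

namespace CfsgLib.Fi22Cent

open CfsgLib CfsgLib.U62Cent
open CfsgLib.FiLarge (F4 om)
open CfsgLib.Unitary (suMat suMat_mul suMat_one su_ext)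

universe v

variable {V : Type v} [AddCommGroup V] [Module (ZMod 2) V] (R : Rep V)

/-- The exponents of `g3`. -/
def L3 : LT := ⟨![0, 0, 1, 2], by decide⟩

/-- The exponents of `d3`. -/
def M3 : LT := ⟨![1, 1, 2, 2], by decide⟩

/-- The exponents of `d1`. -/
def D1 : LT := ⟨![1, 1, 1, 0], by decide⟩

theorem pair_L3 : pair4 (chs 4) L3 = 0 ∧ pair4 (chs 5) L3 = 1 ∧ pair4 (chs 6) L3 = 1 := by decide +kernel

theorem pair_M3 : pair4 (chs 4) M3 = 2 ∧ pair4 (chs 5) M3 = 0 ∧ pair4 (chs 6) M3 = 0 := by decide +kernel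

theorem r_L3 (v : V) : R.r g3 v = R.act L3 v := rfl

theorem r_M3 (v : V) : R.r d3 v = R.act M3 v := rfl

theorem r_D1 (v : V) : R.r d1 v = R.act D1 v := rfl

theorem bk_act (k : Fin 13) (l : LT) (v : V) : R.bk k (R.act l v) = R.act l (R.bk k v) := by
  classical
  conv_lhs => rw [← R.decomp v, map_add, map_sum, map_add, map_sum, R.e0_mem v l, R.bk_X0 (R.e0_mem v), zero_add]
  rw [Finset.sum_eq_single k (fun m _ hm => R.bk_other hm (R.act_mem (R.bk_mem m v) l))
    (fun h => absurd (Finset.mem_univ k) h), R.bk_self (R.act_mem (R.bk_mem k v) l)]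

/-- A block is nondegenerate. -/
theorem block_nondeg {k : Fin 13} {v : V} (hv : v ∈ R.X k) (h : ∀ w ∈ R.X k, R.B v w = 0) : v = 0 := by
  classical
  refine R.nondeg v fun w => ?_
  show R.B v w = 0
  let φ : V →+ ZMod 2 :=
    { toFun := R.B v, map_zero' := R.B_zero v, map_add' := R.B_add_right v }
  rw [show R.B v w = φ w from rfl, ← R.decomp w, map_add, map_sum]
  have h1 : φ (R.e0 w) = 0 := (R.B_comm _ _).trans (R.blk_orth0 (R.e0_mem w) hv)
  rw [h1, zero_add]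
  refine Finset.sum_eq_zero fun m _ => ?_
  by_cases e : k = m
  · exact h _ (e ▸ R.bk_mem m w)
  · exact R.blk_orth e hv (R.bk_mem m w)

theorem X_disjoint {k m : Fin 13} (h : k ≠ m) {v : V} (hk : v ∈ R.X k) (hm : v ∈ R.X m) : v = 0 := by
  rw [← R.bk_self hm, R.bk_other h hk]

/-- An involutory permutation preserving a character fixes its block. -/
theorem block_fix {τ : Equiv.Perm (Fin 4)} (hτ : pE τ * pE τ = 1) {k : Fin 13} (hk : Nat.card (R.X k) = 4)
    (hl : ∀ l : LT, ∑ j, chs k j * l.1 (τ j) = pair4 (chs k) l) {x : V} (hx : x ∈ R.X k) : R.r (pE τ) x = x := by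
  by_cases hx0 : x = 0
  · rw [hx0, map_zero]
  have hm : ∀ y ∈ R.X k, R.r (pE τ) y ∈ R.X k := fun y hy => R.perm_X (fun l => by rw [hl]) hy
  have hc : ∀ y ∈ R.X k, R.r (pE τ) (R.rot k y) = R.rot k (R.r (pE τ) y) := fun y hy => by
    rw [Rep.rot, R.perm_act]
    exact R.act_X (hm y hy) _ _ (hl _)
  have hinv : R.r (pE τ) (R.r (pE τ) x) = x := by rw [← R.r_mul, hτ, R.r_one]
  by_contra hne
  have hd : R.r (pE τ) x + x ∈ R.X k := add_mem (hm x hx) hx
  have hd0 : R.r (pE τ) x + x ≠ 0 := fun e => hne (eq_of_sum_zero e)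
  have hfix : R.r (pE τ) (R.r (pE τ) x + x) = R.r (pE τ) x + x := by rw [map_add, hinv, add_comm]
  rcases R.block_elems hk hd hd0 hx with e | ⟨i, hi⟩
  · exact hx0 e
  · apply hne
    rw [← hi]
    rcases (by decide : ∀ a : ZMod 3, a = 0 ∨ a = 1 ∨ a = 2) i with rfl | rfl | rfl
    · exact hfix
    · show R.r (pE τ) (R.rot k _) = R.rot k _
      rw [hc _ hd, hfix]
    · show R.r (pE τ) (R.rot k (R.rot k _)) = R.rot k (R.rot k _)
      rw [hc _ (R.rot_mem hd), hc _ hd, hfix]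

variable {R} (hT : R.IsTri)

include hT

theorem dec3 (v : V) : v = R.e0 v + (R.bk 4 v + R.bk 5 v + R.bk 6 v) := by
  conv_lhs => rw [Rep.tri_dec hT v, Fin.sum_univ_three]
  rfl

theorem t_fix4 {x : V} (hx : x ∈ R.X 4) : R.r (tvp p0) x = x := by
  rw [tvp_p0_perm]
  exact block_fix R (by rw [← tvp_p0_perm, tvp_sq p0_pt]) (Rep.tri_card4 hT).1
    (fun l => (swap_blocks l).2.2.2) hx

theorem t_five {x : V} (hx : x ∈ R.X 5) : R.r (tvp p0) x ∈ R.X 6 := by
  rw [tvp_p0_perm]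
  exact R.perm_X (fun l => (swap_blocks l).2.1) hx

theorem t_six {x : V} (hx : x ∈ R.X 6) : R.r (tvp p0) x ∈ R.X 5 := by
  rw [tvp_p0_perm]
  exact R.perm_X (fun l => (swap_blocks l).2.2.1) hx

theorem s_fix4 {x : V} (hx : x ∈ R.X 4) : R.r s0 x = x :=
  block_fix R s0_sq (Rep.tri_card4 hT).1 (fun l => (double_blocks l).1) hx

theorem s_five {x : V} (hx : x ∈ R.X 5) : R.r s0 x ∈ R.X 5 :=
  R.perm_X (fun l => by rw [(double_blocks l).2.1, neg_eq_zero]) hx

theorem s_six {x : V} (hx : x ∈ R.X 6) : R.r s0 x ∈ R.X 6 :=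
  R.perm_X (fun l => by rw [(double_blocks l).2.2, neg_eq_zero]) hx

/-- A block flipped by an involutory permutation has a moved vector. -/
theorem s_moved {k : Fin 13} (hk : Nat.card (R.X k) = 4)
    (hm : ∀ x ∈ R.X k, R.r s0 x ∈ R.X k)
    (hl : ∀ l : LT, ∑ j, chs k j * l.1 ((Equiv.swap 0 1 * Equiv.swap 2 3 : Equiv.Perm (Fin 4)) j) =
      -pair4 (chs k) l) :
    ∃ w ∈ R.X k, R.r s0 w + w ∈ R.X k ∧ R.r s0 w + w ≠ 0 := by
  obtain ⟨x, hx, hx0⟩ := Submodule.exists_mem_ne_zero_of_ne_bot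
    (show R.X k ≠ ⊥ from fun e => by rw [e] at hk; simp at hk)
  by_cases h1 : R.r s0 x = x
  · refine ⟨R.rot k x, R.rot_mem hx, add_mem (hm _ (R.rot_mem hx)) (R.rot_mem hx), fun e => hx0 ?_⟩
    have hc : R.r s0 (R.rot k x) = R.rot k (R.rot k x) := by
      show R.r (pE _) (R.rot k x) = _
      rw [Rep.rot, R.perm_act, ← Rep.rot, show R.r (pE _) x = x from h1, R.act_X_two hx]
      show ∑ j, chs k j * (Rep.gen k).1 _ = 2
      rw [hl, Rep.gen_spec]; decide
    rw [hc] at e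
    have h := R.orb_sum hx
    rw [add_assoc, add_comm (R.rot k x), e, add_zero] at h
    exact h
  · exact ⟨x, hx, add_mem (hm x hx) hx, fun e => h1 (eq_of_sum_zero e)⟩

theorem s_y5 : ∃ w ∈ R.X 5, R.r s0 w + w ∈ R.X 5 ∧ R.r s0 w + w ≠ 0 :=
  s_moved hT (Rep.tri_card4 hT).2.1 (fun _ hx => s_five hT hx) fun l => (double_blocks l).2.1

theorem s_y6 : ∃ w ∈ R.X 6, R.r s0 w + w ∈ R.X 6 ∧ R.r s0 w + w ≠ 0 :=
  s_moved hT (Rep.tri_card4 hT).2.2 (fun _ hx => s_six hT hx) fun l => (double_blocks l).2.2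

end CfsgLib.Fi22Cent
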