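import Cfsg.Agent.Fi22Cent.TriBlocks
import Cfsg.Agent.Fi22Cent.NoExtra
import Cfsg.Agent.U62Cent.TriIsolated

/-!
The centraliser of the standard involution of the second class on the four commutators of the reducible module.
-/

set_option autoImplicit false
set_option maxRecDepth 100000
set_option maxHeartbeats 1000000
set_option linter.style.haveILetI false
set_option linter.unusedSectionVars false

open scoped Matrix

namespace CfsgLib.Fi22Cent

open CfsgLib CfsgLib.U62Cent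
open CfsgLib.FiLarge (F4 om)
open CfsgLib.Unitary (suMat suMat_mul suMat_one su_ext)

universe v

/-- The remaining isotropic points of the fixed line. -/
def qv (l : F4) : V4 := ![1, 1, l, l]

theorem qv_pt : ∀ l : F4, IsPt4 (qv l) := by decide +kernel

theorem d3_qv (l : F4) : suMat d3 *ᵥ qv l = om • qv (om * l) := by
  rw [d3_apply]; revert l; decide +kernel

/-- Three transvections multiply to the standard involution. -/
theorem qv_prod : tvp (qv 1) * tvp (qv om) * tvp (qv (om * om)) = s0 := su_ext fun x => by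
  rw [su_mul_apply, su_mul_apply, tvp_apply (qv_pt _), tvp_apply (qv_pt _), tvp_apply (qv_pt _), s0_apply]
  revert x
  decide +kernel

theorem s0_comm_t : s0 * tvp p0 = tvp p0 * s0 := by
  have h := tvp_conj p0_pt s0
  rw [(s0_fix p0).2 (by decide +kernel)] at h
  exact mul_inv_eq_iff_eq_mul.1 h

/-- An involution fixing the two points, in coordinates. -/
theorem tr_coord {u : U4} (ht : Tr u) : ∃ a β c : F4, (a = 0 ∨ a = 1) ∧ (c = 0 ∨ c = 1) ∧ ∀ v : V4,
    suMat u *ᵥ v = v + ((v 0 + v 1) * a + (v 2 + v 3) * (β * β)) • p0 + ((v 0 + v 1) * β + (v 2 + v 3) * c) • p1 := by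
  have img : ∀ v : V4, LS (suMat u *ᵥ v + v) := fun v => by
    have key : ∀ x : V4, h4 x p0 = 0 → h4 x p1 = 0 → LS x := by decide +kernel
    refine key _ ?_ ?_
    · have h := su_h4 u v p0
      rw [ht.1] at h
      rw [h4_add_left, h]
      exact (by decide +kernel : ∀ c : F4, c + c = 0) _
    · have h := su_h4 u v p1
      rw [ht.2] at h
      rw [h4_add_left, h]
      exact (by decide +kernel : ∀ c : F4, c + c = 0) _
  have dec : ∀ x : V4, LS x → x = x 0 • p0 + x 2 • p1 := fun x hx => by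
    funext i
    fin_cases i <;> simp [p0, p1, hx.1, hx.2]
  set m1 := suMat u *ᵥ (![1, 0, 0, 0] : V4) + ![1, 0, 0, 0]
  set m2 := suMat u *ᵥ (![0, 0, 1, 0] : V4) + ![0, 0, 1, 0]
  have e1 : suMat u *ᵥ (![1, 0, 0, 0] : V4) = ![1, 0, 0, 0] + (m1 0 • p0 + m1 2 • p1) := by
    rw [← dec m1 (img _)]
    show _ = _ + (suMat u *ᵥ _ + _)
    rw [add_comm (![1, 0, 0, 0] : V4), add_assoc, v4_self, add_zero]
  have e2 : suMat u *ᵥ (![0, 0, 1, 0] : V4) = ![0, 0, 1, 0] + (m2 0 • p0 + m2 2 • p1) := by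
    rw [← dec m2 (img _)]
    show _ = _ + (suMat u *ᵥ _ + _)
    rw [add_comm (![0, 0, 1, 0] : V4), add_assoc, v4_self, add_zero]
  have key : ∀ a β γ c : F4,
      h4 ((![1, 0, 0, 0] : V4) + (a • p0 + β • p1)) ((![1, 0, 0, 0] : V4) + (a • p0 + β • p1)) = 1 →
      h4 ((![0, 0, 1, 0] : V4) + (γ • p0 + c • p1)) ((![0, 0, 1, 0] : V4) + (γ • p0 + c • p1)) = 1 →
      h4 ((![1, 0, 0, 0] : V4) + (a • p0 + β • p1)) ((![0, 0, 1, 0] : V4) + (γ • p0 + c • p1)) = 0 →
      (a = 0 ∨ a = 1) ∧ (c = 0 ∨ c = 1) ∧ γ = β * β := by decide +kernel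
  obtain ⟨ha, hc, hg⟩ := key (m1 0) (m1 2) (m2 0) (m2 2) (by rw [← e1, su_h4]; decide +kernel)
    (by rw [← e2, su_h4]; decide +kernel) (by rw [← e1, ← e2, su_h4]; decide +kernel)
  refine ⟨m1 0, m1 2, m2 2, ha, hc, fun v => ?_⟩
  have hsplit : v = (v 0 + v 1) • (![1, 0, 0, 0] : V4) + (v 2 + v 3) • (![0, 0, 1, 0] : V4) +
      (![v 1, v 1, v 3, v 3] : V4) := by
    have t : ∀ x y : F4, x = x + y + y := fun x y => by
      rw [add_assoc, (by decide +kernel : ∀ c : F4, c + c = 0) y, add_zero]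
    funext i
    fin_cases i <;> simp <;> exact t _ _
  conv_lhs => rw [hsplit]
  rw [Matrix.mulVec_add, Matrix.mulVec_add, Matrix.mulVec_smul, Matrix.mulVec_smul, e1, e2,
    ht.LS_fix (show LS (![v 1, v 1, v 3, v 3] : V4) from ⟨by simp, by simp⟩), hg]
  conv_rhs => arg 1; arg 1; rw [hsplit]
  simp only [smul_add, smul_smul, add_smul]
  abel

/-- A member interchanging the lines equalises the diagonal coordinates. -/
theorem swap_diag {u b : U4} {a β c c0 : F4} (hc0 : c0 ≠ 0) (f0 : suMat b *ᵥ p0 = c0 • p1)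
    (f1 : suMat b *ᵥ p1 = (c0 * c0) • p0) (hbu : b * u = u * b)
    (hform : ∀ v : V4, suMat u *ᵥ v =
      v + ((v 0 + v 1) * a + (v 2 + v 3) * (β * β)) • p0 + ((v 0 + v 1) * β + (v 2 + v 3) * c) • p1) : c = a := by
  set w1 : V4 := ![1, 0, 0, 0] with hw1
  set X := suMat b *ᵥ w1 with hX
  have hA : X 0 + X 1 = 0 := by
    have h := su_h4 b w1 p1
    rw [f1, h4_smul_right, show h4 w1 p1 = 0 by decide +kernel] at h
    have key : ∀ x : V4, ∀ k : F4, k ≠ 0 → k * h4 x p0 = 0 → x 0 + x 1 = 0 := by decide +kernel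
    exact key X _ (mul_ne_zero (mul_ne_zero hc0 hc0) (mul_ne_zero hc0 hc0)) h
  have hB : X 2 + X 3 = c0 := by
    have h := su_h4 b w1 p0
    rw [f0, h4_smul_right, show h4 w1 p0 = 1 by decide +kernel] at h
    have key : ∀ x : V4, ∀ k : F4, k * k * h4 x p1 = 1 → x 2 + x 3 = k := by decide +kernel
    exact key X _ h
  have h := congrArg (fun g => suMat g *ᵥ w1) hbu
  simp only [su_mul_apply, ← hX] at h
  rw [hform, hform, hA, hB, Matrix.mulVec_add, Matrix.mulVec_add, Matrix.mulVec_smul, Matrix.mulVec_smul, f0, f1,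
    ← hX] at h
  simp [hw1, p0, p1, smul_smul, add_assoc] at h
  exact mul_left_cancel₀ hc0 (h.2.symm.trans (mul_comm a c0))

theorem f4_om' : om ≠ (0 : F4) := by decide +kernel

theorem f4_cases : ∀ l : F4, l ≠ 0 → l = 1 ∨ l = om ∨ l = om * om := by decide +kernel

variable {V : Type v} [AddCommGroup V] [Module (ZMod 2) V] {R : Rep V} (hT : R.IsTri)

include hT

/-- The nonsingular commutators of the standard involution. -/
theorem s_pair : ∃ w5 y5 y6 : V, w5 ∈ R.X 5 ∧ y5 ∈ R.X 5 ∧ y6 ∈ R.X 6 ∧ y5 ≠ 0 ∧ y6 ≠ 0 ∧ R.r s0 w5 + w5 = y5 ∧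
    R.r (tvp p0) y5 = y6 ∧ R.r s0 (R.r (tvp p0) w5) + R.r (tvp p0) w5 = y6 ∧
    (∀ b ∈ R.X 5, b = 0 ∨ b = y5 ∨ b = w5 ∨ b = w5 + y5) ∧
    (∀ v, R.r s0 v + v = 0 ∨ R.r s0 v + v = y5 ∨ R.r s0 v + v = y6 ∨ R.r s0 v + v = y5 + y6) := by
  classical
  haveI := R.finite
  obtain ⟨w5, hw, hy, hy0⟩ := s_y5 hT
  set y5 := R.r s0 w5 + w5 with hy5
  have hw0 : w5 ≠ 0 := fun e => hy0 (by rw [hy5, e, map_zero, add_zero])
  have hwy : w5 ≠ y5 := fun e => hy0 (by
    have : R.r s0 w5 + w5 = w5 := e.symm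
    rw [add_eq_right] at this
    exact absurd ((R.r s0).map_eq_zero_iff.1 this) hw0)
  have hfix : R.r s0 y5 = y5 := by rw [hy5, map_add, R.r_invol s0_sq, add_comm]
  have hc : ∀ v, R.r s0 (R.r (tvp p0) v) = R.r (tvp p0) (R.r s0 v) := fun v => by
    rw [← R.r_mul, s0_comm_t, R.r_mul]
  have four : ∀ b ∈ R.X 5, b = 0 ∨ b = y5 ∨ b = w5 ∨ b = w5 + y5 := fun b hb => by
    have hsub : ({0, y5, w5, w5 + y5} : Set V) = (R.X 5 : Set V) := by
      refine Set.eq_of_subset_of_ncard_le ?_ (le_of_eq ?_) (Set.toFinite _)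
      · rintro t (rfl | rfl | rfl | rfl)
        exacts [zero_mem _, hy, hw, add_mem hw hy]
      · rw [← Nat.card_coe_set_eq]
        show Nat.card (R.X 5) = _
        rw [(Rep.tri_card4 hT).2.1, Set.ncard_insert_of_notMem (by
            simp only [Set.mem_insert_iff, Set.mem_singleton_iff, not_or]
            exact ⟨fun e => hy0 e.symm, fun e => hw0 e.symm, fun e => hwy (eq_of_sum_zero e.symm)⟩),
          Set.ncard_insert_of_notMem (by
            simp only [Set.mem_insert_iff, Set.mem_singleton_iff, not_or]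
            exact ⟨fun e => hwy e.symm, fun e => hw0 (add_eq_right.1 e.symm)⟩),
          Set.ncard_pair (fun e => hy0 (add_eq_left.1 e.symm))]
    exact hsub.ge hb
  have img5 : ∀ b ∈ R.X 5, R.r s0 b + b = 0 ∨ R.r s0 b + b = y5 := fun b hb => by
    rcases four b hb with rfl | rfl | rfl | rfl
    · exact Or.inl (by rw [map_zero, add_zero])
    · exact Or.inl (by rw [hfix, two_self])
    · exact Or.inr rfl
    · refine Or.inr ?_
      rw [map_add, hfix, show R.r s0 w5 + y5 + (w5 + y5) = (R.r s0 w5 + w5) + (y5 + y5) by abel, two_self, add_zero]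
  refine ⟨w5, y5, R.r (tvp p0) y5, hw, hy, t_five hT hy, hy0,
    fun e => hy0 ((R.r (tvp p0)).map_eq_zero_iff.1 e), rfl, rfl, by rw [hc, ← map_add], four, fun v => ?_⟩
  have e4 : R.r s0 (R.bk 4 v) = R.bk 4 v := s_fix4 hT (R.bk_mem 4 v)
  have h6 : R.r s0 (R.bk 6 v) + R.bk 6 v = 0 ∨ R.r s0 (R.bk 6 v) + R.bk 6 v = R.r (tvp p0) y5 := by
    have e : R.bk 6 v = R.r (tvp p0) (R.r (tvp p0) (R.bk 6 v)) := by rw [R.r_invol (tvp_sq p0_pt)]
    rw [e, hc, ← map_add]
    rcases img5 _ (t_six hT (R.bk_mem 6 v)) with q | q <;> rw [q]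
    · exact Or.inl (map_zero _)
    · exact Or.inr rfl
  have e : R.r s0 v + v = (R.r s0 (R.bk 5 v) + R.bk 5 v) + (R.r s0 (R.bk 6 v) + R.bk 6 v) := by
    conv_lhs => rw [dec3 hT v]
    rw [map_add, map_add, map_add, Rep.tri_fix hT _ _ (R.e0_mem v), e4,
      show R.e0 v + (R.bk 4 v + R.r s0 (R.bk 5 v) + R.r s0 (R.bk 6 v)) + (R.e0 v + (R.bk 4 v + R.bk 5 v + R.bk 6 v)) =
        (R.e0 v + R.e0 v) + (R.bk 4 v + R.bk 4 v) +
          ((R.r s0 (R.bk 5 v) + R.bk 5 v) + (R.r s0 (R.bk 6 v) + R.bk 6 v)) by abel, two_self, two_self,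
      zero_add, zero_add]
  rw [e]
  rcases img5 _ (R.bk_mem 5 v) with q | q <;> rcases h6 with q' | q' <;> rw [q, q'] <;> simp

/-- The centraliser permutes the two nonsingular commutators. -/
theorem perm_two {y5 y6 : V} (h5 : y5 ∈ R.X 5) (h6 : y6 ∈ R.X 6) (n5 : y5 ≠ 0) (n6 : y6 ≠ 0)
    (himg : ∀ v, R.r s0 v + v = 0 ∨ R.r s0 v + v = y5 ∨ R.r s0 v + v = y6 ∨ R.r s0 v + v = y5 + y6)
    {w : V} (hw : R.r s0 w + w = y5 ∨ R.r s0 w + w = y6) {g : U4} (hg : g * s0 = s0 * g) :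
    R.r g (R.r s0 w + w) = y5 ∨ R.r g (R.r s0 w + w) = y6 := by
  have e : R.r g (R.r s0 w + w) = R.r s0 (R.r g w) + R.r g w := by
    rw [map_add, ← R.r_mul, hg, R.r_mul]
  have q1 : R.q (R.r g (R.r s0 w + w)) = 1 := by
    rw [R.inv]
    rcases hw with q | q <;> rw [q]
    exacts [R.q_block (Rep.tri_card4 hT).2.1 h5 n5, R.q_block (Rep.tri_card4 hT).2.2 h6 n6]
  rw [e] at q1 ⊢
  rcases himg (R.r g w) with q | q | q | q
  · rw [q, map_zero] at q1; exact absurd q1 zero_ne_one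
  · exact Or.inl q
  · exact Or.inr q
  · rw [q, R.q_add, R.blk_orth (by decide : (5 : Fin 13) ≠ 6) h5 h6, R.q_block (Rep.tri_card4 hT).2.1 h5 n5,
      R.q_block (Rep.tri_card4 hT).2.2 h6 n6] at q1
    exact absurd q1 (by decide)

/-- The remaining transvections fix the commutators. -/
theorem qv_fix {y5 y6 w5 : V} (h5 : y5 ∈ R.X 5) (h6 : y6 ∈ R.X 6) (n5 : y5 ≠ 0) (n6 : y6 ≠ 0)
    (e5 : R.r s0 w5 + w5 = y5)
    (e6 : R.r s0 (R.r (tvp p0) w5) + R.r (tvp p0) w5 = y6)
    (himg : ∀ v, R.r s0 v + v = 0 ∨ R.r s0 v + v = y5 ∨ R.r s0 v + v = y6 ∨ R.r s0 v + v = y5 + y6) :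
    ∀ l : F4, l ≠ 0 → R.r (tvp (qv l)) y5 = y5 := by
  have two : ∀ {g : U4}, g * s0 = s0 * g → R.r g y5 ≠ y5 → R.r g y5 = y6 ∧ R.r g y6 = y5 := fun {g} hg hne => by
    have h1 := (perm_two hT h5 h6 n5 n6 himg (w := w5) (Or.inl e5) hg)
    rw [e5] at h1
    have h1' := h1.resolve_left hne
    have h2 := (perm_two hT h5 h6 n5 n6 himg (w := R.r (tvp p0) w5) (Or.inr e6) hg)
    rw [e6] at h2
    refine ⟨h1', h2.resolve_right fun q => ?_⟩
    have := (R.r g).injective (h1'.trans q.symm)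
    exact n5 (X_disjoint R (by decide : (5 : Fin 13) ≠ 6) h5 (by rw [this]; exact h6))
  have d3fix : R.r d3 y5 = y5 ∧ R.r d3 y6 = y6 := by
    rw [r_M3, r_M3]
    exact ⟨R.act_X_zero h5 pair_M3.2.1, R.act_X_zero h6 pair_M3.2.2⟩
  have tq_comm : ∀ l, tvp (qv l) * s0 = s0 * tvp (qv l) := fun l => by
    have h := tvp_conj (qv_pt l) s0
    have hL : LS (qv l) := ⟨by simp [qv], by simp [qv]⟩
    have he := (s0_fix (qv l)).2 hL
    simp only [he] at h
    calc tvp (qv l) * s0 = s0 * tvp (qv l) * s0⁻¹ * s0 := by rw [h]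
      _ = s0 * tvp (qv l) := inv_mul_cancel_right _ _
  have step : ∀ l, R.r (tvp (qv l)) y5 = y5 → R.r (tvp (qv (om * l))) y5 = y5 := fun l h => by
    have e := tvp_conj (qv_pt l) d3
    rw [d3_qv, tvp_smul (qv_pt _) f4_om'] at e
    have h' : R.r d3⁻¹ y5 = y5 := by
      have := congrArg (R.r d3⁻¹) d3fix.1
      rwa [R.r_inv, eq_comm] at this
    rw [← e, R.r_mul, R.r_mul, h', h, d3fix.1]
  have h1 : R.r (tvp (qv 1)) y5 = y5 ∨ R.r (tvp (qv om)) y5 = y5 ∨ R.r (tvp (qv (om * om))) y5 = y5 := by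
    by_contra hno
    push Not at hno
    obtain ⟨n1, n2, n3⟩ := hno
    have h := congrArg (fun g => R.r g y5) qv_prod
    simp only [R.r_mul] at h
    rw [(two (tq_comm _) n3).1, (two (tq_comm _) n2).2, (two (tq_comm _) n1).1,
      ← e5, map_add, R.r_invol s0_sq, add_comm w5, e5] at h
    exact n5 (X_disjoint R (by decide : (5 : Fin 13) ≠ 6) h5 (by rw [← h]; exact h6))
  have o3 : om * (om * om) = (1 : F4) := by decide +kernel
  have all : R.r (tvp (qv 1)) y5 = y5 := by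
    rcases h1 with h | h | h
    · exact h
    · have := step _ (step _ h)
      rwa [o3] at this
    · have := step _ h
      rwa [o3] at this
  intro l hl
  rcases f4_cases l hl with rfl | rfl | rfl
  · exact all
  · have := step _ all; rwa [mul_one] at this
  · have := step _ (step _ all); rwa [mul_one] at this

/-- An involution of the centraliser moving the commutators commutes with no member interchanging the lines. -/
theorem moving_cent {y5 y6 w5 : V} (h5 : y5 ∈ R.X 5) (h6 : y6 ∈ R.X 6) (n5 : y5 ≠ 0) (n6 : y6 ≠ 0)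
    (e5 : R.r s0 w5 + w5 = y5) (et : R.r (tvp p0) y5 = y6)
    (e6 : R.r s0 (R.r (tvp p0) w5) + R.r (tvp p0) w5 = y6)
    (himg : ∀ v, R.r s0 v + v = 0 ∨ R.r s0 v + v = y5 ∨ R.r s0 v + v = y6 ∨ R.r s0 v + v = y5 + y6)
    {u : U4} (hu : Tr u) (hus : u * s0 = s0 * u) (hmove : R.r u y5 ≠ y5)
    {b : U4} (hbs : b * s0 = s0 * b) (hb2 : Tr (b * b)) (hbu : b * u = u * b) : Tr b := by
  rcases tr_or_swap hbs hb2 with t | ⟨c0, hc0, f0, f1⟩
  · exact t
  exfalso
  obtain ⟨a, β, c, ha, hc, hform⟩ := tr_coord hu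
  have hac : c = a := swap_diag hc0 f0 f1 hbu hform
  apply hmove
  -- the remaining transvections fix the commutators
  have hq := qv_fix hT h5 h6 n5 n6 e5 e6 himg
  have hs5 : R.r s0 y5 = y5 := by rw [← e5, map_add, R.r_invol s0_sq, add_comm]
  by_cases hβ : β = 0
  · rcases ha with ha | ha
    · rw [show u = 1 from su_ext fun v => by rw [hform, hac, ha, hβ, su_one_apply]; simp, R.r_one]
    · rw [show u = s0 from su_ext fun v => by
        rw [hform, hac, ha, hβ, s0_apply]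
        revert v
        decide +kernel]
      exact hs5
  · rcases ha with ha | ha
    · rw [show u = s0 * tvp (qv β) from su_ext fun v => by
        rw [hform, hac, ha, su_mul_apply, tvp_apply (qv_pt β), s0_apply]
        clear hform
        revert v β
        decide +kernel, R.r_mul, hq β hβ, hs5]
    · rw [show u = tvp (qv β) from su_ext fun v => by
        rw [hform, hac, ha, tvp_apply (qv_pt β)]
        clear hform
        revert v β
        decide +kernel]
      exact hq β hβ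

/-- An involution of the centraliser moving the commutators fixes the two points. -/
theorem moving_tr {y5 y6 w5 : V} (hw : w5 ∈ R.X 5) (h5 : y5 ∈ R.X 5) (h6 : y6 ∈ R.X 6) (n5 : y5 ≠ 0)
    (n6 : y6 ≠ 0) (e5 : R.r s0 w5 + w5 = y5) (et : R.r (tvp p0) y5 = y6)
    (e6 : R.r s0 (R.r (tvp p0) w5) + R.r (tvp p0) w5 = y6)
    (four : ∀ b ∈ R.X 5, b = 0 ∨ b = y5 ∨ b = w5 ∨ b = w5 + y5)
    (himg : ∀ v, R.r s0 v + v = 0 ∨ R.r s0 v + v = y5 ∨ R.r s0 v + v = y6 ∨ R.r s0 v + v = y5 + y6)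
    {u : U4} (hus : u * s0 = s0 * u) (hu2 : u * u = 1) (hmove : R.r u y5 ≠ y5) : Tr u := by
  rcases tr_or_swap hus (by rw [hu2]; exact ⟨su_one_apply _, su_one_apply _⟩) with t | ⟨c0, hc0, f0, -⟩
  · exact t
  exfalso
  have hu5 : R.r u y5 = y6 := by
    have h1 := perm_two hT h5 h6 n5 n6 himg (w := w5) (Or.inl e5) hus
    rw [e5] at h1
    exact h1.resolve_left hmove
  have hu6 : R.r u y6 = y5 := by rw [← hu5, R.r_invol hu2]
  have h23 : u * tvp p0 * u⁻¹ = tvp p1 := by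
    rw [tvp_conj p0_pt, f0, tvp_smul p1_pt.1 hc0]
  have hui : u⁻¹ = u := inv_eq_of_mul_eq_one_right hu2
  have t23 : tvp p1 = tvp p0 * s0 := by rw [s0_prod, ← mul_assoc, tvp_sq p0_pt, one_mul]
  set t := R.r (tvp p0) with htdef
  set m := w5 + t w5 with hm
  have hX : (5 : Fin 13) ≠ 6 := by decide
  -- the image of m
  set n := R.r u m with hn
  have himg' : n = R.r (tvp p1) (R.r u w5) + R.r u w5 := by
    rw [hn, hm, map_add, ← h23, hui, R.r_mul, R.r_mul, R.r_invol hu2, add_comm]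
  set b := R.bk 5 (R.r u w5) + t (R.bk 6 (R.r u w5) + R.r s0 (R.bk 6 (R.r u w5)) + R.bk 6 (R.r u w5)) with hb
  have hbm : b ∈ R.X 5 := add_mem (R.bk_mem 5 _) (t_six hT (add_mem (add_mem (R.bk_mem 6 _) (s_six hT (R.bk_mem 6 _)))
    (R.bk_mem 6 _)))
  have eb : n = b + t (R.r s0 b) := by
    set v := R.r u w5
    have hc : ∀ v, R.r s0 (t v) = t (R.r s0 v) := fun v => by rw [htdef, ← R.r_mul, s0_comm_t, R.r_mul]
    have ht : ∀ v, t (t v) = v := fun v => R.r_invol (tvp_sq p0_pt) v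
    rw [himg', t23, R.r_mul, ← htdef]
    conv_lhs => rw [dec3 hT v]
    simp only [map_add, Rep.tri_fix hT _ _ (R.e0_mem v), s_fix4 hT (R.bk_mem 4 v), htdef,
      t_fix4 hT (R.bk_mem 4 v)]
    simp only [← htdef, hb, map_add, hc, ht, R.r_invol s0_sq]
    rw [show ∀ p q r A B C E : V, p + (q + A + B) + (p + (q + C + E)) = (p + p) + (q + q) + (A + B + C + E) from
      fun p q r A B C E => by abel, two_self, two_self, zero_add, zero_add]
    · generalize t (R.r s0 (R.bk 5 v)) = A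
      generalize t (R.r s0 (R.bk 6 v)) = B
      generalize R.bk 5 v = C
      generalize R.bk 6 v = E
      generalize t E = F
      generalize R.r s0 E = S
      rw [show C + (F + B + F) + (A + (S + E + S)) = (F + F) + (S + S) + (A + B + C + E) by abel, two_self, two_self,
        zero_add, zero_add]
    · exact 0
  have hnn : R.r u n = m := R.r_invol hu2 m
  have hs5 : R.r s0 y5 = y5 := by rw [← e5, map_add, R.r_invol s0_sq, add_comm]
  have hsw : R.r s0 w5 = w5 + y5 := by rw [← e5, add_comm (R.r s0 w5), ← add_assoc, two_self, zero_add]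
  have hm0 : R.bk 5 m = w5 := by
    rw [hm, map_add, R.bk_self hw, R.bk_other (Ne.symm hX) (t_five hT hw), add_zero]
  have key : R.bk 5 m ≠ 0 ∧ R.bk 5 m ≠ y5 ∧ n ≠ 0 ∧ n ≠ y5 + y6 := by
    have w0 : w5 ≠ 0 := fun e => n5 (by rw [← e5, e, map_zero, add_zero])
    have wy : w5 ≠ y5 := fun e => w0 (by
      have : R.r s0 w5 + w5 = w5 := e5.trans e.symm
      rw [add_eq_right] at this
      exact (R.r s0).map_eq_zero_iff.1 this)
    rw [hm0]
    refine ⟨w0, wy, fun e => w0 ?_, fun e => wy ?_⟩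
    · rw [← hm0, ← hnn, e, map_zero, map_zero]
    · rw [← hm0, ← hnn, e, map_add, hu5, hu6, map_add, R.bk_other (Ne.symm hX) h6, R.bk_self h5, zero_add]
  rcases four b hbm with q | q | q | q
  · exact key.2.2.1 (by rw [eb, q, map_zero, map_zero, add_zero])
  · exact key.2.2.2 (by rw [eb, q, hs5, et])
  · have e : n = m + y6 := by rw [eb, q, hsw, map_add, et, hm, add_assoc]
    have h := hnn
    rw [e, map_add, ← hn, e, hu6, add_assoc] at h
    exact n5 (X_disjoint R hX h5 (eq_of_sum_zero (add_eq_left.1 h) ▸ h6))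
  · have e : n = m + y5 := by rw [eb, q, map_add, hs5, hsw, add_assoc w5 y5 y5, two_self, add_zero, hm]; abel
    have h := hnn
    rw [e, map_add, ← hn, e, hu5, add_assoc] at h
    exact n5 (X_disjoint R hX h5 ((eq_of_sum_zero (add_eq_left.1 h)) ▸ h6))

end CfsgLib.Fi22Cent
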