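import Cfsg.Agent.Fi22Cent.TriT
import Cfsg.Agent.Fi22Cent.InJ
import Cfsg.Agent.Fi22Cent.TriMoving

/-!
A good pair of the second class in the reducible case: the pairs meet.
-/

set_option autoImplicit false
set_option maxRecDepth 100000
set_option maxHeartbeats 1000000
set_option linter.style.haveILetI false
set_option linter.unusedSectionVars false

open scoped Matrix

namespace CfsgLib.Fi22Cent

open CfsgLib CfsgLib.U62Cent Subgroup
open CfsgLib.FiLarge (F4 om)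
open CfsgLib.Unitary (suMat suMat_mul suMat_one su_ext)

universe v

variable {G : Type*} [Group G] [Finite G] {V : Type v} [AddCommGroup V] [Module (ZMod 2) V]
  {z a : G} {R : Rep V}

/-- Four elements in two noncommuting pairs. -/
structure Quad (z' : G) (k : Fin 4 → G) : Prop where
  sq : ∀ i, k i * k i = 1 ∨ k i * k i = z'
  cen : ∀ i, Commute (k i) z'
  c01 : k 0 * k 1 = k 1 * k 0 * z'
  c23 : k 2 * k 3 = k 3 * k 2 * z'
  c02 : Commute (k 0) (k 2)
  c03 : Commute (k 0) (k 3)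
  c12 : Commute (k 1) (k 2)
  c13 : Commute (k 1) (k 3)

theorem Quad.map {z' : G} {k : Fin 4 → G} (h : Quad z' k) (c : G) :
    Quad (c * z' * c⁻¹) (fun i => c * k i * c⁻¹) where
  sq i := by
    show c * k i * c⁻¹ * (c * k i * c⁻¹) = 1 ∨ c * k i * c⁻¹ * (c * k i * c⁻¹) = c * z' * c⁻¹
    rcases h.sq i with e | e
    · left; rw [conj_mul, e]; group
    · right; rw [conj_mul, e]
  cen i := by simpa [MulAut.conj_apply] using (h.cen i).map (MulAut.conj c).toMonoidHom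
  c01 := by show c * k 0 * c⁻¹ * (c * k 1 * c⁻¹) = _; rw [conj_mul, h.c01]; group
  c23 := by show c * k 2 * c⁻¹ * (c * k 3 * c⁻¹) = _; rw [conj_mul, h.c23]; group
  c02 := by simpa [MulAut.conj_apply] using h.c02.map (MulAut.conj c).toMonoidHom
  c03 := by simpa [MulAut.conj_apply] using h.c03.map (MulAut.conj c).toMonoidHom
  c12 := by simpa [MulAut.conj_apply] using h.c12.map (MulAut.conj c).toMonoidHom
  c13 := by simpa [MulAut.conj_apply] using h.c13.map (MulAut.conj c).toMonoidHom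

namespace St

variable (D : St z a R)

include D

/-- Parity of a product. -/
theorem mul_mem_iff {g h : G} (hg : Commute g z) (hh : Commute h z) : g * h ∈ D.H0 ↔ (g ∈ D.H0 ↔ h ∈ D.H0) := by
  constructor
  · intro e
    constructor <;> intro h1
    · simpa using mul_mem (inv_mem h1) e
    · simpa using mul_mem e (inv_mem h1)
  · intro hiff
    by_cases h1 : g ∈ D.H0
    · exact mul_mem h1 (hiff.1 h1)
    · exact D.H0_two g h hg hh h1 fun e => h1 (hiff.2 e)

theorem meet_symm {g : G} (h : D.Meet g⁻¹) : D.Meet g := by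
  have key : ∀ b c : G, g⁻¹ * b * g⁻¹⁻¹ = c → g * c * g⁻¹ = b := fun b c e => by rw [← e]; group
  rcases h with (h | h) | h | h
  · exact Or.inl (Or.inl (key _ _ h))
  · exact Or.inr (Or.inl (key _ _ h))
  · exact Or.inl (Or.inr (key _ _ h))
  · exact Or.inr (Or.inr (key _ _ h))

variable {g : G} (hP : D.Good g) (hT : R.IsTri)

include hP hT

theorem inF_tri_s (he : D.ph (g * z * g⁻¹) = s0) {v : V} (hv : R.r s0 v = v) : D.InF (g * z * g⁻¹) v := by
  obtain ⟨w5, y5, y6, hw5, h5, h6, n5, n6, e5, et, e6, four, himg⟩ := s_pair hT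
  obtain ⟨k, hk, ek⟩ := D.ph_surj d3
  refine D.inF_all hP.x_mem hP.x_sq hk (by rw [ek, he, d3_s0]) (by rw [ek, d3_cube]) (fun w hw hd => ?_)
    (by rw [D.act_H0 hP.x_mem, he]; exact hv)
  rw [he] at hw ⊢
  rw [ek, r_M3] at hd
  refine ⟨R.e0 w, ?_⟩
  have h4 : R.bk 4 w = 0 := by
    have hb := R.bk_mem 4 w
    have h := congrArg (R.bk 4) hd
    rw [bk_act, R.act_X_two hb pair_M3.1] at h
    have hs := R.orb_sum hb
    rw [h, add_comm (R.bk 4 w), add_assoc, two_self, add_zero] at hs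
    rw [hs, map_zero] at h
    exact h.symm
  have hsum : R.r s0 (R.bk 5 w) + R.r s0 (R.bk 6 w) = R.bk 5 w + R.bk 6 w := by
    have h := hw
    rw [dec3 hT w, h4, zero_add, map_add, map_add, Rep.tri_fix hT _ _ (R.e0_mem w)] at h
    exact add_left_cancel h
  have hX : (5 : Fin 13) ≠ 6 := by decide
  have f5 : R.r s0 (R.bk 5 w) = R.bk 5 w := by
    have h := congrArg (R.bk 5) hsum
    rwa [map_add, map_add, R.bk_self (s_five hT (R.bk_mem 5 w)), R.bk_other (Ne.symm hX) (s_six hT (R.bk_mem 6 w)),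
      R.bk_self (R.bk_mem 5 w), R.bk_other (Ne.symm hX) (R.bk_mem 6 w), add_zero, add_zero] at h
  have f6 : R.r s0 (R.bk 6 w) = R.bk 6 w := by rwa [f5, add_right_inj] at hsum
  have hsm : ∀ b ∈ R.X 5, R.r s0 b = b → ∃ u, R.r s0 u + u = b := fun b hb hf => by
    rcases four b hb with rfl | rfl | rfl | rfl
    · exact ⟨0, by rw [map_zero, add_zero]⟩
    · exact ⟨w5, e5⟩
    · exact absurd (e5.symm.trans (by rw [hf, two_self])) n5
    · rw [map_add, show R.r s0 y5 = y5 by rw [← e5, map_add, R.r_invol s0_sq, add_comm], add_left_inj] at hf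
      exact absurd (e5.symm.trans (by rw [hf, two_self])) n5
  obtain ⟨u5, q5⟩ := hsm _ (R.bk_mem 5 w) f5
  obtain ⟨u6, q6⟩ := hsm (R.r (tvp p0) (R.bk 6 w)) (t_six hT (R.bk_mem 6 w))
    (by rw [← R.r_mul, s0_comm_t, R.r_mul, f6])
  have q6' : R.r s0 (R.r (tvp p0) u6) + R.r (tvp p0) u6 = R.bk 6 w := by
    rw [← R.r_mul s0, s0_comm_t, R.r_mul, ← map_add, q6, R.r_invol (tvp_sq p0_pt)]
  refine ⟨u5 + R.r (tvp p0) u6, fun u => Rep.tri_fix hT u _ (R.e0_mem w), ?_⟩
  conv_lhs => rw [dec3 hT w, h4, zero_add, ← q5, ← q6']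
  rw [map_add]
  abel

/-- An inner partner fixing the commutators gives a meeting. -/
theorem meet_s_fix (he : D.ph (g * z * g⁻¹) = s0) (hy : g * a * g⁻¹ ∈ D.H0) {y5 w5 : V} (h5 : y5 ∈ R.X 5)
    (n5 : y5 ≠ 0) (e5 : R.r s0 w5 + w5 = y5) (hfix : R.r (D.ph (g * a * g⁻¹)) y5 = y5) : D.Meet g := by
  set u := D.ph (g * a * g⁻¹) with hu
  have hu2 : u * u = 1 := by rw [hu, ← D.ph_mul _ hy _ hy, hP.y_sq, D.ph_one]
  have hs5 : R.r s0 y5 = y5 := by rw [← e5, map_add, R.r_invol s0_sq, add_comm]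
  have h5S : ¬ D.InS (g * z * g⁻¹) y5 := by
    have := D.not_inS_image hP.x_comm hP.x_comm_a hP.x_sq (w := w5)
    rw [D.act_H0 hP.x_mem, he, e5] at this
    exact this (by rw [R.q_block (Rep.tri_card4 hT).2.1 h5 n5]; exact one_ne_zero)
  have hF : ∀ v, R.r s0 v = v → R.r u v = v := fun v hv => by
    by_cases h : D.InS (g * z * g⁻¹) v
    · rw [hu, ← D.act_H0 hy]; exact hP.inS_fix_y h
    · have h1 := hP.inS_fix_y (D.inS_of_two (D.inF_tri_s hP hT he hv) (D.inF_tri_s hP hT he hs5) h h5S)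
      rw [D.act_H0 hy, ← hu, map_add, hfix, add_left_inj] at h1
      exact h1
  have key := Rep.image_uniq (R := R) hT hu2 s0_sq (g := s0)
    (fun e => by
      have h := (s0_fix ![1, 0, 0, 0]).1 (by rw [e, su_one_apply])
      exact absurd h (by decide +kernel))
    fun w => R.range_of_perp s0_sq fun v hv => R.perp_of_fix hu2 (hF v hv) w
  refine hP.meet_of_act ?_
  rcases key with e | e
  · exact Or.inl fun v => by rw [D.act_H0 hy, ← hu, e, R.r_one]
  · exact Or.inr fun v => by rw [D.act_H0 hy, ← hu, e, he]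

omit hP in
/-- The other side of a pattern. -/
theorem meet_quad {g : G} (hP : D.Good g) (he : D.ph (g * z * g⁻¹) = s0) {k : Fin 4 → G}
    (hk : Quad (g * z * g⁻¹) k) (hkz : ∀ i, Commute (k i) z) (hky : ∀ i, Commute (k i) (g * a * g⁻¹)) :
    D.Meet g := by
  classical
  set x := g * z * g⁻¹ with hx
  set y := g * a * g⁻¹ with hy
  have hph : ∀ {p q : G}, p ∈ D.H0 → q ∈ D.H0 → p * q = q * p * x → D.ph p * D.ph q = D.ph q * D.ph p * s0 :=
    fun {p q} hp hq e => by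
    rw [← D.ph_mul _ hp _ hq, e, D.ph_mul _ (mul_mem hq hp) _ hP.x_mem, D.ph_mul _ hq _ hp, he]
  have hphc : ∀ {p q : G}, p ∈ D.H0 → q ∈ D.H0 → Commute p q → D.ph p * D.ph q = D.ph q * D.ph p :=
    fun {p q} hp hq e => by rw [← D.ph_mul _ hp _ hq, e.eq, D.ph_mul _ hq _ hp]
  have hphs : ∀ {p : G}, p ∈ D.H0 → (p * p = 1 ∨ p * p = x) → D.ph p * D.ph p = 1 ∨ D.ph p * D.ph p = s0 :=
    fun {p} hp e => by
    rw [← D.ph_mul _ hp _ hp]
    rcases e with e | e <;> rw [e]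
    exacts [Or.inl D.ph_one, Or.inr he]
  by_cases hyH : y ∈ D.H0
  · -- an inner partner
    obtain ⟨w5, y5, y6, hw5, h5, h6, n5, n6, e5, et, e6, four, himg⟩ := s_pair hT
    by_cases hfix : R.r (D.ph y) y5 = y5
    · exact D.meet_s_fix hP hT he hyH h5 n5 e5 hfix
    exfalso
    have hu2 : D.ph y * D.ph y = 1 := by rw [← D.ph_mul _ hyH _ hyH, hP.y_sq, D.ph_one]
    have hus : D.ph y * s0 = s0 * D.ph y := by rw [← he]; exact hphc hyH hP.x_mem hP.xy_comm.symm
    have hu := moving_tr hT hw5 h5 h6 n5 n6 e5 et e6 four himg hus hu2 hfix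
    have tr : ∀ {p : G}, p ∈ D.H0 → Commute p x → Commute p y → (p * p = 1 ∨ p * p = x) → Tr (D.ph p) :=
      fun {p} hp px py p2 => moving_cent hT h5 h6 n5 n6 e5 et e6 himg hu hus hfix
        (by rw [← he]; exact hphc hp hP.x_mem px) (by
          rcases hphs hp p2 with e | e <;> rw [e]
          exacts [⟨su_one_apply _, su_one_apply _⟩, tr_s0]) (hphc hp hyH py)
    have done : ∀ {p q : G}, p ∈ D.H0 → q ∈ D.H0 → Commute p x → Commute p y → (p * p = 1 ∨ p * p = x) →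
        Commute q x → Commute q y → (q * q = 1 ∨ q * q = x) → p * q = q * p * x → False :=
      fun {p q} hp hq px py p2 qx qy q2 e => by
      have h1 := hph hp hq e
      rw [(tr hp px py p2).comm (tr hq qx qy q2)] at h1
      exact hP.ph_ne (he.trans (mul_eq_left.1 h1.symm))
    have sqm : ∀ {p q : G}, Commute p x → Commute q x → (p * p = 1 ∨ p * p = x) → (q * q = 1 ∨ q * q = x) →
        (p * q = q * p ∨ p * q = q * p * x) → p * q * (p * q) = 1 ∨ p * q * (p * q) = x :=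
      fun {p q} px qx p2 q2 e => by
      have e0 : p * q * (p * q) = p * p * (q * q) ∨ p * q * (p * q) = p * p * (q * q) * x := by
        rcases e with e | e
        · left; calc p * q * (p * q) = p * (q * p) * q := by group
            _ = p * (p * q) * q := by rw [e]
            _ = _ := by group
        · right
          have e' : q * p = p * q * x := by
            rw [e, mul_assoc, hP.x_sq, mul_one]
          calc p * q * (p * q) = p * (q * p) * q := by group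
            _ = p * p * q * (x * q) := by rw [e']; group
            _ = _ := by rw [← qx.eq]; group
      have hxx : x * x = 1 := hP.x_sq
      rcases e0 with r | r <;> rcases p2 with r1 | r1 <;> rcases q2 with r2 | r2 <;>
        rw [r, r1, r2] <;> simp [hxx]
    obtain ⟨s2, c2, c01, c23, c02, c03, c12, c13⟩ := hk
    by_cases a01 : k 0 ∈ D.H0 ∧ k 1 ∈ D.H0
    · exact done a01.1 a01.2 (c2 0) (hky 0) (s2 0) (c2 1) (hky 1) (s2 1) c01
    by_cases a23 : k 2 ∈ D.H0 ∧ k 3 ∈ D.H0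
    · exact done a23.1 a23.2 (c2 2) (hky 2) (s2 2) (c2 3) (hky 3) (s2 3) c23
    obtain ⟨n', hn', hn'z, n'x, n'y, n'2, n'0, n'1⟩ : ∃ n', n' ∉ D.H0 ∧ Commute n' z ∧ Commute n' x ∧ Commute n' y ∧
        (n' * n' = 1 ∨ n' * n' = x) ∧ Commute (k 0) n' ∧ Commute (k 1) n' := by
      by_cases q : k 2 ∈ D.H0
      · exact ⟨k 3, fun e => a23 ⟨q, e⟩, hkz 3, c2 3, hky 3, s2 3, c03, c13⟩
      · exact ⟨k 2, q, hkz 2, c2 2, hky 2, s2 2, c02, c12⟩
    have fin : ∀ p n : G, p ∈ D.H0 → n ∉ D.H0 → Commute n z → Commute p x → Commute p y → (p * p = 1 ∨ p * p = x) →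
        Commute n x → Commute n y → (n * n = 1 ∨ n * n = x) → p * n = n * p * x → Commute p n' → Commute n n' →
        False := fun p n hp hn hnz px py p2 nx ny n2 e c1 c2' =>
      done hp (D.H0_two n n' hnz hn'z hn hn') px py p2 (nx.mul_left n'x) (ny.mul_left n'y)
        (sqm nx n'x n2 n'2 (Or.inl c2'.eq)) (by
          calc p * (n * n') = n * p * x * n' := by rw [← mul_assoc, e]
            _ = n * (p * n') * x := by rw [mul_assoc _ x n', ← n'x.eq]; group
            _ = n * n' * p * x := by rw [c1.eq]; group)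
    have c10 : k 1 * k 0 = k 0 * k 1 * x := by rw [c01, mul_assoc _ x x, hP.x_sq, mul_one]
    by_cases q0 : k 0 ∈ D.H0
    · exact fin _ _ q0 (fun e => a01 ⟨q0, e⟩) (hkz 1) (c2 0) (hky 0) (s2 0) (c2 1) (hky 1) (s2 1) c01 n'0 n'1
    by_cases q1 : k 1 ∈ D.H0
    · exact fin _ _ q1 q0 (hkz 0) (c2 1) (hky 1) (s2 1) (c2 0) (hky 0) (s2 0) c10 n'1 n'0
    refine fin (k 0 * k 1) (k 1) (D.H0_two _ _ (hkz 0) (hkz 1) q0 q1) q1 (hkz 1) ((c2 0).mul_left (c2 1))
      ((hky 0).mul_left (hky 1)) (sqm (c2 0) (c2 1) (s2 0) (s2 1) (Or.inr c01)) (c2 1) (hky 1) (s2 1) ?_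
      (n'0.mul_left n'1) n'1
    conv_lhs => rw [c01]
    rw [mul_assoc (k 1 * k 0) x, ← (c2 1).eq]
    group
  · -- an outer partner: all can be moved inside
    exfalso
    have hyx : Commute y x := hP.xy_comm.symm
    let p : Fin 4 → G := fun i => if k i ∈ D.H0 then k i else k i * y
    have hp : ∀ i, p i ∈ D.H0 ∧ ∃ c : G, (c = 1 ∨ c = y) ∧ p i = k i * c := fun i => by
      by_cases q : k i ∈ D.H0
      · exact ⟨by simp [p, q], 1, Or.inl rfl, by simp [p, q]⟩
      · exact ⟨by simpa [p, q] using D.H0_two _ _ (hkz i) hP.y_comm q hyH, y, Or.inr rfl, by simp [p, q]⟩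
    choose hpH c hc ep using hp
    have hcc : ∀ i, c i * c i = 1 ∧ Commute (c i) x ∧ (∀ j, Commute (k j) (c i)) ∧ ∀ j, Commute (c i) (c j) := fun i => by
      rcases hc i with e | e <;> rw [e]
      · exact ⟨mul_one 1, Commute.one_left x, fun j => Commute.one_right _, fun j => Commute.one_left _⟩
      · refine ⟨hP.y_sq, hyx, hky, fun j => ?_⟩
        rcases hc j with e' | e' <;> rw [e']
        exact Commute.one_right y
    have s : ∀ i, p i * p i = 1 ∨ p i * p i = x := fun i => by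
      rw [ep, show k i * c i * (k i * c i) = k i * (c i * k i) * c i by group, ← ((hcc i).2.2.1 i).eq,
        show k i * (k i * c i) * c i = k i * k i * (c i * c i) by group, (hcc i).1, mul_one]
      exact hk.sq i
    have cx : ∀ i, Commute (p i) x := fun i => by rw [ep]; exact (hk.cen i).mul_left (hcc i).2.1
    have ord : ∀ i j, p i * p j = k i * k j * (c i * c j) ∧ p j * p i = k j * k i * (c i * c j) := fun i j => by
      rw [ep, ep]
      constructor
      · rw [show k i * c i * (k j * c j) = k i * (c i * k j) * c j by group, ← ((hcc i).2.2.1 j).eq]; group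
      · rw [show k j * c j * (k i * c i) = k j * (c j * k i) * c i by group, ← ((hcc j).2.2.1 i).eq,
          ((hcc i).2.2.2 j).eq]; group
    have cm : ∀ i j, Commute (k i) (k j) → Commute (p i) (p j) := fun i j h => by
      show _ = _
      rw [(ord i j).1, (ord i j).2, h.eq]
    have kk : ∀ i j, k i * k j = k j * k i * x → p i * p j = p j * p i * x := fun i j h => by
      rw [(ord i j).1, (ord i j).2, h, mul_assoc _ x, ← (((hcc i).2.1).mul_left (hcc j).2.1).eq]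
      group
    exact no_extra (hphs (hpH 0) (s 0)) (hphs (hpH 1) (s 1)) (hphs (hpH 2) (s 2)) (hphs (hpH 3) (s 3))
      (by rw [← he]; exact hphc (hpH 0) hP.x_mem (cx 0)) (by rw [← he]; exact hphc (hpH 1) hP.x_mem (cx 1))
      (by rw [← he]; exact hphc (hpH 2) hP.x_mem (cx 2)) (by rw [← he]; exact hphc (hpH 3) hP.x_mem (cx 3))
      (hph (hpH 0) (hpH 1) (kk 0 1 hk.c01)) (hph (hpH 2) (hpH 3) (kk 2 3 hk.c23))
      (hphc (hpH 0) (hpH 2) (cm 0 2 hk.c02)) (hphc (hpH 0) (hpH 3) (cm 0 3 hk.c03))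
      (hphc (hpH 1) (hpH 2) (cm 1 2 hk.c12)) (hphc (hpH 1) (hpH 3) (cm 1 3 hk.c13))

/-- Lifts in two noncommuting pairs commuting with the involution. -/
theorem exists_quad (he : D.ph (g * z * g⁻¹) = s0) :
    ∃ k : Fin 4 → G, Quad z k ∧ ∀ i, k i ∈ D.J ∧ Commute (k i) (g * z * g⁻¹) := by
  classical
  set x := g * z * g⁻¹ with hx
  obtain ⟨w5, y5, y6, hw5, h5, h6, n5, n6, e5, et, e6, four, himg⟩ := s_pair hT
  have hs5 : R.r s0 y5 = y5 := by rw [← e5, map_add, R.r_invol s0_sq, add_comm]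
  have h5S : ¬ D.InS x y5 := by
    have := D.not_inS_image hP.x_comm hP.x_comm_a hP.x_sq (w := w5)
    rw [D.act_H0 hP.x_mem, he, e5] at this
    exact this (by rw [R.q_block (Rep.tri_card4 hT).2.1 h5 n5]; exact one_ne_zero)
  -- adjusted lifts
  have adj : ∀ v : V, (v ∈ R.X0 ∨ v ∈ R.X 4) →
      ∃ j ∈ D.J, Commute j x ∧ (D.pr j = v ∨ D.pr j = v + y5) := fun v hv => by
    have hfix : R.r s0 v = v := hv.elim (fun h => Rep.tri_fix hT _ _ h) (fun h => s_fix4 hT h)
    by_cases h : D.InS x v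
    · obtain ⟨j, hj, e, hjx⟩ := h; exact ⟨j, hj, hjx, Or.inl e⟩
    · obtain ⟨j, hj, e, hjx⟩ := D.inS_of_two (D.inF_tri_s hP hT he hfix) (D.inF_tri_s hP hT he hs5) h h5S
      exact ⟨j, hj, hjx, Or.inr e⟩
  obtain ⟨u0, hu0, u00, -, u1, hu1, u10, u11⟩ := Rep.X0_vectors (R := R) hT
  obtain ⟨b, hb, b0⟩ := Submodule.exists_mem_ne_zero_of_ne_bot
    (show R.X 4 ≠ ⊥ from fun e => by have := (Rep.tri_card4 hT).1; rw [e] at this; simp at this)
  have hb' := R.rot_mem hb
  have hbc : R.B b (R.rot 4 b) = 1 := by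
    have hsum : b + R.rot 4 b ≠ 0 := fun e => b0 (R.rot_ne hb (eq_of_sum_zero e).symm)
    have h := R.q_block (Rep.tri_card4 hT).1 (add_mem hb hb') hsum
    rw [R.q_add, R.q_block (Rep.tri_card4 hT).1 hb b0, R.q_block (Rep.tri_card4 hT).1 hb' (fun e => b0 (by
      have hs := R.orb_sum hb; rwa [e, map_zero, add_zero, add_zero] at hs))] at h
    exact (by decide : ∀ c : ZMod 2, 1 + 1 + c = 1 → c = 1) _ h
  have hu01 : R.B u0 u1 = 1 := ((by decide : ∀ b : ZMod 2, b = 0 ∨ b = 1) _).resolve_left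
    (Rep.X0_pair hT hu0 hu1 u00 u10 (Ne.symm u11))
  obtain ⟨j0, m0, x0, e0⟩ := adj u0 (Or.inl hu0)
  obtain ⟨j1, m1, x1, e1⟩ := adj u1 (Or.inl hu1)
  obtain ⟨j2, m2, x2, e2⟩ := adj b (Or.inr hb)
  obtain ⟨j3, m3, x3, e3⟩ := adj (R.rot 4 b) (Or.inr hb')
  have hB : ∀ {i j v w}, (D.pr i = v ∨ D.pr i = v + y5) → (D.pr j = w ∨ D.pr j = w + y5) →
      (v ∈ R.X0 ∨ v ∈ R.X 4) → (w ∈ R.X0 ∨ w ∈ R.X 4) → R.B (D.pr i) (D.pr j) = R.B v w :=
    fun {i j v w} hi hj hv hw => by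
    have o : ∀ {u : V}, (u ∈ R.X0 ∨ u ∈ R.X 4) → R.B u y5 = 0 ∧ R.B y5 u = 0 := fun {u} hu => by
      have : R.B u y5 = 0 := hu.elim (fun h => R.blk_orth0 h h5)
        (fun h => R.blk_orth (show (4 : Fin 13) ≠ 5 by decide) h h5)
      exact ⟨this, by rw [R.B_comm]; exact this⟩
    rcases hi with r | r <;> rcases hj with r' | r' <;> rw [r, r'] <;>
      simp only [R.B_add_left, R.B_add_right, (o hv).1, (o hw).2, R.B_smul_self, add_zero]
  have zc : R.B u0 b = 0 ∧ R.B u0 (R.rot 4 b) = 0 ∧ R.B u1 b = 0 ∧ R.B u1 (R.rot 4 b) = 0 :=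
    ⟨R.blk_orth0 hu0 hb, R.blk_orth0 hu0 hb', R.blk_orth0 hu1 hb, R.blk_orth0 hu1 hb'⟩
  have hq : Quad z (![j0, j1, j2, j3] : Fin 4 → G) := by
    refine ⟨fun i => ?_, fun i => ?_, ?_, ?_, ?_, ?_, ?_, ?_⟩
    · fin_cases i <;> exact D.sq_cases ‹_›
    · fin_cases i <;> exact D.J_comm _ ‹_›
    · show j0 * j1 = j1 * j0 * z
      rw [D.comm j0 m0 j1 m1, hB e0 e1 (Or.inl hu0) (Or.inl hu1), hu01, if_neg one_ne_zero]
    · show j2 * j3 = j3 * j2 * z
      rw [D.comm j2 m2 j3 m3, hB e2 e3 (Or.inr hb) (Or.inr hb'), hbc, if_neg one_ne_zero]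
    · exact (D.comm_iff m0 m2).2 (by rw [hB e0 e2 (Or.inl hu0) (Or.inr hb), zc.1])
    · exact (D.comm_iff m0 m3).2 (by rw [hB e0 e3 (Or.inl hu0) (Or.inr hb'), zc.2.1])
    · exact (D.comm_iff m1 m2).2 (by rw [hB e1 e2 (Or.inl hu1) (Or.inr hb), zc.2.2.1])
    · exact (D.comm_iff m1 m3).2 (by rw [hB e1 e3 (Or.inl hu1) (Or.inr hb'), zc.2.2.2])
  exact ⟨![j0, j1, j2, j3], hq, fun i => by fin_cases i <;> exact ⟨‹_›, ‹_›⟩⟩

/-- The second class. -/
theorem meet_tri_s (he : D.ph (g * z * g⁻¹) = s0) : D.Meet g := by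
  classical
  set x := g * z * g⁻¹ with hx
  obtain ⟨j, hq, hmem⟩ := D.exists_quad hP hT he
  have hk := hq.map g⁻¹
  set k : Fin 4 → G := fun i => g⁻¹ * j i * g⁻¹⁻¹ with hkdef
  have hkz : ∀ i, Commute (k i) z := fun i => by
    have := (hmem i).2.map (MulAut.conj g⁻¹).toMonoidHom
    simpa [hkdef, hx, MulAut.conj_apply, mul_assoc] using this
  have hky : ∀ i, Commute (k i) (g⁻¹ * a * g⁻¹⁻¹) := fun i => by
    simpa [hkdef, MulAut.conj_apply] using (D.J_comm_a _ (hmem i).1).map (MulAut.conj g⁻¹).toMonoidHom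
  set z' := g⁻¹ * z * g⁻¹⁻¹ with hz'
  have hz'z : Commute z' z := by
    have := hP.x_comm.symm.map (MulAut.conj g⁻¹).toMonoidHom
    simpa [hz', hx, MulAut.conj_apply, mul_assoc] using this
  have hy'z : Commute (g⁻¹ * a * g⁻¹⁻¹) z := by
    have := hP.x_comm_a.symm.map (MulAut.conj g⁻¹).toMonoidHom
    simpa [hx, MulAut.conj_apply, mul_assoc] using this
  have hz'H : z' ∈ D.H0 := by
    have h1 := D.mul_mem_iff (hkz 0) (hkz 1)
    have h2 := D.mul_mem_iff ((hkz 1).mul_left (hkz 0)) hz'z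
    have h3 := D.mul_mem_iff (hkz 1) (hkz 0)
    have e01 : k 1 * k 0 * z' = k 0 * k 1 := hk.c01.symm
    rw [e01] at h2
    tauto
  refine D.meet_symm ?_
  by_cases hz'J : z' ∈ D.J
  · exact D.meet_inJ (mv_tri hT) hP.iso hz'J hy'z
  have hP' : D.Good g⁻¹ := ⟨hP.iso, hz'H, hz'J, hy'z⟩
  have norm : ∀ c e : U4, c * D.ph z' * c⁻¹ = e →
      ∃ h ∈ D.H0, D.ph (h * g⁻¹ * z * (h * g⁻¹)⁻¹) = e := fun c e hc => by
    obtain ⟨h, hh, rfl⟩ := D.ph_surj c
    refine ⟨h, hh, ?_⟩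
    rw [show h * g⁻¹ * z * (h * g⁻¹)⁻¹ = h * z' * h⁻¹ by rw [hz']; group,
      D.ph_mul _ (mul_mem hh hz'H) _ (inv_mem hh), D.ph_mul _ hh _ hz'H, D.ph_inv hh, hc]
  rcases invol_cases hP'.ph_sq hP'.ph_ne with ⟨p, hp, e⟩ | ⟨c, hc⟩
  · obtain ⟨c, hc⟩ := to_p0 hp
    obtain ⟨h, hh, e'⟩ := norm c (tvp p0) (by rw [hz', e, tvp_conj hp, hc])
    exact D.meet_move hh (D.meet_tri_t (St.Good.move D hP' hh) hT e')
  · obtain ⟨h, hh, e'⟩ := norm c s0 (by rw [hz']; exact hc)
    have hconj : ∀ w : G, h * (g⁻¹ * w * g⁻¹⁻¹) * h⁻¹ = h * g⁻¹ * w * (h * g⁻¹)⁻¹ := fun w => by group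
    have hh' := D.H0_comm h hh
    refine D.meet_move hh (D.meet_quad hT (St.Good.move D hP' hh) e' (k := fun i => h * k i * h⁻¹) ?_ ?_ ?_)
    · rw [← hconj]
      exact hk.map h
    · exact fun i => (hh'.mul_left (hkz i)).mul_left hh'.inv_left
    · intro i
      rw [← hconj]
      simpa [MulAut.conj_apply] using (hky i).map (MulAut.conj h).toMonoidHom

end St

end CfsgLib.Fi22Cent
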